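import Mathlib

set_option autoImplicit false

namespace Cfsg.Agent.Lib.Helper62

variable {G : Type*} [Group G]

/-- the conjugate `g S g⁻¹` of a subgroup -/
abbrev cj (g : G) (S : Subgroup G) : Subgroup G := S.map (MulAut.conj g).toMonoidHom

theorem mem_cj {g : G} {S : Subgroup G} {y : G} : y ∈ cj g S ↔ g⁻¹ * y * g ∈ S := by
  constructor
  · rintro ⟨k, hk, rfl⟩
    simp only [MulEquiv.toMonoidHom_eq_coe, MonoidHom.coe_coe, MulAut.conj_apply]
    have : g⁻¹ * (g * k * g⁻¹) * g = k := by group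
    rw [this]; exact hk
  · intro h
    refine ⟨g⁻¹ * y * g, h, ?_⟩
    simp only [MulEquiv.toMonoidHom_eq_coe, MonoidHom.coe_coe, MulAut.conj_apply]
    group

theorem conj_mem_cj {g : G} {S : Subgroup G} {y : G} (hy : y ∈ S) : g * y * g⁻¹ ∈ cj g S := by
  rw [mem_cj]
  have : g⁻¹ * (g * y * g⁻¹) * g = y := by group
  rw [this]; exact hy

theorem cj_one (S : Subgroup G) : cj 1 S = S := by
  ext y; rw [mem_cj]; simp

theorem cj_mul (g h : G) (S : Subgroup G) : cj (g * h) S = cj g (cj h S) := by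
  ext y
  rw [mem_cj, mem_cj, mem_cj]
  have : (g * h)⁻¹ * y * (g * h) = h⁻¹ * (g⁻¹ * y * g) * h := by group
  rw [this]

theorem cj_inv_cj (g : G) (S : Subgroup G) : cj g⁻¹ (cj g S) = S := by
  rw [← cj_mul, inv_mul_cancel, cj_one]

theorem cj_cj_inv (g : G) (S : Subgroup G) : cj g (cj g⁻¹ S) = S := by
  rw [← cj_mul, mul_inv_cancel, cj_one]

theorem cj_mono (g : G) {S T : Subgroup G} (h : S ≤ T) : cj g S ≤ cj g T :=
  Subgroup.map_mono h

theorem cj_le_iff {g : G} {S T : Subgroup G} : cj g S ≤ T ↔ S ≤ cj g⁻¹ T := by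
  constructor
  · intro h
    have := cj_mono g⁻¹ h
    rwa [cj_inv_cj] at this
  · intro h
    have := cj_mono g h
    rwa [cj_cj_inv] at this

theorem cj_le_cj_iff {g : G} {S T : Subgroup G} : cj g S ≤ cj g T ↔ S ≤ T := by
  rw [cj_le_iff, cj_inv_cj]

theorem cj_injective (g : G) : Function.Injective (cj g : Subgroup G → Subgroup G) := by
  intro S T h
  have := congrArg (cj g⁻¹) h
  rwa [cj_inv_cj, cj_inv_cj] at this

theorem cj_bot (g : G) : cj g (⊥ : Subgroup G) = ⊥ := Subgroup.map_bot _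

theorem cj_eq_bot_iff {g : G} {S : Subgroup G} : cj g S = ⊥ ↔ S = ⊥ := by
  constructor
  · intro h
    apply cj_injective g
    rw [h, cj_bot]
  · rintro rfl; exact cj_bot g

theorem cj_sup (g : G) (S T : Subgroup G) : cj g (S ⊔ T) = cj g S ⊔ cj g T :=
  Subgroup.map_sup _ _ _

theorem cj_inf (g : G) (S T : Subgroup G) : cj g (S ⊓ T) = cj g S ⊓ cj g T :=
  Subgroup.map_inf_eq _ _ _ (MulAut.conj g).injective

theorem mem_normalizer_iff_cj {g : G} {S : Subgroup G} :
    g ∈ Subgroup.normalizer (S : Set G) ↔ cj g S = S :=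
  Subgroup.mem_normalizer_iff_map_conj_eq

theorem le_normalizer_iff_cj {A S : Subgroup G} :
    A ≤ Subgroup.normalizer (S : Set G) ↔ ∀ a ∈ A, cj a S = S := by
  constructor
  · intro h a ha; exact mem_normalizer_iff_cj.mp (h ha)
  · intro h a ha; exact mem_normalizer_iff_cj.mpr (h a ha)

/-- it is enough to check `cj a S ≤ S` for all `a` in a subgroup -/
theorem le_normalizer_of_cj_le {A S : Subgroup G} (h : ∀ a ∈ A, cj a S ≤ S) :
    A ≤ Subgroup.normalizer (S : Set G) := by
  rw [le_normalizer_iff_cj]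
  intro a ha
  apply le_antisymm (h a ha)
  have := h a⁻¹ (A.inv_mem ha)
  rw [cj_le_iff, inv_inv] at this
  exact this

theorem le_normalizer_sup {A S T : Subgroup G} (hS : A ≤ Subgroup.normalizer (S : Set G))
    (hT : A ≤ Subgroup.normalizer (T : Set G)) : A ≤ Subgroup.normalizer ((S ⊔ T : Subgroup G) : Set G) := by
  rw [le_normalizer_iff_cj] at *
  intro a ha
  rw [cj_sup, hS a ha, hT a ha]

theorem le_normalizer_inf {A S T : Subgroup G} (hS : A ≤ Subgroup.normalizer (S : Set G))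
    (hT : A ≤ Subgroup.normalizer (T : Set G)) : A ≤ Subgroup.normalizer ((S ⊓ T : Subgroup G) : Set G) := by
  rw [le_normalizer_iff_cj] at *
  intro a ha
  rw [cj_inf, hS a ha, hT a ha]

/-- If `h` normalizes `A` and `S` is `A`-invariant then `cj h S` is `A`-invariant. -/
theorem le_normalizer_cj {A S : Subgroup G} {h : G} (hh : h ∈ Subgroup.normalizer (A : Set G))
    (hS : A ≤ Subgroup.normalizer (S : Set G)) : A ≤ Subgroup.normalizer ((cj h S : Subgroup G) : Set G) := by
  rw [le_normalizer_iff_cj] at *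
  intro a ha
  have h1 : h⁻¹ * a * h ∈ A := by
    have := (Subgroup.mem_set_normalizer_iff''.mp hh a).mp ha
    exact this
  have h2 := hS _ h1
  calc cj a (cj h S) = cj (a * h) S := (cj_mul a h S).symm
    _ = cj (h * (h⁻¹ * a * h)) S := by congr 1; group
    _ = cj h (cj (h⁻¹ * a * h) S) := cj_mul _ _ _
    _ = cj h S := by rw [h2]

/-- elements of a join of two elementwise commuting subgroups are products -/
theorem mem_sup_of_commute {S T : Subgroup G} (hc : ∀ s ∈ S, ∀ t ∈ T, s * t = t * s) {x : G}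
    (hx : x ∈ S ⊔ T) : ∃ s ∈ S, ∃ t ∈ T, x = s * t := by
  let P : Subgroup G :=
    { carrier := {x | ∃ s ∈ S, ∃ t ∈ T, x = s * t}
      one_mem' := ⟨1, S.one_mem, 1, T.one_mem, by simp⟩
      mul_mem' := by
        rintro a b ⟨s, hs, t, ht, rfl⟩ ⟨s', hs', t', ht', rfl⟩
        refine ⟨s * s', S.mul_mem hs hs', t * t', T.mul_mem ht ht', ?_⟩
        calc s * t * (s' * t') = s * (t * s') * t' := by group
          _ = s * (s' * t) * t' := by rw [hc s' hs' t ht]
          _ = s * s' * (t * t') := by group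
      inv_mem' := by
        rintro a ⟨s, hs, t, ht, rfl⟩
        refine ⟨s⁻¹, S.inv_mem hs, t⁻¹, T.inv_mem ht, ?_⟩
        have := hc s⁻¹ (S.inv_mem hs) t⁻¹ (T.inv_mem ht)
        rw [mul_inv_rev, this] }
  have hS : S ≤ P := fun s hs => ⟨s, hs, 1, T.one_mem, by simp⟩
  have hT : T ≤ P := fun t ht => ⟨1, S.one_mem, t, ht, by simp⟩
  exact (sup_le hS hT) hx

end Cfsg.Agent.Lib.Helper62
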