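import Mathlib
import Cfsg.Prelude.Def_Solvable
import Cfsg.Prelude.Def_OddOrderLocal
import Cfsg.Agent.Lib.Helper62.Conj

set_option autoImplicit false

namespace Cfsg.Agent.Lib.Helper62

variable {G : Type*} [Group G]

/-- every prime divisor of the order of `N` lies in `π` -/
def IsPi (π : Set ℕ) (N : Subgroup G) : Prop := ∀ p : ℕ, p.Prime → p ∣ Nat.card N → p ∈ π

theorem IsPi.mono {π : Set ℕ} {N M : Subgroup G} (h : N ≤ M) (hM : IsPi π M) : IsPi π N :=
  fun p hp hpN => hM p hp (hpN.trans (Subgroup.card_dvd_of_le h))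

theorem isPi_bot (π : Set ℕ) : IsPi π (⊥ : Subgroup G) := by
  intro p hp hpN
  rw [Subgroup.card_bot] at hpN
  exact absurd (Nat.dvd_one.mp hpN) hp.one_lt.ne'

theorem card_sup_dvd_mul (H K : Subgroup G) [K.Normal] :
    Nat.card (H ⊔ K : Subgroup G) ∣ Nat.card H * Nat.card K := by
  have h1 : Nat.card K * K.relIndex (H ⊔ K) = Nat.card (H ⊔ K : Subgroup G) := by
    have := Subgroup.relIndex_mul_relIndex (⊥ : Subgroup G) K (H ⊔ K) bot_le le_sup_right
    rwa [Subgroup.relIndex_bot_left, Subgroup.relIndex_bot_left] at this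
  rw [← h1, Subgroup.relIndex_sup_right, mul_comm]
  exact Nat.mul_dvd_mul_right (Subgroup.relIndex_dvd_card K H) _

theorem IsPi.sup {π : Set ℕ} {N M : Subgroup G} [M.Normal] (hN : IsPi π N) (hM : IsPi π M) :
    IsPi π (N ⊔ M) := by
  intro p hp hpNM
  rcases (hp.dvd_mul).mp (hpNM.trans (card_sup_dvd_mul N M)) with h | h
  · exact hN p hp h
  · exact hM p hp h

theorem le_piCore {π : Set ℕ} {N : Subgroup G} (hn : N.Normal) (hN : IsPi π N) :
    N ≤ Cfsg.piCore π G := le_sSup ⟨hn, hN⟩

/-- In a finite group, `O_π(G)` is a `π`-group. -/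
theorem isPi_piCore [Finite G] (π : Set ℕ) : IsPi π (Cfsg.piCore π G) := by
  classical
  set S : Set (Subgroup G) := {N : Subgroup G | N.Normal ∧ IsPi π N} with hS
  have hne : S.Nonempty := ⟨⊥, inferInstance, isPi_bot π⟩
  obtain ⟨M, hMS, hmax⟩ := (Set.toFinite S).exists_maximal hne
  have hle : ∀ N ∈ S, N ≤ M := by
    intro N hN
    haveI : N.Normal := hN.1
    haveI : M.Normal := hMS.1
    have hsup : M ⊔ N ∈ S := ⟨inferInstance, hMS.2.sup hN.2⟩
    exact le_sup_right.trans (hmax hsup le_sup_left)
  have : Cfsg.piCore π G = M := le_antisymm (sSup_le hle) (le_sSup hMS)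
  rw [this]
  exact hMS.2

theorem isPi_map_of_injective {π : Set ℕ} {H : Type*} [Group H] {f : H →* G}
    (hf : Function.Injective f) {N : Subgroup H} :
    IsPi π (N.map f) ↔ ∀ p : ℕ, p.Prime → p ∣ Nat.card N → p ∈ π := by
  unfold IsPi
  rw [Subgroup.card_map_of_injective hf]

theorem isPi_cj {π : Set ℕ} {N : Subgroup G} (g : G) (hN : IsPi π N) : IsPi π (cj g N) := by
  rw [isPi_map_of_injective (MulAut.conj g).injective]
  exact hN

/-- key induction: a normal `π`-subgroup of a subnormal subgroup lies in `O_π(G)` -/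
theorem normal_pi_of_subnormal_le_piCore [Finite G] (π : Set ℕ) {K : Subgroup G}
    (hK : K.IsSubnormal) :
    ∀ B : Subgroup G, B ≤ K → K ≤ Subgroup.normalizer (B : Set G) → IsPi π B →
      B ≤ Cfsg.piCore π G := by
  induction hK with
  | top =>
    intro B _ hBn hB
    exact le_piCore (Subgroup.normalizer_eq_top_iff.mp (top_le_iff.mp hBn)) hB
  | step K K' hKK' hK' hKn ih =>
    intro B hBK hBn hB
    rw [Subgroup.normal_subgroupOf_iff_le_normalizer hKK'] at hKn
    -- the normal closure of B in K'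
    set B' : Subgroup G := ⨆ k : K', cj (k : G) B with hB'
    have hBB' : B ≤ B' := by
      have := le_iSup (fun k : K' => cj (k : G) B) 1
      simpa [cj_one] using this
    have hcjK : ∀ k : K', cj (k : G) B ≤ K := by
      intro k
      have := cj_mono (k : G) hBK
      rwa [mem_normalizer_iff_cj.mp (hKn k.2)] at this
    have hB'K : B' ≤ K := iSup_le hcjK
    have hB'n : K' ≤ Subgroup.normalizer (B' : Set G) := by
      apply le_normalizer_of_cj_le
      intro k' hk'
      rw [hB']
      unfold cj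
      rw [Subgroup.map_iSup]
      apply iSup_le
      intro k
      have : (cj (k : G) B).map (MulAut.conj k').toMonoidHom = cj ((⟨k', hk'⟩ * k : K') : G) B := by
        change cj k' (cj (k : G) B) = _
        rw [← cj_mul]
        rfl
      rw [this]
      exact le_iSup (fun k : K' => cj (k : G) B) (⟨k', hk'⟩ * k)
    -- B' is a π-group: work inside K
    have hB'pi : IsPi π B' := by
      have h1 : ∀ k : K', (cj (k : G) B).subgroupOf K ≤ Cfsg.piCore π K := by
        intro k
        apply le_piCore
        · rw [Subgroup.normal_subgroupOf_iff_le_normalizer (hcjK k)]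
          exact le_normalizer_cj (hKn k.2) hBn
        · intro p hp hpd
          have e : Nat.card ((cj (k : G) B).subgroupOf K) = Nat.card (cj (k : G) B) := by
            rw [← Subgroup.card_map_of_injective (Subgroup.subtype_injective K),
              Subgroup.map_subgroupOf_eq_of_le (hcjK k)]
          rw [e] at hpd
          exact isPi_cj _ hB p hp hpd
      have h2 : B'.subgroupOf K ≤ Cfsg.piCore π K := by
        intro x hx
        rw [Subgroup.mem_subgroupOf] at hx
        -- x.1 ∈ ⨆ cj k B
        have h3 : B' ≤ (Cfsg.piCore π K).map K.subtype := by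
          apply iSup_le
          intro k
          have := Subgroup.map_mono (f := K.subtype) (h1 k)
          rwa [Subgroup.map_subgroupOf_eq_of_le (hcjK k)] at this
        obtain ⟨y, hy, hyx⟩ := h3 hx
        have : y = x := Subtype.ext hyx
        rwa [this] at hy
      have h4 : IsPi π (B'.subgroupOf K) := (isPi_piCore (G := K) π).mono h2
      intro p hp hpd
      have e : Nat.card (B'.subgroupOf K) = Nat.card B' := by
        rw [← Subgroup.card_map_of_injective (Subgroup.subtype_injective K),
          Subgroup.map_subgroupOf_eq_of_le hB'K]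
      rw [← e] at hpd
      exact h4 p hp hpd
    exact hBB'.trans (ih B' (hB'K.trans hKK') hB'n hB'pi)

/-- A subnormal `π`-subgroup of a finite group lies in `O_π(G)`. -/
theorem subnormal_pi_le_piCore [Finite G] (π : Set ℕ) {A : Subgroup G} (hA : A.IsSubnormal)
    (hpi : ∀ p : ℕ, p.Prime → p ∣ Nat.card A → p ∈ π) : A ≤ Cfsg.piCore π G :=
  normal_pi_of_subnormal_le_piCore π hA A le_rfl Subgroup.le_normalizer hpi

/-- a subgroup containing a Sylow `p`-subgroup for every prime `p` is everything -/
theorem eq_top_of_forall_sylow_le [Finite G] (T : Subgroup G)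
    (h : ∀ (p : ℕ) [Fact p.Prime], ∃ P : Sylow p G, (P : Subgroup G) ≤ T) : T = ⊤ := by
  apply Subgroup.eq_top_of_card_eq
  apply Nat.dvd_antisymm (Subgroup.card_subgroup_dvd_card T)
  have hG : Nat.card G ≠ 0 := Nat.card_pos.ne'
  have hT : Nat.card T ≠ 0 := Nat.card_pos.ne'
  rw [← Nat.factorization_le_iff_dvd hG hT]
  intro p
  by_cases hp : p.Prime
  · haveI : Fact p.Prime := ⟨hp⟩
    obtain ⟨P, hP⟩ := h p
    have h1 : Nat.card P ∣ Nat.card T := Subgroup.card_dvd_of_le hP
    rw [P.card_eq_multiplicity] at h1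
    exact (hp.pow_dvd_iff_le_factorization hT).mp h1
  · simp [Nat.factorization_eq_zero_of_not_prime _ hp]

/-- `O_p(G)` in the form `piCore {p} G` is a `p`-group -/
theorem isPGroup_piCore_singleton [Finite G] (p : ℕ) [Fact p.Prime] :
    IsPGroup p (Cfsg.piCore {p} G) := by
  have h := isPi_piCore (G := G) {p}
  have hpos : Nat.card (Cfsg.piCore {p} G) ≠ 0 := Nat.card_pos.ne'
  have := Nat.eq_prime_pow_of_unique_prime_dvd hpos
    (fun {d} hd hdvd => (h d hd hdvd : d = p))
  exact IsPGroup.of_card this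

theorem le_fittingSubgroup {N : Subgroup G} (hn : N.Normal) (hN : Group.IsNilpotent N) :
    N ≤ Cfsg.fittingSubgroup G := le_sSup ⟨hn, hN⟩

/-- A subnormal nilpotent subgroup of a finite group lies in the Fitting subgroup. -/
theorem subnormal_nilpotent_le_fitting [Finite G] {A : Subgroup G} (hA : A.IsSubnormal)
    (hnil : Group.IsNilpotent A) : A ≤ Cfsg.fittingSubgroup G := by
  have hT : (Cfsg.fittingSubgroup G).subgroupOf A = ⊤ := by
    apply eq_top_of_forall_sylow_le
    intro p _
    obtain ⟨P⟩ : Nonempty (Sylow p A) := inferInstance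
    refine ⟨P, ?_⟩
    have hPn : (P : Subgroup A).Normal := inferInstance
    have hsub : ((P : Subgroup A).map A.subtype).IsSubnormal := hPn.isSubnormal.trans' hA
    have hpi : ∀ q : ℕ, q.Prime → q ∣ Nat.card ((P : Subgroup A).map A.subtype) → q ∈ ({p} : Set ℕ) := by
      intro q hq hqd
      rw [Subgroup.card_map_of_injective (Subgroup.subtype_injective A)] at hqd
      obtain ⟨k, hk⟩ := (IsPGroup.iff_card (p := p)).mp P.isPGroup'
      rw [hk] at hqd
      have := (Nat.prime_dvd_prime_iff_eq hq (Fact.out : p.Prime)).mp (hq.dvd_of_dvd_pow hqd)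
      exact this
    have h1 := subnormal_pi_le_piCore {p} hsub hpi
    have h2 : Cfsg.piCore {p} G ≤ Cfsg.fittingSubgroup G :=
      le_fittingSubgroup inferInstance (isPGroup_piCore_singleton p).isNilpotent
    intro x hx
    rw [Subgroup.mem_subgroupOf]
    exact h2 (h1 ⟨x, hx, rfl⟩)
  intro a ha
  have : (⟨a, ha⟩ : A) ∈ (Cfsg.fittingSubgroup G).subgroupOf A := by rw [hT]; trivial
  exact this

end Cfsg.Agent.Lib.Helper62

namespace Cfsg.Agent.Lib.Helper62

variable {G : Type*} [Group G]

theorem card_comap_mk (N : Subgroup G) [N.Normal] (Q : Subgroup (G ⧸ N)) :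
    Nat.card (Q.comap (QuotientGroup.mk' N)) = Nat.card N * Nat.card Q := by
  have hle : N ≤ Q.comap (QuotientGroup.mk' N) := by
    have h := Subgroup.ker_le_comap (QuotientGroup.mk' N) Q
    rwa [QuotientGroup.ker_mk'] at h
  have h1 : Nat.card N * N.relIndex (Q.comap (QuotientGroup.mk' N)) =
      Nat.card (Q.comap (QuotientGroup.mk' N)) := by
    have := Subgroup.relIndex_mul_relIndex (⊥ : Subgroup G) N _ bot_le hle
    rwa [Subgroup.relIndex_bot_left, Subgroup.relIndex_bot_left] at this
  rw [← h1]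
  congr 1
  have h2 : (QuotientGroup.mk' N).ker.relIndex (Q.comap (QuotientGroup.mk' N)) = Nat.card Q := by
    rw [Subgroup.relIndex_ker,
      Subgroup.map_comap_eq_self_of_surjective (QuotientGroup.mk'_surjective N)]
  rw [QuotientGroup.ker_mk'] at h2
  exact h2

/-- `O_π(G / O_π(G)) = 1` -/
theorem piCore_quotient_piCore [Finite G] (π : Set ℕ) :
    Cfsg.piCore π (G ⧸ Cfsg.piCore π G) = ⊥ := by
  rw [eq_bot_iff]
  intro x hx
  obtain ⟨y, rfl⟩ := QuotientGroup.mk_surjective x
  have hpi : IsPi π ((Cfsg.piCore π (G ⧸ Cfsg.piCore π G)).comap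
      (QuotientGroup.mk' (Cfsg.piCore π G))) := by
    intro p hp hpd
    rw [card_comap_mk] at hpd
    rcases (hp.dvd_mul).mp hpd with h | h
    · exact isPi_piCore π p hp h
    · exact isPi_piCore π p hp h
  have hle := le_piCore (G := G) inferInstance hpi
  have hy : y ∈ (Cfsg.piCore π (G ⧸ Cfsg.piCore π G)).comap
      (QuotientGroup.mk' (Cfsg.piCore π G)) := hx
  rw [Subgroup.mem_bot]
  exact (QuotientGroup.eq_one_iff y).mpr (hle hy)

end Cfsg.Agent.Lib.Helper62
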