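import Cfsg.Agent.Lib.Helper23.AlphaB

set_option autoImplicit false
set_option linter.style.haveILetI false
set_option linter.unusedSectionVars false

/-!
# The subgroup `M_σ` is a Hall subgroup (Bender–Glauberman, Theorem 10.2 (d))

Proved from the statement of the Uniqueness Theorem (`BG10.UniqStmt G`) and the fusion
statement of Theorem 10.1(a) (`SigmaFusion M`), exactly as `alphaCore_hall`.
-/

namespace Cfsg.Agent.Lib.Helper62

open Subgroup Cfsg Cfsg.Agent.Lib.Helper33 Cfsg.Agent.Lib.Helper24 Cfsg.Agent.Lib.Helper32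
open Cfsg.Agent.Lib.Helper63 Cfsg.Agent.Lib.Helper23

universe u

variable {G : Type u} [Group G] [Finite G]

/-- B&G Theorem 10.2(d): `M_σ` is a Hall `σ(M)`-subgroup of `M` and of `G`, and the only normal Hall
`σ(M)`-subgroup of `M`. -/
theorem sigmaCore_hall (hG : IsMinSimpleOddOrder G) (hU : BG10.UniqStmt G)
    {M : Subgroup G} (hM : IsCoatom M) (hF : SigmaFusion M) :
    IsPiHallOf (sigma M) (sigmaCore M) M ∧ IsPiHall (sigma M) (sigmaCore M) ∧
      ∀ N : Subgroup G, M ≤ Subgroup.normalizer (N : Set G) → IsPiHallOf (sigma M) N M →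
        N = sigmaCore M := by
  haveI : Group.IsSolvable ↥M := isSolvable_of_ne_top hG hM.1
  have hodd : Odd (Nat.card ↥M) := odd_card_subgroup hG M
  have hασ := alpha_subset_sigma hG hU hM
  have hπ : ∀ q : ℕ, q.Prime → q ∉ sigma M → PRankLE q 2 ↥M := by
    intro q hq hqσ
    by_contra h
    exact hqσ (hασ ⟨hq, h⟩)
  -- Sylow subgroups for primes in `σ(M)` lie in `O_σ(M)`
  have hSyl : ∀ p : ℕ, p.Prime → p ∈ sigma M →
      ¬ p ∣ (piCore (sigma M) ↥M).index ∧ ¬ p ∣ M.index := by
    intro p hpp hp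
    haveI : Fact p.Prime := ⟨hpp⟩
    obtain ⟨P, hN⟩ := hp.2.2
    have h1 : (P : Subgroup ↥M) ≤ piCore (sigma M) ↥M :=
      le_piCore_of_le_commutator hodd hπ hp P.isPGroup'
        (sylow_le_commutator_of_sigma hG hF hp P hN)
    obtain ⟨hSM, hSp, hSi⟩ := sylow_map_facts M P
    have h2 := not_dvd_index_of_normalizer_le hSM hSp hSi hN
    exact ⟨fun hd => P.not_dvd_index (hd.trans (Subgroup.index_dvd_of_le h1)),
      fun hd => h2 (hd.trans (Subgroup.index_dvd_of_le hSM))⟩
  have hcard : Nat.card ↥(sigmaCore M) = Nat.card ↥(piCore (sigma M) ↥M) := by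
    rw [sigmaCore, Subgroup.card_map_of_injective M.subtype_injective]
  have hrel : (sigmaCore M).relIndex M = (piCore (sigma M) ↥M).index := by
    rw [sigmaCore, Subgroup.relIndex, Subgroup.subgroupOf,
      Subgroup.comap_map_eq_self_of_injective M.subtype_injective]
  have hle : sigmaCore M ≤ M := Subgroup.map_subtype_le _
  have hpi : ∀ p : ℕ, p.Prime → p ∣ Nat.card ↥(sigmaCore M) → p ∈ sigma M := by
    intro p hpp hd
    rw [hcard] at hd
    exact Cfsg.Agent.Lib.Helper62.isPi_piCore (sigma M) p hpp hd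
  refine ⟨⟨hle, hpi, ?_⟩, ⟨hpi, ?_⟩, ?_⟩
  · intro p hpp hp
    rw [hrel]
    exact (hSyl p hpp hp).1
  · intro p hpp hp hd
    rw [← Subgroup.relIndex_mul_index hle, hrel] at hd
    rcases (Nat.Prime.dvd_mul hpp).mp hd with h | h
    · exact (hSyl p hpp hp).1 h
    · exact (hSyl p hpp hp).2 h
  · intro N hNM ⟨hNle, hNpi, hNhall⟩
    -- `N ≤ M_σ`
    have hNn : (N.subgroupOf M).Normal := by
      refine ⟨fun n hn g => ?_⟩
      rw [Subgroup.mem_subgroupOf] at hn ⊢
      have := (Subgroup.mem_normalizer_iff.mp (hNM g.2) (n : G)).mp hn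
      simpa using this
    have hNc : Nat.card ↥(N.subgroupOf M) = Nat.card ↥N := by
      exact Nat.card_congr (Subgroup.subgroupOfEquivOfLe hNle).toEquiv
    have h1 : N.subgroupOf M ≤ piCore (sigma M) ↥M := by
      apply Cfsg.Agent.Lib.Helper62.le_piCore hNn
      intro p hpp hd
      rw [hNc] at hd
      exact hNpi p hpp hd
    have h2 : N ≤ sigmaCore M := by
      intro x hx
      exact ⟨⟨x, hNle hx⟩, h1 (Subgroup.mem_subgroupOf.mpr hx), rfl⟩
    -- the index of `N` in `M_σ` is one
    have h3 : N.relIndex (sigmaCore M) = 1 := by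
      by_contra hne
      obtain ⟨p, hpp, hpd⟩ := Nat.exists_prime_and_dvd hne
      have hpσ : p ∈ sigma M := by
        apply hpi p hpp
        exact hpd.trans (Subgroup.relIndex_dvd_card N (sigmaCore M))
      apply hNhall p hpp hpσ
      exact hpd.trans (Dvd.intro _ (Subgroup.relIndex_mul_relIndex N (sigmaCore M) M h2 hle))
    exact le_antisymm h2 (Subgroup.relIndex_eq_one.mp h3)

end Cfsg.Agent.Lib.Helper62
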