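import Cfsg.Agent.Lib.Helper68.BG1215b
import Cfsg.Agent.Lib.Helper24.InvCompl
import Cfsg.Agent.Lib.Helper24.SylowInv

/-!
# Key Lemma K for BG Theorem 13.4 (helper62)

`L` maximal, `s ∈ σ(L)` not ideal (`s ∉ β(L)`), `E` a complement of `L_σ` in `L`, `S` an
`E`-invariant Sylow `s`-subgroup of `L_σ` (a Sylow `s`-subgroup of `G`).  Then
* `[E,E]` centralizes `S`  (`comm_le_centralizer`),
* `[S,E] = S`  (`comm_eq_self`, from BG 10.11(a) = S1411),
* hence `E S` lies in no subgroup `X` with `s ∤ |X'|`  (`false_of_le`).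

Everything is stated with the `G`-level data of the normal `s`-complements
(`Helper68.BG1215.npc_data`) as hypotheses, so this file needs no deep imports.
-/

set_option autoImplicit false

namespace Cfsg.Agent.Lib.Helper62.BG13K

open Subgroup Cfsg Cfsg.Agent.Lib.Helper33 Cfsg.Agent.Lib.Helper24
open Cfsg.Agent.Lib.Helper68.BG1215
open scoped commutatorElement

universe u

variable {G : Type u} [Group G] [Finite G]

/-- `G`-level data of a normal `s`-complement `C` of `X`. -/
def NpcIn (s : ℕ) (C X : Subgroup G) : Prop :=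
  C ≤ X ∧ X ≤ normalizer (C : Set G) ∧ (Nat.card C).Coprime s ∧ ∃ k : ℕ, C.relIndex X = s ^ k

/-- The first conclusion of S1411 (BG 10.11(a)) as a hypothesis. -/
def Stmt1411 (G : Type u) [Group G] : Prop :=
  ∀ (p : ℕ) [Fact p.Prime] (P : Sylow p G) (V : Subgroup G),
    IsComplIn (P : Subgroup G) V (normalizer ((P : Subgroup G) : Set G)) →
      (P : Subgroup G) = ⁅(P : Subgroup G), V⁆

theorem npcIn_of_hasNormalPComplement {H : Subgroup G} {p : ℕ} [Fact p.Prime]
    (h : HasNormalPComplement p ↥H) : ∃ C : Subgroup G, NpcIn p C H := by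
  obtain ⟨C, h1, h2, h3, h4⟩ := npc_data h
  exact ⟨C, h1, h2, h3, h4⟩

/-- a normal `s`-complement of a subgroup `X` contains every `s'`-subgroup of `X` -/
theorem NpcIn.le_of_coprime {s : ℕ} {C X Y : Subgroup G} (h : NpcIn s C X) (hYX : Y ≤ X)
    (hY : (Nat.card Y).Coprime s) : Y ≤ C := by
  obtain ⟨h1, h2, -, k, hk⟩ := h
  apply le_of_coprime_relIndex h1 h2 hYX
  rw [hk]
  exact Nat.Coprime.pow_right k hY

/-- a normal `s`-complement of `X` is normalized by everything normalizing `X` -/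
theorem NpcIn.normalizer_le {s : ℕ} {C X : Subgroup G} (h : NpcIn s C X) :
    normalizer (X : Set G) ≤ normalizer (C : Set G) := by
  intro g hg
  have key : ∀ g : G, g ∈ normalizer (X : Set G) → ∀ x ∈ C, g * x * g⁻¹ ∈ C := by
    intro g hg x hx
    have hcjX : Cfsg.Agent.Lib.Helper33.cj g C ≤ X := by
      intro y hy
      obtain ⟨c, hc, rfl⟩ := Cfsg.Agent.Lib.Helper33.mem_cj'.mp hy
      exact (mem_normalizer_iff.mp hg c).mp (h.1 hc)
    have hcard : (Nat.card (Cfsg.Agent.Lib.Helper33.cj g C)).Coprime s := by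
      rw [Cfsg.Agent.Lib.Helper33.card_cj]; exact h.2.2.1
    have := h.le_of_coprime hcjX hcard
    exact this (Cfsg.Agent.Lib.Helper33.mem_cj'.mpr ⟨x, hx, rfl⟩)
  rw [mem_normalizer_iff]
  intro x
  constructor
  · intro hx; exact key g hg x hx
  · intro hx
    have := key g⁻¹ (inv_mem hg) _ hx
    simpa [mul_assoc] using this

/-- an `s`-subgroup meets an `s'`-subgroup trivially -/
theorem inf_eq_bot_of_coprime {s : ℕ} [Fact s.Prime] {S C : Subgroup G} (hS : IsPGroup s S)
    (hC : (Nat.card C).Coprime s) : S ⊓ C = ⊥ := by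
  have hI : IsPGroup s ↥(S ⊓ C) := hS.to_le inf_le_left
  obtain ⟨k, hk⟩ := IsPGroup.iff_card.mp hI
  have hdvd : Nat.card ↥(S ⊓ C) ∣ Nat.card C := Subgroup.card_dvd_of_le inf_le_right
  have h1 : Nat.card ↥(S ⊓ C) = 1 := by
    have hcop : (Nat.card ↥(S ⊓ C)).Coprime (Nat.card ↥(S ⊓ C)) := by
      apply Nat.Coprime.coprime_dvd_right hdvd
      rw [hk]
      exact Nat.Coprime.pow_left k hC.symm
    exact (Nat.coprime_self _).mp hcop
  exact Subgroup.card_eq_one.mp h1

/-- commuting from a trivial intersection: `x` normalizes `S`, `y ∈ S` normalizes `C ∋ x`,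
`S ∩ C = 1` -/
theorem commute_of_inf_eq_bot {S C : Subgroup G} (h : S ⊓ C = ⊥) {x y : G}
    (hxC : x ∈ C) (hxS : x ∈ normalizer (S : Set G)) (hyS : y ∈ S)
    (hyC : y ∈ normalizer (C : Set G)) : x * y = y * x := by
  have h1 : x * y * x⁻¹ * y⁻¹ ∈ S :=
    S.mul_mem ((mem_normalizer_iff.mp hxS y).mp hyS) (S.inv_mem hyS)
  have h2 : x * y * x⁻¹ * y⁻¹ ∈ C := by
    have : y * x⁻¹ * y⁻¹ ∈ C := (mem_normalizer_iff.mp hyC x⁻¹).mp (C.inv_mem hxC)
    have h3 : x * (y * x⁻¹ * y⁻¹) ∈ C := C.mul_mem hxC this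
    simpa [mul_assoc] using h3
  have h3 : x * y * x⁻¹ * y⁻¹ ∈ S ⊓ C := ⟨h1, h2⟩
  rw [h, mem_bot] at h3
  have : x * y = (x * y * x⁻¹ * y⁻¹) * (y * x) := by group
  rw [this, h3, one_mul]

/-- **Lemma K (i).**  `[E,E]` centralizes `S`. -/
theorem comm_le_centralizer {L E S O : Subgroup G} {s : ℕ} [Fact s.Prime]
    (hEL : E ≤ L) (hSL : S ≤ L) (hES : E ≤ normalizer (S : Set G)) (hSs : IsPGroup s S)
    (hEs : (Nat.card E).Coprime s) (hO : NpcIn s O ⁅L, L⁆) :
    ⁅E, E⁆ ≤ centralizer (S : Set G) := by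
  have hLn : L ≤ normalizer ((⁅L, L⁆ : Subgroup G) : Set G) := by
    intro l hl
    rw [mem_normalizer_iff]
    have key : ∀ l ∈ L, ∀ x ∈ ⁅L, L⁆, l * x * l⁻¹ ∈ ⁅L, L⁆ := by
      intro l hl x hx
      have hxL : x ∈ L := (Subgroup.commutator_le_self L) hx
      have : l * x * l⁻¹ = ⁅l, x⁆ * x := by simp [commutatorElement_def]
      rw [this]
      exact Subgroup.mul_mem _ (Subgroup.commutator_mem_commutator hl hxL) hx
    intro x
    constructor
    · exact key l hl x
    · intro hx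
      have := key l⁻¹ (L.inv_mem hl) _ hx
      simpa [mul_assoc] using this
  have hLO : L ≤ normalizer (O : Set G) := hLn.trans hO.normalizer_le
  have hE'L' : ⁅E, E⁆ ≤ ⁅L, L⁆ := Subgroup.commutator_mono hEL hEL
  have hE'card : (Nat.card ↥⁅E, E⁆).Coprime s :=
    Nat.Coprime.coprime_dvd_left (Subgroup.card_dvd_of_le (Subgroup.commutator_le_self E)) hEs
  have hE'O : ⁅E, E⁆ ≤ O := hO.le_of_coprime hE'L' hE'card
  have hSO : S ⊓ O = ⊥ := inf_eq_bot_of_coprime hSs hO.2.2.1
  intro x hx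
  rw [mem_centralizer_iff]
  intro y hy
  have hxE : x ∈ E := (Subgroup.commutator_le_self E) hx
  exact (commute_of_inf_eq_bot hSO (hE'O hx) (hES hxE) hy (hLO (hSL hy))).symm

/-- `|A ⊔ K| = |A| * |K|` when `A` normalises `K` and they meet trivially. -/
theorem card_sup_eq_mul' (A K : Subgroup G) (h : A ≤ normalizer (K : Set G)) (h0 : A ⊓ K = ⊥) :
    Nat.card ↥(A ⊔ K) = Nat.card A * Nat.card K := by
  have h1 := Cfsg.Agent.Lib.Helper24.relIndex_sup_eq_card A K h h0
  have h2 := Cfsg.Agent.Lib.Helper24.relIndex_mul_card' (le_sup_right : K ≤ A ⊔ K)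
  rw [← h2, h1]

/-- `[S,E] ≤ S` when `E` normalizes `S` -/
theorem comm_le_self {S E : Subgroup G} (hES : E ≤ normalizer (S : Set G)) : ⁅S, E⁆ ≤ S := by
  rw [Subgroup.commutator_le]
  intro a ha e he
  have : e * a⁻¹ * e⁻¹ ∈ S := (mem_normalizer_iff.mp (hES he) a⁻¹).mp (S.inv_mem ha)
  have h2 : a * (e * a⁻¹ * e⁻¹) ∈ S := S.mul_mem ha this
  simpa [commutatorElement_def, mul_assoc] using h2

/-- **Lemma K (ii).**  `[S,E] = S`, from S1411. -/
theorem comm_eq_self (h11 : Stmt1411 G) {L E W : Subgroup G} {s : ℕ} [Fact s.Prime]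
    (P : Sylow s G) (hE : IsComplIn E (sigmaCore L) L)
    (hLσ : L ≤ normalizer ((sigmaCore L : Subgroup G) : Set G))
    (hSσ : (P : Subgroup G) ≤ sigmaCore L) (hES : E ≤ normalizer ((P : Subgroup G) : Set G))
    (hNS : normalizer ((P : Subgroup G) : Set G) ≤ L) (hW : NpcIn s W (sigmaCore L)) :
    ⁅(P : Subgroup G), E⁆ = (P : Subgroup G) := by
  set S : Subgroup G := (P : Subgroup G) with hSdef
  have hSs : IsPGroup s S := P.isPGroup'
  obtain ⟨hEL, hσL, hEσ, hprod⟩ := hE
  have hSL : S ≤ L := hSσ.trans hσL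
  have hLW : L ≤ normalizer (W : Set G) := hLσ.trans hW.normalizer_le
  have hSW : S ⊓ W = ⊥ := inf_eq_bot_of_coprime hSs hW.2.2.1
  -- `L_σ = S W`
  have hSWn : S ≤ normalizer (W : Set G) := hSL.trans hLW
  have hsup : S ⊔ W = sigmaCore L := by
    have hle : S ⊔ W ≤ sigmaCore L := sup_le hSσ hW.1
    have hcard : Nat.card ↥(S ⊔ W) = Nat.card S * Nat.card W :=
      card_sup_eq_mul' S W hSWn hSW
    obtain ⟨k, hk⟩ := hW.2.2.2
    have hσcard : Nat.card ↥(sigmaCore L) = s ^ k * Nat.card W := by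
      rw [← hk]; exact (Cfsg.Agent.Lib.Helper24.relIndex_mul_card' hW.1).symm
    have hScard : Nat.card S = s ^ (Nat.card G).factorization s := P.card_eq_multiplicity
    have hsp : s.Prime := Fact.out
    have h1 : k ≤ (Nat.card G).factorization s := by
      have hd : s ^ k ∣ Nat.card G :=
        (Dvd.intro _ hσcard.symm).trans (Subgroup.card_subgroup_dvd_card _)
      exact (hsp.pow_dvd_iff_le_factorization Nat.card_pos.ne').mp hd
    have h2 : (Nat.card G).factorization s ≤ k := by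
      have hd : s ^ (Nat.card G).factorization s ∣ s ^ k * Nat.card W := by
        rw [← hScard, ← hσcard]; exact Subgroup.card_dvd_of_le hSσ
      have hcop : (s ^ (Nat.card G).factorization s).Coprime (Nat.card W) :=
        Nat.Coprime.pow_left _ hW.2.2.1.symm
      have hd2 : s ^ (Nat.card G).factorization s ∣ s ^ k := hcop.dvd_of_dvd_mul_right hd
      exact (Nat.pow_dvd_pow_iff_le_right hsp.one_lt).mp hd2
    have hkk : k = (Nat.card G).factorization s := le_antisymm h1 h2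
    have hceq : Nat.card ↥(S ⊔ W) = Nat.card ↥(sigmaCore L) := by
      rw [hcard, hσcard, hScard, hkk]
    exact Subgroup.eq_of_le_of_card_ge hle (le_of_eq hceq.symm)
  -- the complement `V`
  set CW : Subgroup G := W ⊓ centralizer (S : Set G) with hCW
  have hECW : E ≤ normalizer (CW : Set G) := by
    intro e he
    have h1 : e ∈ normalizer (W : Set G) := hLW (hEL he)
    have h2 : e ∈ normalizer ((centralizer (S : Set G) : Subgroup G) : Set G) := by
      rw [mem_normalizer_iff]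
      intro x
      have hSn := hES he
      constructor
      · intro hx
        rw [mem_centralizer_iff] at hx ⊢
        intro y hy
        have hy' : e⁻¹ * y * e ∈ S := by
          have := (mem_normalizer_iff.mp (inv_mem hSn) y).mp hy
          simpa using this
        have := hx _ hy'
        calc y * (e * x * e⁻¹) = e * ((e⁻¹ * y * e) * x) * e⁻¹ := by group
          _ = e * (x * (e⁻¹ * y * e)) * e⁻¹ := by rw [this]
          _ = e * x * e⁻¹ * y := by group
      · intro hx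
        rw [mem_centralizer_iff] at hx ⊢
        intro y hy
        have hy' : e * y * e⁻¹ ∈ S := (mem_normalizer_iff.mp hSn y).mp hy
        have := hx _ hy'
        calc y * x = e⁻¹ * ((e * y * e⁻¹) * (e * x * e⁻¹)) * e := by group
          _ = e⁻¹ * ((e * x * e⁻¹) * (e * y * e⁻¹)) * e := by rw [this]
          _ = x * y := by group
    rw [mem_normalizer_iff]
    intro x
    constructor
    · rintro ⟨hx1, hx2⟩
      exact ⟨(mem_normalizer_iff.mp h1 x).mp hx1, (mem_normalizer_iff.mp h2 x).mp hx2⟩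
    · rintro ⟨hx1, hx2⟩
      exact ⟨(mem_normalizer_iff.mp h1 x).mpr hx1, (mem_normalizer_iff.mp h2 x).mpr hx2⟩
  set V : Subgroup G := E ⊔ CW with hV
  have hVdec : ∀ v ∈ V, ∃ e ∈ E, ∃ c ∈ CW, v = e * c := fun v hv =>
    exists_mul_of_mem_sup_of_le_normalizer E CW hECW v hv
  have hcompl : IsComplIn S V (normalizer (S : Set G)) := by
    refine ⟨le_normalizer, sup_le hES ?_, ?_, ?_⟩
    · exact inf_le_right.trans (centralizer_le_normalizer _)
    · rw [eq_bot_iff]
      intro x ⟨hxS, hxV⟩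
      obtain ⟨e, he, c, hc, rfl⟩ := hVdec x hxV
      have hcσ : c ∈ sigmaCore L := hW.1 hc.1
      have heσ : e ∈ sigmaCore L := by
        have : e = (e * c) * c⁻¹ := by group
        rw [this]
        exact Subgroup.mul_mem _ (hSσ hxS) (Subgroup.inv_mem _ hcσ)
      have he1 : e = 1 := by
        have : e ∈ E ⊓ sigmaCore L := ⟨he, heσ⟩
        rw [hEσ, mem_bot] at this
        exact this
      rw [he1, one_mul] at hxS ⊢
      have : c ∈ S ⊓ W := ⟨hxS, hc.1⟩
      rw [hSW] at this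
      exact this
    · intro n hn
      have hnL : n ∈ L := hNS hn
      obtain ⟨e, he, b, hb, rfl⟩ := hprod n hnL
      have heN : e ∈ normalizer (S : Set G) := hES he
      have hbN : b ∈ normalizer (S : Set G) := by
        have : b = e⁻¹ * (e * b) := by group
        rw [this]
        exact Subgroup.mul_mem _ (Subgroup.inv_mem _ heN) hn
      have hbsup : b ∈ S ⊔ W := by rw [hsup]; exact hb
      obtain ⟨t, ht, w, hw, rfl⟩ := exists_mul_of_mem_sup_of_le_normalizer S W hSWn b hbsup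
      have hwN : w ∈ normalizer (S : Set G) := by
        have : w = t⁻¹ * (t * w) := by group
        rw [this]
        exact Subgroup.mul_mem _ (Subgroup.inv_mem _ (le_normalizer ht)) hbN
      have hwC : w ∈ centralizer (S : Set G) := by
        rw [mem_centralizer_iff]
        intro y hy
        exact (commute_of_inf_eq_bot hSW hw hwN hy (hSWn hy)).symm
      refine ⟨e * t * e⁻¹, (mem_normalizer_iff.mp heN t).mp ht, e * w, ?_, by group⟩
      exact Subgroup.mul_mem _ (le_sup_left (a := E) he) (le_sup_right (b := CW) ⟨hw, hwC⟩)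
  have h := h11 s P V hcompl
  apply le_antisymm (comm_le_self hES)
  have hle : ⁅S, V⁆ ≤ ⁅S, E⁆ := by
    rw [Subgroup.commutator_le]
    intro a ha v hv
    obtain ⟨e, he, c, hc, rfl⟩ := hVdec v hv
    have hca : c * a⁻¹ = a⁻¹ * c := by
      have := (mem_centralizer_iff.mp hc.2) a⁻¹ (S.inv_mem ha)
      exact this.symm
    have : ⁅a, e * c⁆ = ⁅a, e⁆ := by
      simp only [commutatorElement_def, mul_inv_rev]
      calc a * (e * c) * a⁻¹ * (c⁻¹ * e⁻¹) = a * e * (c * a⁻¹) * c⁻¹ * e⁻¹ := by group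
        _ = a * e * (a⁻¹ * c) * c⁻¹ * e⁻¹ := by rw [hca]
        _ = a * e * a⁻¹ * e⁻¹ := by group
    rw [this]
    exact Subgroup.commutator_mem_commutator ha he
  calc S = ⁅S, V⁆ := h
    _ ≤ ⁅S, E⁆ := hle

/-- **Lemma K (iii).**  If `[S,E] = S ≠ 1` for an `s`-group `S`, then `E` and `S` do not both lie
in a subgroup `X` with `s ∤ |X'|` (e.g. a maximal subgroup `X` with `s ∈ τ₁(X)`). -/
theorem false_of_le {S E X : Subgroup G} {s : ℕ} [Fact s.Prime] (hSs : IsPGroup s S)
    (hS1 : S ≠ ⊥) (hSE : ⁅S, E⁆ = S) (hSX : S ≤ X) (hEX : E ≤ X)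
    (hX : ¬ s ∣ Nat.card ↥⁅X, X⁆) : False := by
  have hle : S ≤ ⁅X, X⁆ := by
    rw [← hSE]; exact Subgroup.commutator_mono hSX hEX
  obtain ⟨k, hk⟩ := IsPGroup.iff_card.mp hSs
  have hk0 : k ≠ 0 := by
    rintro rfl
    rw [pow_zero] at hk
    exact hS1 (Subgroup.card_eq_one.mp hk)
  have h1 : s ∣ Nat.card S := by rw [hk]; exact dvd_pow_self s hk0
  exact hX (h1.trans (Subgroup.card_dvd_of_le hle))

/-- variant of (iii): `X' ≤ Y` for some `s'`-subgroup `Y` -/
theorem false_of_le' {S E X Y : Subgroup G} {s : ℕ} [Fact s.Prime] (hSs : IsPGroup s S)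
    (hS1 : S ≠ ⊥) (hSE : ⁅S, E⁆ = S) (hSX : S ≤ X) (hEX : E ≤ X)
    (hXY : ⁅X, X⁆ ≤ Y) (hY : (Nat.card Y).Coprime s) : False := by
  have hle : S ≤ Y := by
    rw [← hSE]; exact (Subgroup.commutator_mono hSX hEX).trans hXY
  have : S ⊓ Y = ⊥ := inf_eq_bot_of_coprime hSs hY
  apply hS1
  rw [eq_bot_iff, ← this]
  exact le_inf le_rfl hle

end Cfsg.Agent.Lib.Helper62.BG13K
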