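import Cfsg.Agent.S1350
import Cfsg.Agent.S1411
import Cfsg.Agent.S1414
import Cfsg.Agent.Lib.Helper62.BG13K
import Cfsg.Agent.Lib.Helper30.BG1213D
import Cfsg.Agent.Lib.Helper23.FitUniqueB

/-!
# Key Lemma K for BG Theorem 13.4, unconditional form (helper62)

`H` maximal, `p ∈ σ(H)`, `p ∉ β(H)` (e.g. `p ∉ α(H)`), `E` a complement of `H_σ` in `H`.  Then there
is an `E`-invariant Sylow `p`-subgroup `S` of `G` inside `H_σ` with `S = [S,E]` and `[E,E] ≤ C(S)`.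
-/

set_option autoImplicit false

namespace Cfsg.Agent.Lib.Helper62.BG13K

open Subgroup Cfsg Cfsg.Agent.Lib.Helper24

universe u

variable {G : Type u} [Group G] [Finite G]

theorem stmt1411 (hG : IsMinSimpleOddOrder G) : Stmt1411 G := by
  intro p _ P V hV
  exact (Cfsg.Agent.S1411.result hG p P V hV).1

/-- **Lemma K**, for `p ∉ β(H)`. -/
theorem lemmaK_beta (hG : IsMinSimpleOddOrder G) {H E : Subgroup G} (hH : IsCoatom H) {p : ℕ}
    [hp : Fact p.Prime] (hpσ : p ∈ sigma H) (hpβ : p ∉ beta H)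
    (hE : IsComplIn E (sigmaCore H) H) :
    ∃ S : Subgroup G, IsPGroup p S ∧ S ≠ ⊥ ∧ ¬ p ∣ S.index ∧ S ≤ sigmaCore H ∧
      E ≤ normalizer (S : Set G) ∧ ⁅S, E⁆ = S ∧ ⁅E, E⁆ ≤ centralizer (S : Set G) := by
  obtain ⟨hHall, hHallG, -⟩ := Cfsg.Agent.S1350.result hG H hH
  have hpH : p ∣ Nat.card H := hpσ.2.1
  obtain ⟨-, -, -, -, h14⟩ := Cfsg.Agent.S1414.result hG H hH
  obtain ⟨hnpcD, hnpcσ, -⟩ := h14 p hp.out hpH hpβ
  obtain ⟨O, hO⟩ := npcIn_of_hasNormalPComplement hnpcD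
  obtain ⟨W, hW⟩ := npcIn_of_hasNormalPComplement hnpcσ
  have hEH : E ≤ H := hE.1
  have hσH : sigmaCore H ≤ H := hE.2.1
  have hHσ : H ≤ normalizer ((sigmaCore H : Subgroup G) : Set G) :=
    Cfsg.Agent.Lib.Helper24.BG.le_normalizer_sigmaCore H
  have hHtop : H ≠ ⊤ := hH.1
  have hσtop : sigmaCore H ≠ ⊤ := fun h => hHtop (top_le_iff.mp (h ▸ hσH))
  -- `|E|` is coprime to `|H_σ|` and to `p`
  have hcardH : Nat.card E * Nat.card ↥(sigmaCore H) = Nat.card H := by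
    have h1 : Nat.card ↥(E ⊔ sigmaCore H) = Nat.card E * Nat.card ↥(sigmaCore H) :=
      card_sup_eq_mul' E (sigmaCore H) (hEH.trans hHσ) hE.2.2.1
    have h2 : E ⊔ sigmaCore H = H := by
      apply le_antisymm (sup_le hEH hσH)
      intro m hm
      obtain ⟨a, ha, b, hb, rfl⟩ := hE.2.2.2 m hm
      exact Subgroup.mul_mem _ (le_sup_left (a := E) ha) (le_sup_right (b := sigmaCore H) hb)
    rw [← h1, h2]
  have hrel : (sigmaCore H).relIndex H = Nat.card E := by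
    have := Cfsg.Agent.Lib.Helper24.relIndex_mul_card' hσH
    rw [← hcardH] at this
    exact Nat.eq_of_mul_eq_mul_right Nat.card_pos this
  have hEcopσ : (Nat.card E).Coprime (Nat.card ↥(sigmaCore H)) := by
    apply Nat.coprime_of_dvd
    intro k hk hkE hkσ
    exact hHall.2.2 k hk (hHall.2.1 k hk hkσ) (hrel ▸ hkE)
  have hEp : (Nat.card E).Coprime p := by
    rw [Nat.coprime_comm, Nat.Prime.coprime_iff_not_dvd hp.out]
    intro hd
    exact hHall.2.2 p hp.out hpσ (hrel ▸ hd)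
  -- an `E`-invariant Sylow `p`-subgroup of `H_σ`
  have hsolv : Group.IsSolvable ↥(sigmaCore H) :=
    Cfsg.Agent.Lib.Helper23.isSolvable_of_ne_top hG hσtop
  obtain ⟨P', hP'⟩ := exists_invariant_sylow (p := p) E (sigmaCore H) (hEH.trans hHσ) hEcopσ
    (Or.inr hsolv)
  obtain ⟨hSσ, hSp, hSi⟩ := sylow_map_facts (sigmaCore H) P'
  set S : Subgroup G := (P' : Subgroup ↥(sigmaCore H)).map (sigmaCore H).subtype with hSdef
  have hSidx : ¬ p ∣ S.index := by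
    intro hd
    rw [← Subgroup.relIndex_mul_index hSσ] at hd
    rcases (Nat.Prime.dvd_mul hp.out).mp hd with h | h
    · exact hSi h
    · exact hHallG.2 p hp.out hpσ h
  set P : Sylow p G := hSp.toSylow hSidx with hPdef
  have hPS : (P : Subgroup G) = S := IsPGroup.toSylow_coe hSp hSidx
  have hNS : normalizer ((P : Subgroup G) : Set G) ≤ H := by
    rw [hPS]
    exact Cfsg.Agent.Lib.Helper30.BG1213.normalizer_le_of_mem_sigma hpσ (hSσ.trans hσH) hSp hSidx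
  have hS1 : S ≠ ⊥ := by
    intro h
    have hidx : S.index = Nat.card G := by rw [h, Subgroup.index_bot]
    have hpG : p ∣ Nat.card G := hpH.trans (Subgroup.card_subgroup_dvd_card H)
    exact hSidx (hidx ▸ hpG)
  have hii : ⁅(P : Subgroup G), E⁆ = (P : Subgroup G) :=
    comm_eq_self (stmt1411 hG) P hE hHσ (hPS ▸ hSσ) (hPS ▸ hP') hNS hW
  refine ⟨S, hSp, hS1, hSidx, hSσ, hP', hPS ▸ hii, ?_⟩
  exact comm_le_centralizer hEH (hSσ.trans hσH) hP' hSp hEp hO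

/-- **Lemma K**, for `p ∉ α(H)`. -/
theorem lemmaK (hG : IsMinSimpleOddOrder G) {H E : Subgroup G} (hH : IsCoatom H) {p : ℕ}
    [hp : Fact p.Prime] (hpσ : p ∈ sigma H) (hpα : p ∉ alpha H)
    (hE : IsComplIn E (sigmaCore H) H) :
    ∃ S : Subgroup G, IsPGroup p S ∧ S ≠ ⊥ ∧ ¬ p ∣ S.index ∧ S ≤ H ∧
      E ≤ normalizer (S : Set G) ∧ S ≤ ⁅S, E⁆ ∧ ⁅E, E⁆ ≤ centralizer (S : Set G) := by
  obtain ⟨S, h1, h2, h3, h4, h5, h6, h7⟩ :=
    lemmaK_beta hG hH hpσ (fun hβ => hpα hβ.1) hE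
  exact ⟨S, h1, h2, h3, h4.trans hE.2.1, h5, le_of_eq h6.symm, h7⟩

end Cfsg.Agent.Lib.Helper62.BG13K
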