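import Mathlib
import Cfsg.Prelude.Def_OddOrderLocal
import Cfsg.Agent.Lib.Helper32.BG142Defs
import Cfsg.Agent.S1415
import Cfsg.Agent.Lib.Helper24.S1421A
import Cfsg.Agent.Lib.Helper24.Coprime
import Cfsg.Agent.Lib.Helper24.CoprimeAbelian
import Cfsg.Agent.Lib.Helper21.HallSub
import Cfsg.Agent.Lib.Helper90.BG1212

/-!
# BG 14.2 / Cor 13.11, leaf L8 (`exc_normal`) of helper32's skeleton
-/

set_option autoImplicit false
set_option linter.style.haveILetI false
set_option linter.unusedSectionVars false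
set_option linter.unusedVariables false

namespace Cfsg.Agent.Lib.Helper32.BG142

open Subgroup Cfsg

universe u

variable {G : Type u} [Group G] [Finite G]

/-- a subgroup containing Hall subgroups for all the primes of `E` is `E` -/
theorem exc_normal_eq_of_hall {E C : Subgroup G} (hCE : C ≤ E)
    (h : ∀ r : ℕ, r.Prime → r ∣ Nat.card E → ∃ (π : Set ℕ) (T : Subgroup G),
      r ∈ π ∧ IsPiHallOf π T E ∧ T ≤ C) : C = E := by
  by_contra hne
  have hidx : C.relIndex E ≠ 1 := by
    intro h1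
    exact hne (le_antisymm hCE (Subgroup.relIndex_eq_one.mp h1))
  obtain ⟨r, hr, hrd⟩ := Nat.exists_prime_and_dvd hidx
  have hrE : r ∣ Nat.card E := hrd.trans (Subgroup.relIndex_dvd_card C E)
  obtain ⟨π, T, hrπ, hT, hTC⟩ := h r hr hrE
  apply hT.2.2 r hr hrπ
  rw [← Subgroup.relIndex_mul_relIndex T C E hTC hCE]
  exact Dvd.dvd.mul_left hrd _

/-- LEAF L8: if `τ₂(M) = ∅` and every `τ₁`-subgroup of prime order of `E` centralizes every
`τ₃`-subgroup of prime order of `E`, then all subgroups of prime order of `E` are normal in `E`. -/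
theorem exc_normal (hG : IsMinSimpleOddOrder G) {M E : Subgroup G}
    (hM : IsCoatom M) (hE : IsComplIn E (sigmaCore M) M) (hτ2 : ∀ s : ℕ, s ∉ tau2 M)
    (h13 : ∀ P Z : Subgroup G, P ≤ E → Z ≤ E → Nat.card P ∈ tau1 M → Nat.card Z ∈ tau3 M →
      Z ≤ centralizer (P : Set G)) :
    ∀ X : Subgroup G, X ≤ E → (Nat.card X).Prime → E ≤ normalizer (X : Set G) := by
  classical
  intro X hXE hXp
  have hEtop : E ≠ ⊤ := by
    intro h
    apply hM.1
    rw [eq_top_iff, ← h]
    exact hE.1
  haveI hEs : Group.IsSolvable ↥E := hG.2.2.2 E hEtop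
  obtain ⟨h15a, h15b, h15c⟩ := Cfsg.Agent.S1415.result hG M hM E hE
  have hsE : Nat.card X ∣ Nat.card E := Subgroup.card_dvd_of_le hXE
  have hXπ : ∀ (π : Set ℕ), Nat.card X ∈ π → ∀ q : ℕ, q.Prime → q ∣ Nat.card X → q ∈ π := by
    intro π hπ q hq hqd
    rw [(Nat.prime_dvd_prime_iff_eq hq hXp).mp hqd]
    exact hπ
  rcases (Cfsg.Agent.Lib.Helper24.S1421.prime_class hG hM hE hXp hsE).2 with h | h
  swap
  · exact absurd h (hτ2 _)
  rcases h with h1 | h3
  · -- `|X| ∈ τ₁(M)`
    obtain ⟨E1, hE1, hXE1⟩ := Cfsg.Agent.Lib.Helper21.exists_isPiHallOf_ge (tau1 M) E hEs X hXE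
      (hXπ _ h1)
    obtain ⟨E3, hE3, -⟩ := Cfsg.Agent.Lib.Helper21.exists_isPiHallOf_ge (tau3 M) E hEs ⊥ bot_le
      (by
        intro q hq hqd
        rw [Subgroup.card_bot] at hqd
        exact absurd (Nat.dvd_one.mp hqd) hq.ne_one)
    have hE1c : IsCyclic E1 := h15b E1 hE1
    obtain ⟨hE3c, -, hE3n⟩ := h15c E3 hE3
    -- `E1` centralizes `X`
    have hE1X : E1 ≤ centralizer (X : Set G) := by
      intro a ha
      rw [Subgroup.mem_centralizer_iff]
      intro x hx
      have hx1 : x ∈ E1 := hXE1 hx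
      haveI := hE1c
      have := IsCyclic.commGroup (α := E1)
      have hc : (⟨x, hx1⟩ : E1) * ⟨a, ha⟩ = ⟨a, ha⟩ * ⟨x, hx1⟩ := by
        obtain ⟨g, hg⟩ := IsCyclic.exists_generator (α := E1)
        obtain ⟨i, hi⟩ := Subgroup.mem_zpowers_iff.mp (hg ⟨x, hx1⟩)
        obtain ⟨j, hj⟩ := Subgroup.mem_zpowers_iff.mp (hg ⟨a, ha⟩)
        rw [← hi, ← hj, ← zpow_add, ← zpow_add, add_comm]
      exact congrArg Subtype.val hc
    -- `E3` centralizes `X`
    have hE3X : E3 ≤ centralizer (X : Set G) := by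
      haveI : IsMulCommutative E3 := by
        haveI := hE3c
        obtain ⟨g, hg⟩ := IsCyclic.exists_generator (α := E3)
        refine ⟨⟨fun a b => ?_⟩⟩
        obtain ⟨i, hi⟩ := Subgroup.mem_zpowers_iff.mp (hg a)
        obtain ⟨j, hj⟩ := Subgroup.mem_zpowers_iff.mp (hg b)
        rw [← hi, ← hj, ← zpow_add, ← zpow_add, add_comm]
      have hXN : X ≤ normalizer (E3 : Set G) := hXE.trans hE3n
      have hcop : (Nat.card X).Coprime (Nat.card E3) := by
        rw [Nat.Prime.coprime_iff_not_dvd hXp]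
        intro hd
        have h3' : Nat.card X ∈ tau3 M := hE3.2.1 _ hXp hd
        exact h1.2.2.2.1 h3'.2.2.1
      have hbot := Cfsg.Agent.Lib.Helper24.commutator_inf_centralizer_eq_bot_of_abelian E3 X hXN
        hcop
      have hsup := Cfsg.Agent.Lib.Helper24.commutator_sup_centralizer_eq X E3 hXN hcop
        (Or.inl (by
          haveI : Group.IsSolvable ↥E := hEs
          exact Group.isSolvable_of_isSolvable_injective
            (Subgroup.inclusion_injective hXE)))
      have hD : ⁅E3, X⁆ = ⊥ := by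
        by_contra hne
        have hcard : Nat.card ↥⁅E3, X⁆ ≠ 1 := by
          intro h1c
          exact hne (Subgroup.card_eq_one.mp h1c)
        obtain ⟨q, hq, hqd⟩ := Nat.exists_prime_and_dvd hcard
        haveI : Fact q.Prime := ⟨hq⟩
        obtain ⟨z, hz⟩ := exists_prime_orderOf_dvd_card' q hqd
        have hDE3 : ⁅E3, X⁆ ≤ E3 := Cfsg.Agent.Lib.Helper24.commutator_le_of_le_normalizer E3 X hXN
        have hzE3 : (z : G) ∈ E3 := hDE3 z.2
        have hzo : orderOf (z : G) = q := by
          rw [Subgroup.orderOf_coe]; exact hz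
        have hZc : Nat.card (zpowers (z : G)) = q := by
          rw [Nat.card_zpowers, hzo]
        have hq3 : q ∈ tau3 M := by
          apply hE3.2.1 q hq
          exact hqd.trans (Subgroup.card_dvd_of_le hDE3)
        have hZle : zpowers (z : G) ≤ centralizer (X : Set G) := by
          apply h13 X (zpowers (z : G)) hXE
            ((Subgroup.zpowers_le.mpr hzE3).trans hE3.1) h1
          rw [hZc]; exact hq3
        have hzC : (z : G) ∈ centralizer (X : Set G) := hZle (Subgroup.mem_zpowers _)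
        have hzbot : (z : G) ∈ (⊥ : Subgroup G) := by
          rw [← hbot]
          exact Subgroup.mem_inf.mpr ⟨z.2, hzC⟩
        rw [Subgroup.mem_bot] at hzbot
        have : orderOf (z : G) = 1 := by rw [hzbot, orderOf_one]
        rw [hzo] at this
        exact hq.ne_one this
      have := Subgroup.commutator_eq_bot_iff_le_centralizer.mp hD
      exact this
    -- conclude
    have hCeq : E ⊓ centralizer (X : Set G) = E := by
      apply exc_normal_eq_of_hall inf_le_left
      intro r hr hrE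
      rcases (Cfsg.Agent.Lib.Helper24.S1421.prime_class hG hM hE hr hrE).2 with h | h
      swap
      · exact absurd h (hτ2 _)
      rcases h with hr1 | hr3
      · exact ⟨tau1 M, E1, hr1, hE1, le_inf hE1.1 hE1X⟩
      · exact ⟨tau3 M, E3, hr3, hE3, le_inf hE3.1 hE3X⟩
    have hEC : E ≤ centralizer (X : Set G) := by
      rw [← hCeq]; exact inf_le_right
    exact hEC.trans (Subgroup.centralizer_le_normalizer _)
  · -- `|X| ∈ τ₃(M)`
    obtain ⟨E3, hE3, hXE3⟩ := Cfsg.Agent.Lib.Helper21.exists_isPiHallOf_ge (tau3 M) E hEs X hXE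
      (hXπ _ h3)
    obtain ⟨hE3c, -, hE3n⟩ := h15c E3 hE3
    exact hE3n.trans (Cfsg.Agent.Lib.Helper90.BG1212.normalizer_le_of_isCyclic hE3c hXE3)

end Cfsg.Agent.Lib.Helper32.BG142
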