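import Mathlib
import Cfsg.Prelude.Def_Local
import Cfsg.Agent.Lib.Helper76.PSolvable
import Cfsg.Agent.Lib.Helper30.PPrimeCore

set_option autoImplicit false
set_option linter.style.haveILetI false

/-!
# Dual Hall–Higman lemma

In a finite `p`-solvable group `G` with `O_p(G) = 1`, `C_G(O_{p'}(G)) ≤ O_{p'}(G)`.
-/

namespace Cfsg.Agent.Lib.Helper62

open Cfsg Cfsg.Agent.Lib.Helper76

variable {G : Type*} [Group G]

/-- One step of the dual Hall–Higman lemma. -/
theorem dualHH_step [Finite G] {p : ℕ} [Fact p.Prime] (hO : pCore p G = ⊥)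
    {A B : Subgroup G} [hAn : A.Normal] [hBn : B.Normal] (hAB : A ≤ B)
    (hf : PFactor p (A.relIndex B))
    (hA : A ⊓ Subgroup.centralizer (pPrimeCore p G : Set G) ≤ pPrimeCore p G) :
    B ⊓ Subgroup.centralizer (pPrimeCore p G : Set G) ≤ pPrimeCore p G := by
  haveI hKn : (pPrimeCore p G).Normal := inferInstance
  set K := pPrimeCore p G with hK
  set C := Subgroup.centralizer (K : Set G) with hC
  haveI hCn : C.Normal := Subgroup.normal_centralizer
  set D := B ⊓ C with hD
  set Z := A ⊓ C with hZ
  haveI hDn : D.Normal := Subgroup.normal_inf_normal B C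
  have hZD : Z ≤ D := inf_le_inf_right C hAB
  have hKcop : (Nat.card K).Coprime p := Cfsg.Agent.Lib.Helper30.pPrimeCore_card_coprime p
  have hZcop : (Nat.card Z).Coprime p :=
    Nat.Coprime.coprime_dvd_left (Subgroup.card_dvd_of_le hA) hKcop
  have hfac : PFactor p (Z.relIndex D) := hf.of_dvd (relIndex_inf_dvd A B C)
  have hcard : Nat.card Z * Z.relIndex D = Nat.card D :=
    Cfsg.Agent.Lib.Helper30.card_mul_relIndex_eq hZD
  have hDcop : (Nat.card D).Coprime p := by
    rcases hfac with ⟨m, hm⟩ | hcop
    · -- a Sylow `p`-subgroup of `D` is normal in `D`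
      let S : Sylow p D := default
      have hZcen : Z.subgroupOf D ≤ Subgroup.center D := by
        intro z hz
        rw [Subgroup.mem_subgroupOf] at hz
        rw [Subgroup.mem_center_iff]
        intro d
        have hd : (d : G) ∈ C := d.2.2
        have hzK : (z : G) ∈ K := hA hz
        have := (Subgroup.mem_centralizer_iff.1 hd) (z : G) hzK
        apply Subtype.ext
        simp only [Subgroup.coe_mul]
        exact this.symm
      have hidxZ : (Z.subgroupOf D).index = p ^ m := hm
      have hidxS : ((S : Subgroup D).index).Coprime p := by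
        have := S.not_dvd_index
        exact ((Nat.Prime.coprime_iff_not_dvd Fact.out).mpr this).symm
      have htop : (S : Subgroup D) ⊔ Z.subgroupOf D = ⊤ := by
        rw [← Subgroup.index_eq_one]
        have h1 : ((S : Subgroup D) ⊔ Z.subgroupOf D).index ∣ (S : Subgroup D).index :=
          Subgroup.index_dvd_of_le le_sup_left
        have h2 : ((S : Subgroup D) ⊔ Z.subgroupOf D).index ∣ p ^ m :=
          hidxZ ▸ Subgroup.index_dvd_of_le le_sup_right
        have h3 : ((S : Subgroup D).index).Coprime (p ^ m) := Nat.Coprime.pow_right m hidxS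
        exact Nat.eq_one_of_dvd_coprimes h3 h1 h2
      have hSn : (S : Subgroup D).Normal := by
        rw [← Subgroup.normalizer_eq_top_iff]
        rw [eq_top_iff, ← htop]
        apply sup_le Subgroup.le_normalizer
        exact hZcen.trans (Subgroup.center_le_normalizer _)
      haveI hSc : (S : Subgroup D).Characteristic := Sylow.characteristic_of_normal S hSn
      have hSGn : ((S : Subgroup D).map D.subtype).Normal :=
        ConjAct.normal_of_characteristic_of_normal
      have hSGp : IsPGroup p ((S : Subgroup D).map D.subtype) := S.2.map _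
      have hle : (S : Subgroup D).map D.subtype ≤ pCore p G := le_sSup ⟨hSGn, hSGp⟩
      rw [hO, le_bot_iff] at hle
      have hSbot : (S : Subgroup D) = ⊥ := by
        rw [eq_bot_iff]
        intro s hs
        have : (s : G) ∈ (S : Subgroup D).map D.subtype := ⟨s, hs, rfl⟩
        rw [hle, Subgroup.mem_bot] at this
        rw [Subgroup.mem_bot]
        exact Subtype.ext this
      have hcardD : Nat.card D = (S : Subgroup D).index := by
        rw [← Subgroup.card_mul_index (S : Subgroup D), hSbot]
        simp
      rw [hcardD]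
      exact hidxS
    · rw [← hcard]
      exact Nat.Coprime.mul_left hZcop hcop
  exact Cfsg.Agent.Lib.Helper30.le_pPrimeCore p D hDcop

/-- **Dual Hall–Higman lemma**: in a finite `p`-solvable group with `O_p(G) = 1`,
`C_G(O_{p'}(G)) ≤ O_{p'}(G)`. -/
theorem centralizer_pPrimeCore_le_of_isPSolvable [Finite G] {p : ℕ} [Fact p.Prime]
    (h : IsPSolvable p G) (hO : pCore p G = ⊥) :
    Subgroup.centralizer (pPrimeCore p G : Set G) ≤ pPrimeCore p G := by
  obtain ⟨n, H, h0, hl, hmono, hnorm, hfac⟩ := isPSolvable_iff.1 h
  have key : ∀ i : Fin (n + 1),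
      H i ⊓ Subgroup.centralizer (pPrimeCore p G : Set G) ≤ pPrimeCore p G := by
    intro i
    induction i using Fin.induction with
    | zero => rw [h0, bot_inf_eq]; exact bot_le
    | succ i ih =>
      haveI := hnorm i.castSucc
      haveI := hnorm i.succ
      exact dualHH_step hO (hmono (Fin.castSucc_le_succ i)) (hfac i) ih
  have := key (Fin.last n)
  rwa [hl, top_inf_eq] at this

end Cfsg.Agent.Lib.Helper62
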