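import Mathlib
import Cfsg.Agent.Lib.Helper24.CoprimeAbelian

set_option autoImplicit false

namespace Cfsg.Agent.Lib.Helper62

open Subgroup
open scoped commutatorElement

variable {X : Type*} [Group X]

/-- **Coprime action on an abelian section.** `A` acts coprimely on `V`, `W ⊴ V` is `A`-invariant
with `V / W` abelian and `V = [V, A] W`. Then any `U ≤ V` with `[U, A] ≤ W` lies in `W`
(that is `C_{V/W}(A) = 1`). -/
theorem le_of_commutator_le_of_abelian_section [Finite X] (A V W U : Subgroup X)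
    (hVW : V ≤ normalizer (W : Set X)) (hAV : A ≤ normalizer (V : Set X))
    (hAW : A ≤ normalizer (W : Set X)) (hab : ⁅V, V⁆ ≤ W)
    (hcop : (Nat.card A).Coprime (Nat.card V)) (hUV : U ≤ V) (hUA : ⁅U, A⁆ ≤ W)
    (hgen : V ≤ ⁅V, A⁆ ⊔ W) : U ≤ W := by
  classical
  set N : Subgroup X := normalizer (W : Set X) with hN
  have hWN : W ≤ N := le_normalizer
  have hnorm : (W.subgroupOf N).Normal := normal_in_normalizer
  let π : N →* N ⧸ W.subgroupOf N := QuotientGroup.mk' _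
  set V' : Subgroup (N ⧸ W.subgroupOf N) := (V.subgroupOf N).map π with hV'
  set A' : Subgroup (N ⧸ W.subgroupOf N) := (A.subgroupOf N).map π with hA'
  -- V' is commutative
  have hcomm : ∀ x y : X, x ∈ V → y ∈ V → ∀ (hx : x ∈ N) (hy : y ∈ N),
      π ⟨x, hx⟩ * π ⟨y, hy⟩ = π ⟨y, hy⟩ * π ⟨x, hx⟩ := by
    intro x y hx hy hxN hyN
    rw [← map_mul, ← map_mul]
    apply (QuotientGroup.eq).mpr
    rw [mem_subgroupOf]
    have h1 : ⁅x⁻¹, y⁻¹⁆ ∈ W := hab (commutator_mem_commutator (V.inv_mem hx) (V.inv_mem hy))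
    have e : ((⟨x, hxN⟩ * ⟨y, hyN⟩ : N)⁻¹ * (⟨y, hyN⟩ * ⟨x, hxN⟩) : N).1 = (⁅x⁻¹, y⁻¹⁆)⁻¹ := by
      simp only [commutatorElement_def, Subgroup.coe_mul, Subgroup.coe_inv]
      group
    rw [e]
    exact W.inv_mem h1
  have hV'comm : IsMulCommutative V' := by
    refine ⟨⟨?_⟩⟩
    rintro ⟨a, ha⟩ ⟨b, hb⟩
    obtain ⟨⟨x, hxN⟩, hx, rfl⟩ := ha
    obtain ⟨⟨y, hyN⟩, hy, rfl⟩ := hb
    apply Subtype.ext
    exact hcomm x y hx hy hxN hyN
  -- A' normalizes V'
  have hA'V' : A' ≤ normalizer (V' : Set (N ⧸ W.subgroupOf N)) := by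
    have h1 : A.subgroupOf N ≤ normalizer ((V.subgroupOf N : Subgroup N) : Set N) := by
      refine le_trans ?_ (le_normalizer_comap N.subtype)
      intro a ha
      exact hAV ha
    exact (Subgroup.map_mono h1).trans (le_normalizer_map π)
  -- coprimality
  have hcop' : (Nat.card A').Coprime (Nat.card V') := by
    have h1 : Nat.card A' ∣ Nat.card A := by
      have := Subgroup.card_map_dvd (H := A.subgroupOf N) π
      rwa [Nat.card_congr (subgroupOfEquivOfLe (hAW)).toEquiv] at this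
    have h2 : Nat.card V' ∣ Nat.card V := by
      have := Subgroup.card_map_dvd (H := V.subgroupOf N) π
      rwa [Nat.card_congr (subgroupOfEquivOfLe (hVW)).toEquiv] at this
    exact Nat.Coprime.coprime_dvd_left h1 (Nat.Coprime.coprime_dvd_right h2 hcop)
  have key := Cfsg.Agent.Lib.Helper24.commutator_inf_centralizer_eq_bot_of_abelian V' A' hA'V' hcop'
  -- every element of V maps into ⁅V', A'⁆
  let T : Subgroup X := ((⁅V', A'⁆ : Subgroup (N ⧸ W.subgroupOf N)).comap π).map N.subtype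
  have hT : ∀ x : X, x ∈ T ↔ ∃ h : x ∈ N, π ⟨x, h⟩ ∈ ⁅V', A'⁆ := by
    intro x
    constructor
    · rintro ⟨⟨y, hy⟩, hy', rfl⟩
      exact ⟨hy, hy'⟩
    · rintro ⟨h, h'⟩
      exact ⟨⟨x, h⟩, h', rfl⟩
  have hVT : V ≤ T := by
    refine hgen.trans (sup_le ?_ ?_)
    · rw [commutator_le]
      intro v hv a ha
      rw [hT]
      have hvN : v ∈ N := hVW hv
      have haN : a ∈ N := hAW ha
      have hcN : ⁅v, a⁆ ∈ N := by
        rw [commutatorElement_def]
        exact N.mul_mem (N.mul_mem (N.mul_mem hvN haN) (N.inv_mem hvN)) (N.inv_mem haN)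
      refine ⟨hcN, ?_⟩
      have e : π ⟨⁅v, a⁆, hcN⟩ = ⁅π ⟨v, hvN⟩, π ⟨a, haN⟩⁆ := by
        rw [← map_commutatorElement]
        rfl
      rw [e]
      exact commutator_mem_commutator (mem_map_of_mem π (by rw [mem_subgroupOf]; exact hv))
        (mem_map_of_mem π (by rw [mem_subgroupOf]; exact ha))
    · intro w hw
      rw [hT]
      refine ⟨hWN hw, ?_⟩
      have : π ⟨w, hWN hw⟩ = 1 := by
        apply (QuotientGroup.eq_one_iff _).mpr
        rw [mem_subgroupOf]; exact hw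
      rw [this]; exact one_mem _
  intro u hu
  obtain ⟨huN, hu'⟩ := (hT u).mp (hVT (hUV hu))
  have hcent : π ⟨u, huN⟩ ∈ centralizer (A' : Set (N ⧸ W.subgroupOf N)) := by
    rw [mem_centralizer_iff]
    rintro _ ⟨⟨a, haN⟩, ha, rfl⟩
    rw [SetLike.mem_coe, mem_subgroupOf] at ha
    -- π a * π u = π u * π a
    rw [← map_mul, ← map_mul]
    apply (QuotientGroup.eq).mpr
    rw [mem_subgroupOf]
    have h1 : ⁅u⁻¹, a⁻¹⁆ ∈ W := hUA (commutator_mem_commutator (U.inv_mem hu) (A.inv_mem ha))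
    have e : ((⟨a, haN⟩ * ⟨u, huN⟩ : N)⁻¹ * (⟨u, huN⟩ * ⟨a, haN⟩) : N).1 = ⁅u⁻¹, a⁻¹⁆ := by
      simp only [commutatorElement_def, Subgroup.coe_mul, Subgroup.coe_inv]
      group
    rw [e]
    exact h1
  have h1 : π ⟨u, huN⟩ ∈ (⁅V', A'⁆ ⊓ centralizer (A' : Set (N ⧸ W.subgroupOf N)) : Subgroup _) :=
    ⟨hu', hcent⟩
  rw [key, mem_bot] at h1
  have h2 := (QuotientGroup.eq_one_iff _).mp h1
  rwa [mem_subgroupOf] at h2

end Cfsg.Agent.Lib.Helper62
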