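import Mathlib
import Cfsg.Agent.Lib.Helper91.BG152Defs
import Cfsg.Agent.Lib.Helper24.Coprime

/-!
# BG 15.2, leaf B2 (`fpf_mod_Q`) of helper91's skeleton

`fpf_mod_Q_of` is the leaf with B1 (`Ks ≤ Q`) as an explicit hypothesis.
-/

set_option autoImplicit false
set_option linter.unusedSectionVars false
set_option linter.unusedVariables false

namespace Cfsg.Agent.Lib.Helper91.BG152

open Subgroup

universe u
variable {M : Type u} [Group M] [Finite M] {H K Q : Subgroup M} {q : ℕ}

/-- generic coprime-action step: `k` of order prime to `|H|` normalizing `H`, `Q ≤ M` normal,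
`C_H(k) ≤ Q`: an element of `H` centralized by `k` modulo `Q` lies in `Q`. -/
theorem fpf_mod_Q_generic (H Q : Subgroup M) [hHn : H.Normal] [hQn : Q.Normal] (k : M)
    (hcop : (orderOf k).Coprime (Nat.card H))
    (hC : H ⊓ centralizer ({k} : Set M) ≤ Q) :
    ∀ x ∈ H, k * x * k⁻¹ * x⁻¹ ∈ Q → x ∈ Q := by
  classical
  intro x hxH hxk
  let f : M →* M ⧸ Q := QuotientGroup.mk' Q
  have hker : ∀ y : M, f y = 1 ↔ y ∈ Q := fun y => by
    rw [← MonoidHom.mem_ker, QuotientGroup.ker_mk']
  set A : Subgroup M := zpowers k with hA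
  set W : Subgroup M := H ⊓ (centralizer ({f k} : Set (M ⧸ Q))).comap f with hW
  have hmemW : ∀ y : M, y ∈ W ↔ y ∈ H ∧ f k * f y = f y * f k := by
    intro y
    rw [hW, Subgroup.mem_inf, Subgroup.mem_comap, Subgroup.mem_centralizer_iff]
    constructor
    · rintro ⟨h1, h2⟩
      exact ⟨h1, h2 (f k) (Set.mem_singleton _)⟩
    · rintro ⟨h1, h2⟩
      refine ⟨h1, fun z hz => ?_⟩
      rw [Set.mem_singleton_iff] at hz
      rw [hz]; exact h2
  have hxW : x ∈ W := by
    rw [hmemW]
    refine ⟨hxH, ?_⟩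
    have h1 : f (k * x * k⁻¹ * x⁻¹) = 1 := (hker _).mpr hxk
    rw [map_mul, map_mul, map_mul, map_inv, map_inv] at h1
    have h2 : f k * f x * (f k)⁻¹ = f x := by
      have := congrArg (fun t => t * f x) h1
      simpa using this
    calc f k * f x = f k * f x * (f k)⁻¹ * f k := by group
      _ = f x * f k := by rw [h2]
  -- commuting with `f k` passes to powers
  have hcomm_pow : ∀ (y : M), f k * f y = f y * f k → ∀ a ∈ A, f a * f y = f y * f a := by
    intro y hy a ha
    obtain ⟨i, rfl⟩ := Subgroup.mem_zpowers_iff.mp ha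
    rw [map_zpow]
    exact ((Commute.zpow_left (show Commute (f k) (f y) from hy) i)).eq
  have hAW : A ≤ normalizer (W : Set M) := by
    intro a ha
    rw [Subgroup.mem_normalizer_iff]
    intro y
    have key : ∀ (b : M), b ∈ A → ∀ y : M, y ∈ W → b * y * b⁻¹ ∈ W := by
      intro b hb y hy
      rw [hmemW] at hy ⊢
      refine ⟨hHn.conj_mem y hy.1 b, ?_⟩
      have hb' : f k * f b = f b * f k := by
        obtain ⟨i, rfl⟩ := Subgroup.mem_zpowers_iff.mp hb
        rw [map_zpow]
        exact ((Commute.zpow_right (Commute.refl (f k)) i)).eq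
      rw [map_mul, map_mul, map_inv]
      have c1 : Commute (f k) (f b) := hb'
      have c2 : Commute (f k) (f y) := hy.2
      exact ((c1.mul_right c2).mul_right c1.inv_right).eq
    constructor
    · intro hy
      exact key a ha y hy
    · intro hy
      have := key a⁻¹ (A.inv_mem ha) _ hy
      have e : a⁻¹ * (a * y * a⁻¹) * a⁻¹⁻¹ = y := by group
      rwa [e] at this
  have hcopAW : (Nat.card A).Coprime (Nat.card W) := by
    rw [hA, Nat.card_zpowers]
    exact Nat.Coprime.coprime_dvd_right (Subgroup.card_dvd_of_le inf_le_left) hcop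
  have hsolvA : Group.IsSolvable A := by
    have : IsMulCommutative A := by rw [hA]; infer_instance
    have : ∀ a b : A, a * b = b * a := fun a b => mul_comm' a b
    exact Group.isSolvable_of_comm this
  have hdec := Cfsg.Agent.Lib.Helper24.commutator_sup_centralizer_eq A W hAW hcopAW (Or.inl hsolvA)
  have h1 : ⁅W, A⁆ ≤ Q := by
    rw [Subgroup.commutator_le]
    intro w hw a ha
    rw [← hker]
    rw [hmemW] at hw
    have hc := hcomm_pow w hw.2 a ha
    rw [commutatorElement_def, map_mul, map_mul, map_mul, map_inv, map_inv]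
    have c : Commute (f a) (f w) := hc
    calc f w * f a * (f w)⁻¹ * (f a)⁻¹ = f w * (f a * (f w)⁻¹ * (f a)⁻¹) := by group
      _ = f w * ((f w)⁻¹ * f a * (f a)⁻¹) := by rw [(c.inv_right).eq]
      _ = 1 := by group
  have h2 : W ⊓ centralizer (A : Set M) ≤ Q := by
    intro y hy
    apply hC
    obtain ⟨hyW, hyA⟩ := Subgroup.mem_inf.mp hy
    refine Subgroup.mem_inf.mpr ⟨((hmemW y).mp hyW).1, ?_⟩
    rw [Subgroup.mem_centralizer_iff]
    intro z hz
    rw [Set.mem_singleton_iff] at hz
    rw [hz]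
    exact Subgroup.mem_centralizer_iff.mp hyA k (Subgroup.mem_zpowers k)
  have : W ≤ Q := by
    rw [← hdec]
    exact sup_le h1 h2
  exact this hxW

/-- B2 with B1 as a hypothesis. -/
theorem fpf_mod_Q_of [H.Normal] [Q.Normal] (h : CfgB H K Q q)
    (hB1 : H ⊓ centralizer (K : Set M) ≤ Q) :
    ∀ k ∈ K, k ≠ 1 → ∀ x ∈ H, k * x * k⁻¹ * x⁻¹ ∈ Q → x ∈ Q := by
  intro k hk hk1
  apply fpf_mod_Q_generic H Q k
  · have h1 : orderOf k ∣ Nat.card K := by
      have := orderOf_dvd_natCard (⟨k, hk⟩ : K)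
      rwa [Subgroup.orderOf_mk] at this
    exact (Nat.Coprime.coprime_dvd_left h1 h.cop.symm)
  · rw [h.pa k hk hk1]
    exact hB1

end Cfsg.Agent.Lib.Helper91.BG152
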