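import Mathlib
import Cfsg.Agent.Lib.Helper91.BG152Defs
import Cfsg.Agent.Lib.Helper62.BG152B2
import Cfsg.Agent.Lib.Helper24.FpfConj

/-!
# BG 15.2, leaves B3 (`map_nilpotent`) and B3b (`Q_sylow`) of helper91's skeleton,
with B1 (`Ks ≤ Q`) as an explicit hypothesis (`_of` versions).
-/

set_option autoImplicit false
set_option linter.unusedSectionVars false
set_option linter.unusedVariables false
set_option linter.style.haveILetI false

namespace Cfsg.Agent.Lib.Helper91.BG152

open Subgroup

universe u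
variable {M : Type u} [Group M] [Finite M] {H K Q : Subgroup M} {q : ℕ}

/-- B3 with B1 as a hypothesis: `H Q / Q` is nilpotent (Thompson). -/
theorem map_nilpotent_of [hHn : H.Normal] [hQn : Q.Normal] (h : CfgB H K Q q)
    (hB1 : H ⊓ centralizer (K : Set M) ≤ Q) :
    Group.IsNilpotent ↥(H.map (QuotientGroup.mk' Q)) := by
  classical
  let f : M →* M ⧸ Q := QuotientGroup.mk' Q
  have hker : ∀ y : M, f y = 1 ↔ y ∈ Q := fun y => by
    rw [← MonoidHom.mem_ker, QuotientGroup.ker_mk']
  -- an element of prime order of `K`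
  have hcK : Nat.card K ≠ 1 := fun h1 => h.K1 (Subgroup.card_eq_one.mp h1)
  obtain ⟨p, hp, hpK⟩ := Nat.exists_prime_and_dvd hcK
  haveI : Fact p.Prime := ⟨hp⟩
  obtain ⟨k', hk'⟩ := exists_prime_orderOf_dvd_card' p hpK
  set k : M := (k' : M) with hk
  have hkK : k ∈ K := k'.2
  have hko : orderOf k = p := by rw [hk, Subgroup.orderOf_coe]; exact hk'
  have hk1 : k ≠ 1 := by
    intro h1
    rw [h1, orderOf_one] at hko
    exact hp.ne_one hko.symm
  have hkp : k ^ p = 1 := by rw [← hko]; exact pow_orderOf_eq_one k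
  haveI hHfn : (H.map f).Normal :=
    Subgroup.Normal.map hHn f (QuotientGroup.mk'_surjective Q)
  apply Cfsg.Agent.Lib.Helper24.FpfConj.nilpotent_of_fpf_conj (H.map f) (f k) ?_ p hp ?_ ?_
  · rw [Subgroup.normalizer_eq_top]; trivial
  · rw [← map_pow, hkp, map_one]
  · rw [eq_bot_iff]
    intro y' hy'
    obtain ⟨hy'H, hy'c⟩ := Subgroup.mem_inf.mp hy'
    obtain ⟨y, hyH, rfl⟩ := hy'H
    rw [Subgroup.mem_bot]
    have hc : f k * f y = f y * f k :=
      Subgroup.mem_centralizer_iff.mp hy'c (f k) (Set.mem_singleton _)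
    have h1 : f (k * y * k⁻¹ * y⁻¹) = 1 := by
      rw [map_mul, map_mul, map_mul, map_inv, map_inv, hc]
      group
    have h2 : k * y * k⁻¹ * y⁻¹ ∈ Q := (hker _).mp h1
    have h3 : y ∈ Q := fpf_mod_Q_of h hB1 k hkK hk1 y hyH h2
    exact (hker y).mpr h3

/-- `Q ≤ H` (= leaf B0, re-proved here to stay self-contained). -/
theorem Q_sylow_Q_le_H [hHn : H.Normal] (h : CfgB H K Q q) : Q ≤ H := by
  classical
  haveI : Fact q.Prime := ⟨h.qp⟩
  let g : M →* M ⧸ H := QuotientGroup.mk' H
  -- `H.index ∣ |K|`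
  have hidx : H.index ∣ Nat.card K := by
    have hsurj : Function.Surjective (g.comp K.subtype) := by
      intro y
      obtain ⟨m, rfl⟩ := QuotientGroup.mk'_surjective H y
      have hm : m ∈ H ⊔ K := by rw [h.sup]; trivial
      rw [sup_comm] at hm
      obtain ⟨a, ha, b, hb, rfl⟩ : ∃ a ∈ K, ∃ b ∈ H, a * b = m := by
        rw [← Subgroup.mem_sup_of_normal_right]
        exact hm
      refine ⟨⟨a, ha⟩, ?_⟩
      show g a = g (a * b)
      rw [map_mul]
      have : g b = 1 := by
        rw [← MonoidHom.mem_ker, QuotientGroup.ker_mk']; exact hb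
      rw [this, mul_one]
    have := Subgroup.card_dvd_of_surjective (g.comp K.subtype) hsurj
    rwa [← Subgroup.index_eq_card] at this
  -- `q ∣ |H|`
  have hqH : q ∣ Nat.card H := by
    rw [← h.cKs]
    exact Subgroup.card_dvd_of_le inf_le_left
  have hqK : (Nat.card K).Coprime q := by
    have := Nat.Coprime.coprime_dvd_left hqH h.cop
    exact this.symm
  -- the image of `Q` in `M/H` is a `q`-group of order dividing `|K|`
  have himg : IsPGroup q ↥(Q.map g) := h.pQ.map g
  obtain ⟨n, hn⟩ := himg.exists_card_eq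
  have hdvd : Nat.card ↥(Q.map g) ∣ Nat.card K := by
    have h1 : Nat.card ↥(Q.map g) ∣ Nat.card (M ⧸ H) := Subgroup.card_subgroup_dvd_card _
    rw [← Subgroup.index_eq_card] at h1
    exact h1.trans hidx
  have hone : Nat.card ↥(Q.map g) = 1 := by
    rw [hn] at hdvd ⊢
    have hc : (q ^ n).Coprime q := Nat.Coprime.coprime_dvd_left hdvd hqK
    rcases Nat.eq_zero_or_pos n with h0 | hpos
    · rw [h0, pow_zero]
    · exfalso
      have : q ∣ q ^ n := dvd_pow_self q hpos.ne'
      have hq1 := Nat.Coprime.eq_one_of_dvd hc.symm this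
      exact h.qp.ne_one hq1
  have hbot : Q.map g = ⊥ := Subgroup.card_eq_one.mp hone
  intro x hx
  have : g x ∈ Q.map g := Subgroup.mem_map_of_mem g hx
  rw [hbot, Subgroup.mem_bot, ← MonoidHom.mem_ker, QuotientGroup.ker_mk'] at this
  exact this

/-- B3b with B1 as a hypothesis: `Q` is a Sylow `q`-subgroup of `M`. -/
theorem Q_sylow_of [hHn : H.Normal] [hQn : Q.Normal] (h : CfgB H K Q q)
    (hB1 : H ⊓ centralizer (K : Set M) ≤ Q) : ¬ q ∣ Q.index := by
  classical
  haveI : Fact q.Prime := ⟨h.qp⟩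
  let f : M →* M ⧸ Q := QuotientGroup.mk' Q
  have hfs : Function.Surjective f := QuotientGroup.mk'_surjective Q
  have hQH : Q ≤ H := Q_sylow_Q_le_H h
  haveI hnil : Group.IsNilpotent ↥(H.map f) := map_nilpotent_of h hB1
  haveI hHfn : (H.map f).Normal := Subgroup.Normal.map hHn f hfs
  -- `q ∤ |H/Q|`
  have hq1 : ¬ q ∣ Nat.card ↥(H.map f) := by
    intro hdvd
    obtain ⟨R⟩ : Nonempty (Sylow q ↥(H.map f)) := inferInstance
    have hRne : (R : Subgroup ↥(H.map f)) ≠ ⊥ := R.ne_bot_of_dvd_card hdvd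
    haveI hRn : (R : Subgroup ↥(H.map f)).Normal := inferInstance
    haveI hRc : (R : Subgroup ↥(H.map f)).Characteristic := R.characteristic_of_normal hRn
    set R' : Subgroup (M ⧸ Q) := (R : Subgroup ↥(H.map f)).map (H.map f).subtype with hR'
    haveI hR'n : R'.Normal := ConjAct.normal_of_characteristic_of_normal
    have hR'p : IsPGroup q ↥R' := R.isPGroup'.map _
    set S : Subgroup M := R'.comap f with hS
    have hSn : S.Normal := Subgroup.Normal.comap hR'n f
    have hSp : IsPGroup q ↥S := by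
      apply hR'p.comap_of_ker_isPGroup f
      rw [QuotientGroup.ker_mk']
      exact h.pQ
    have hSQ : S ≤ Q := h.maxQ S hSn hSp
    have hR'bot : R' = ⊥ := by
      rw [eq_bot_iff]
      intro y hy
      obtain ⟨m, rfl⟩ := hfs y
      have hm : m ∈ S := hy
      have : m ∈ Q := hSQ hm
      rw [Subgroup.mem_bot, ← MonoidHom.mem_ker, QuotientGroup.ker_mk']
      exact this
    apply hRne
    rw [eq_bot_iff]
    intro y hy
    have : ((H.map f).subtype y) ∈ R' := Subgroup.mem_map_of_mem _ hy
    rw [hR'bot, Subgroup.mem_bot] at this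
    rw [Subgroup.mem_bot]
    exact Subtype.ext this
  -- `q ∤ |M : H|`
  have hqH : q ∣ Nat.card H := by
    rw [← h.cKs]
    exact Subgroup.card_dvd_of_le inf_le_left
  have hq2 : ¬ q ∣ H.index := by
    intro hd
    -- `H.index ∣ |K|`
    let g : M →* M ⧸ H := QuotientGroup.mk' H
    have hidx : H.index ∣ Nat.card K := by
      have hsurj : Function.Surjective (g.comp K.subtype) := by
        intro y
        obtain ⟨m, rfl⟩ := QuotientGroup.mk'_surjective H y
        have hm : m ∈ H ⊔ K := by rw [h.sup]; trivial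
        rw [sup_comm] at hm
        obtain ⟨a, ha, b, hb, rfl⟩ : ∃ a ∈ K, ∃ b ∈ H, a * b = m := by
          rw [← Subgroup.mem_sup_of_normal_right]
          exact hm
        refine ⟨⟨a, ha⟩, ?_⟩
        show g a = g (a * b)
        rw [map_mul]
        have : g b = 1 := by
          rw [← MonoidHom.mem_ker, QuotientGroup.ker_mk']; exact hb
        rw [this, mul_one]
      have := Subgroup.card_dvd_of_surjective (g.comp K.subtype) hsurj
      rwa [← Subgroup.index_eq_card] at this
    have hqK : q ∣ Nat.card K := hd.trans hidx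
    have := Nat.Coprime.eq_one_of_dvd (Nat.Coprime.coprime_dvd_left hqH h.cop)
      (show q ∣ Nat.card K from hqK)
    exact h.qp.ne_one this
  -- conclude
  have hrel : Q.relIndex H = Nat.card ↥(H.map f) := by
    have := Subgroup.relIndex_ker f (K := H)
    rwa [QuotientGroup.ker_mk'] at this
  intro hd
  rw [← Subgroup.relIndex_mul_index hQH, hrel] at hd
  rcases (Nat.Prime.dvd_mul h.qp).mp hd with h1 | h2
  · exact hq1 h1
  · exact hq2 h2

end Cfsg.Agent.Lib.Helper91.BG152
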