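import Mathlib
import Cfsg.Agent.Lib.Helper91.BG152Defs
import Cfsg.Agent.Lib.Helper62.BG152B2
import Cfsg.Agent.Lib.Helper62.BG152B3
import Cfsg.Agent.Lib.Helper64.BG152B1

/-!
# BG 15.2: the exact-named leaves B2 `fpf_mod_Q`, B3 `map_nilpotent`, B3b `Q_sylow`
of helper91's skeleton (the `_of` versions fed with helper64's B1 `Ks_le_Q`).
-/

set_option autoImplicit false
set_option linter.unusedSectionVars false
set_option linter.unusedVariables false

namespace Cfsg.Agent.Lib.Helper91.BG152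

open Subgroup

universe u
variable {M : Type u} [Group M] [Finite M] {H K Q : Subgroup M} {q : ℕ}

/-- B2. -/
theorem fpf_mod_Q [H.Normal] [Q.Normal] (h : CfgB H K Q q) :
    ∀ k ∈ K, k ≠ 1 → ∀ x ∈ H, k * x * k⁻¹ * x⁻¹ ∈ Q → x ∈ Q :=
  fpf_mod_Q_of h (Ks_le_Q h)

/-- B3. -/
theorem map_nilpotent [H.Normal] [Q.Normal] (h : CfgB H K Q q) :
    Group.IsNilpotent ↥(H.map (QuotientGroup.mk' Q)) :=
  map_nilpotent_of h (Ks_le_Q h)

/-- B3b. -/
theorem Q_sylow [H.Normal] [Q.Normal] (h : CfgB H K Q q) : ¬ q ∣ Q.index :=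
  Q_sylow_of h (Ks_le_Q h)

end Cfsg.Agent.Lib.Helper91.BG152
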