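import Mathlib
import Cfsg.Agent.S1350
import Cfsg.Agent.S1355
import Cfsg.Agent.S1357
import Cfsg.Agent.S1365
import Cfsg.Agent.Lib.Helper24.BG121
import Cfsg.Agent.Lib.Helper24.BG152A
import Cfsg.Agent.Lib.Helper24.BG152E
import Cfsg.Agent.Lib.Helper24.BG152G
import Cfsg.Agent.Lib.Helper24.BG152H
import Cfsg.Agent.Lib.Helper24.InvCompl
import Cfsg.Agent.Lib.Helper23.FitUniqueB
import Cfsg.Agent.Lib.Helper33.Conj

/-!
# BG §16, S1382 (Type III or IV ↔ `K ≠ 1`, `U = 1`, `M_F ≠ M_σ`): the direction `→`.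

`forward` : type III or IV (indeed any type-`P` datum with `|W₁|` prime, `U_type ≠ 1`,
`N_G(U_type) ≤ M`) forces `K ≠ ⊥`, `U = ⊥` (given the clause `N_G(U) ⊄ M` of S1363 as an explicit
hypothesis) and `M_F ≠ M_σ`.
-/

set_option autoImplicit false
set_option linter.unusedSectionVars false
set_option linter.unusedVariables false
set_option linter.style.haveILetI false

namespace Cfsg.Agent.Lib.Helper62.BG1382

open Cfsg Subgroup

universe u
variable {G : Type u} [Group G] [Finite G]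

/-- `|M| = |X| * |M : X|` for `X ≤ M`. -/
theorem card_eq_card_mul_relIndex {X M : Subgroup G} (h : X ≤ M) :
    Nat.card M = Nat.card X * X.relIndex M := by
  have h1 := Subgroup.card_mul_index (X.subgroupOf M)
  have h2 : Nat.card ↥(X.subgroupOf M) = Nat.card X :=
    Nat.card_congr (Subgroup.subgroupOfEquivOfLe h).toEquiv
  rw [h2] at h1
  exact h1.symm

/-- For type-`P` data with `|W₁|` prime, the prime `|W₁|` lies in `κ(M)`. -/
theorem card_W₁_mem_kappa (hG : IsMinSimpleOddOrder G) {M W₁ U' W₂ : Subgroup G} (hM : IsCoatom M)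
    (hP : IsTypePWith M W₁ U' W₂) (hW₁ : (Nat.card W₁).Prime) : Nat.card W₁ ∈ kappa M := by
  classical
  set r := Nat.card W₁ with hr
  haveI : Fact r.Prime := ⟨hW₁⟩
  have hW₁M : W₁ ≤ M := hP.W₁_compl.2.1
  obtain ⟨⟨w, hwW⟩, hw1'⟩ := (Subgroup.ne_bot_iff_exists_ne_one).mp hP.W₁_ne
  have hw1 : w ≠ 1 := fun h => hw1' (Subtype.ext h)
  obtain ⟨⟨y, hyW⟩, hy1'⟩ := (Subgroup.ne_bot_iff_exists_ne_one).mp hP.selfNormalizing.2.1
  have hy1 : y ≠ 1 := fun h => hy1' (Subtype.ext h)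
  -- `w` and `y` commute
  have hwy : w * y = y * w := by
    have h1 : y ∈ ⁅M, M⁆ ⊓ centralizer ({w} : Set G) := by
      rw [hP.W₂_centralizer w hwW hw1]; exact hyW
    exact Subgroup.mem_centralizer_iff.mp (Subgroup.mem_inf.mp h1).2 w (Set.mem_singleton _)
  -- `y ∈ M_σ`
  have hyσ : y ∈ sigmaCore M :=
    (Cfsg.Agent.S1355.result hG M hM).2.1 (Subgroup.mem_inf.mp (hP.W₂_le hyW)).1
  have hσM : sigmaCore M ≤ M := Cfsg.Agent.Lib.Helper24.BG152.g_sigmaCore_le M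
  have hσn : M ≤ normalizer ((sigmaCore M : Subgroup G) : Set G) :=
    Cfsg.Agent.Lib.Helper24.BG.le_normalizer_sigmaCore M
  -- `r ∣ |M|`
  have hrM : r ∣ Nat.card M := Subgroup.card_dvd_of_le hW₁M
  -- `r ∉ σ(M)`
  have hrσ : r ∉ sigma M := by
    intro hrs
    have hHall := (Cfsg.Agent.S1350.result hG M hM).1
    have hcop : (Nat.card W₁).Coprime ((sigmaCore M).relIndex M) := by
      rw [← hr]
      exact (Nat.Prime.coprime_iff_not_dvd hW₁).mpr (hHall.2.2 r hW₁ hrs)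
    have hle : W₁ ≤ sigmaCore M :=
      Cfsg.Agent.Lib.Helper24.BG152.h_le_of_coprime_relIndex hσM hW₁M (hW₁M.trans hσn) hcop
    have hle' : W₁ ≤ ⁅M, M⁆ := hle.trans (Cfsg.Agent.S1355.result hG M hM).2.2.1
    have hbot : ⁅M, M⁆ ⊓ W₁ = ⊥ := hP.W₁_compl.2.2.1
    have : w ∈ ⁅M, M⁆ ⊓ W₁ := Subgroup.mem_inf.mpr ⟨hle' hwW, hwW⟩
    rw [hbot, Subgroup.mem_bot] at this
    exact hw1 this
  -- the `r`-part of `|M|` is `r`
  have hfac : (Nat.card ↥M).factorization r = 1 := by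
    have hcard : Nat.card M = r * W₁.relIndex M := card_eq_card_mul_relIndex hW₁M
    have hnd : ¬ r ∣ W₁.relIndex M := by
      intro hd
      have hc : (Nat.card W₁).Coprime (W₁.relIndex M) := hP.W₁_hall
      rw [← hr] at hc
      exact hW₁.ne_one (Nat.Coprime.eq_one_of_dvd hc hd)
    have hne0 : W₁.relIndex M ≠ 0 := by
      intro h0
      rw [h0, mul_zero] at hcard
      exact (Nat.card_pos (α := ↥M)).ne' hcard
    rw [hcard, Nat.factorization_mul hW₁.ne_zero hne0]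
    simp [Nat.Prime.factorization_self hW₁, Nat.factorization_eq_zero_of_not_dvd hnd]
  refine ⟨hW₁, hrM, hrσ, ?_⟩
  intro P
  have hPcard : Nat.card ↥(P : Subgroup ↥M) = r := by
    rw [Sylow.card_eq_multiplicity, hfac, pow_one]
  refine ⟨isCyclic_of_prime_card hPcard, ?_⟩
  -- the Sylow subgroup `W₁ ∩ M` of `↥M`
  have hQcard : Nat.card ↥(W₁.subgroupOf M) = r ^ (Nat.card ↥M).factorization r := by
    rw [hfac, pow_one]
    exact Nat.card_congr (Subgroup.subgroupOfEquivOfLe hW₁M).toEquiv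
  let Q : Sylow r ↥M := Sylow.ofCard (W₁.subgroupOf M) hQcard
  obtain ⟨m, hm⟩ := MulAction.exists_smul_eq ↥M Q P
  let w' : ↥M := ⟨w, hW₁M hwW⟩
  have hw'Q : w' ∈ (Q : Subgroup ↥M) := by
    show w' ∈ W₁.subgroupOf M
    rw [Subgroup.mem_subgroupOf]; exact hwW
  refine ⟨m * w' * m⁻¹, ?_, ?_, (m : G) * y * (m : G)⁻¹, ?_, ?_, ?_⟩
  · rw [← hm, Sylow.coe_subgroup_smul]
    have := Subgroup.smul_mem_pointwise_smul w' (MulAut.conj m) (Q : Subgroup ↥M) hw'Q
    rwa [MulAut.smul_def, MulAut.conj_apply] at this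
  · intro h1
    have : w' = 1 := by
      have h2 : m⁻¹ * (m * w' * m⁻¹) * m = m⁻¹ * 1 * m := by rw [h1]
      simpa [mul_assoc] using h2
    exact hw1 (congrArg Subtype.val this)
  · have hmn : (m : G) ∈ normalizer ((sigmaCore M : Subgroup G) : Set G) := hσn m.2
    exact (Subgroup.mem_normalizer_iff.mp hmn y).mp hyσ
  · intro h1
    apply hy1
    have h2 : (m : G)⁻¹ * ((m : G) * y * (m : G)⁻¹) * (m : G) = (m : G)⁻¹ * 1 * (m : G) := by
      rw [h1]
    simpa [mul_assoc] using h2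
  · show ((m * w' * m⁻¹ : ↥M) : G) * ((m : G) * y * (m : G)⁻¹) = (m : G) * y * (m : G)⁻¹ * ((m * w' * m⁻¹ : ↥M) : G)
    have : ((m * w' * m⁻¹ : ↥M) : G) = (m : G) * w * (m : G)⁻¹ := by
      simp [w']
    rw [this]
    calc (m : G) * w * (m : G)⁻¹ * ((m : G) * y * (m : G)⁻¹)
        = (m : G) * (w * y) * (m : G)⁻¹ := by group
      _ = (m : G) * (y * w) * (m : G)⁻¹ := by rw [hwy]
      _ = (m : G) * y * (m : G)⁻¹ * ((m : G) * w * (m : G)⁻¹) := by group

/-- `K ≠ ⊥` once `κ(M)` contains a prime. -/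
theorem K_ne_bot_of_mem_kappa {M K U : Subgroup G} (hKU : IsSigmaDecomposition M K U) {r : ℕ}
    (hr : r ∈ kappa M) : K ≠ ⊥ := by
  intro hK
  have h := hKU.hall.2.2 r hr.1 hr
  rw [hK, Subgroup.relIndex_bot_left] at h
  exact h hr.2.1

/-- If `U = ⊥` in the standard factorisation, then `M = K ⊔ M_σ` and `M' ≤ M_σ`. -/
theorem commutator_le_sigmaCore_of_U_eq_bot {M K U : Subgroup G}
    (hKU : IsSigmaDecomposition M K U) (hU : U = ⊥) : ⁅M, M⁆ ≤ sigmaCore M := by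
  have hσn : M ≤ normalizer ((sigmaCore M : Subgroup G) : Set G) :=
    Cfsg.Agent.Lib.Helper24.BG.le_normalizer_sigmaCore M
  have hKM : K ≤ M := hKU.hall.1
  have hM : M ≤ K ⊔ sigmaCore M := by
    intro m hm
    obtain ⟨a, ha, b, hb, rfl⟩ := hKU.compl.2.2.2 m hm
    rw [hU, Subgroup.mem_bot] at ha
    rw [ha, one_mul]; exact hb
  have h1 : ⁅M, M⁆ ≤ ⁅K ⊔ sigmaCore M, K ⊔ sigmaCore M⁆ := Subgroup.commutator_mono hM hM
  have h2 := Cfsg.Agent.Lib.Helper24.BG152.e_commutator_sup_le (A := K) (W := sigmaCore M)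
    (hKM.trans hσn)
  have hKab : ⁅K, K⁆ = ⊥ := by
    haveI := hKU.cyclic
    apply Cfsg.Agent.Lib.Helper24.BG152.e_commutator_eq_bot_of_comm
    intro a ha b hb
    obtain ⟨g, hg⟩ := IsCyclic.exists_generator (α := K)
    obtain ⟨i, hi⟩ := Subgroup.mem_zpowers_iff.mp (hg ⟨a, ha⟩)
    obtain ⟨j, hj⟩ := Subgroup.mem_zpowers_iff.mp (hg ⟨b, hb⟩)
    have ha' : a = ((g : G)) ^ i := by
      have := congrArg Subtype.val hi; simpa using this.symm
    have hb' : b = ((g : G)) ^ j := by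
      have := congrArg Subtype.val hj; simpa using this.symm
    rw [ha', hb']
    exact (Commute.zpow_zpow_self (g : G) i j).eq
  rw [hKab, bot_sup_eq] at h2
  exact h1.trans h2

/-- **The direction `→` of S1382**, for any type-`P` datum with `|W₁|` prime, `U_type ≠ ⊥` and
`N_G(U_type) ≤ M`; the clause `N_G(U) ⊄ M` of S1363 is an explicit hypothesis. -/
theorem forward_of_typeP (hG : IsMinSimpleOddOrder G) {M K U : Subgroup G} (hM : IsCoatom M)
    (hKU : IsSigmaDecomposition M K U)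
    (h63 : K ≠ ⊥ → ¬ normalizer (U : Set G) ≤ M)
    {W₁ U' W₂ : Subgroup G} (hP : IsTypePWith M W₁ U' W₂) (hU' : U' ≠ ⊥)
    (hW₁ : (Nat.card W₁).Prime) (hN : normalizer (U' : Set G) ≤ M) :
    K ≠ ⊥ ∧ U = ⊥ ∧ fittingHallOf M ≠ sigmaCore M := by
  classical
  have hK1 : K ≠ ⊥ := K_ne_bot_of_mem_kappa hKU (card_W₁_mem_kappa hG hM hP hW₁)
  have hσn : M ≤ normalizer ((sigmaCore M : Subgroup G) : Set G) :=
    Cfsg.Agent.Lib.Helper24.BG.le_normalizer_sigmaCore M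
  have hσM : sigmaCore M ≤ M := Cfsg.Agent.Lib.Helper24.BG152.g_sigmaCore_le M
  have hUM : U ≤ M := hKU.compl.1
  -- `U = ⊥`
  have hU : U = ⊥ := by
    by_contra hU1
    have hF : fittingHallOf M = sigmaCore M := by
      by_contra hne
      exact hU1 (Cfsg.Agent.S1357.result hG M hM K U hKU hne).1
    have hder : ⁅M, M⁆ = U ⊔ sigmaCore M := (Cfsg.Agent.S1365.result hG M hM K U hKU hK1).1
    have hc1 : IsComplIn (sigmaCore M) U' (U ⊔ sigmaCore M) := by
      have := hP.U_compl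
      rwa [hF, hder] at this
    have hc2 : IsComplIn (sigmaCore M) U (U ⊔ sigmaCore M) := by
      refine ⟨le_sup_right, le_sup_left, ?_, ?_⟩
      · have h1 : U ⊓ (K ⊔ sigmaCore M) = ⊥ := hKU.compl.2.2.1
        rw [inf_comm]
        exact le_bot_iff.mp (h1 ▸ inf_le_inf_left U le_sup_right)
      · intro m hm
        -- `m⁻¹ = u * s`, so `m = s⁻¹ * u⁻¹`
        obtain ⟨u, hu, s, hs, hms⟩ :=
          Cfsg.Agent.Lib.Helper24.exists_mul_of_mem_sup_of_le_normalizer U (sigmaCore M)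
            (hUM.trans hσn) m⁻¹ (Subgroup.inv_mem _ hm)
        refine ⟨s⁻¹, Subgroup.inv_mem _ hs, u⁻¹, Subgroup.inv_mem _ hu, ?_⟩
        have : m = (u * s)⁻¹ := by rw [← hms, inv_inv]
        rw [this, mul_inv_rev]
    have hWtop : (U ⊔ sigmaCore M : Subgroup G) ≠ ⊤ := by
      intro htop
      have : (⊤ : Subgroup G) ≤ M := htop ▸ sup_le hUM hσM
      exact hM.1 (top_le_iff.mp this)
    have hsolv : Group.IsSolvable ↥(U ⊔ sigmaCore M : Subgroup G) :=
      Cfsg.Agent.Lib.Helper23.isSolvable_of_ne_top hG hWtop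
    have hcop : (Nat.card (sigmaCore M)).Coprime (Nat.card U') := by
      have := Cfsg.Agent.Lib.Helper23.coprime_card_of_compl M U' ⁅M, M⁆
        (Subgroup.commutator_le_self M) hP.U_compl
      rwa [hF] at this
    obtain ⟨c, hcW, hc⟩ :=
      Cfsg.Agent.Lib.Helper24.BG152.a_compl_conj hsolv hc1 hc2 hcop
    have hcM : c ∈ M := (sup_le hUM hσM) hcW
    have hnorm : normalizer ((U' : Subgroup G) : Set G)
        = Cfsg.Agent.Lib.Helper33.cj c (normalizer ((U : Subgroup G) : Set G)) := by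
      rw [← hc, Cfsg.Agent.Lib.Helper33.normalizer_cj]
    apply h63 hK1
    rw [hnorm, Cfsg.Agent.Lib.Helper33.cj_le_iff,
      Cfsg.Agent.Lib.Helper33.cj_eq_self_of_mem (Subgroup.inv_mem _ hcM)] at hN
    exact hN
  refine ⟨hK1, hU, ?_⟩
  -- `M_F ≠ M_σ`
  intro hF
  have hle : ⁅M, M⁆ ≤ sigmaCore M := commutator_le_sigmaCore_of_U_eq_bot hKU hU
  have hU'le : U' ≤ fittingHallOf M := by
    rw [hF]; exact hP.U_compl.2.1.trans hle
  have hbot : fittingHallOf M ⊓ U' = ⊥ := hP.U_compl.2.2.1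
  apply hU'
  rw [eq_bot_iff, ← hbot]
  exact le_inf hU'le le_rfl

/-- **`IsOfTypeIII M ∨ IsOfTypeIV M → K ≠ ⊥ ∧ U = ⊥ ∧ M_F ≠ M_σ`**, with the S1363 clause
`N_G(U) ⊄ M` as an explicit hypothesis. -/
theorem forward (hG : IsMinSimpleOddOrder G) {M K U : Subgroup G} (hM : IsCoatom M)
    (hKU : IsSigmaDecomposition M K U)
    (h63 : K ≠ ⊥ → ¬ normalizer (U : Set G) ≤ M)
    (h : IsOfTypeIII M ∨ IsOfTypeIV M) :
    K ≠ ⊥ ∧ U = ⊥ ∧ fittingHallOf M ≠ sigmaCore M := by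
  rcases h with ⟨W₁, U', W₂, hP, hU', hW₁, _, _, hN⟩ | ⟨W₁, U', W₂, hP, hU', hW₁, _, _, hN⟩
  · exact forward_of_typeP hG hM hKU h63 hP hU' hW₁ hN
  · exact forward_of_typeP hG hM hKU h63 hP hU' hW₁ hN

/-- The lemma asked for by the S1389 assembly: type III or IV forces `K ≠ ⊥` and `U = ⊥`. -/
theorem k_ne_bot_and_U_eq_bot_of_typeIII_or_IV (hG : IsMinSimpleOddOrder G) {M K U : Subgroup G}
    (hM : IsCoatom M) (hKU : IsSigmaDecomposition M K U)
    (h63 : K ≠ ⊥ → ¬ normalizer (U : Set G) ≤ M)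
    (h : IsOfTypeIII M ∨ IsOfTypeIV M) : K ≠ ⊥ ∧ U = ⊥ :=
  ⟨(forward hG hM hKU h63 h).1, (forward hG hM hKU h63 h).2.1⟩

end Cfsg.Agent.Lib.Helper62.BG1382
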