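import Mathlib
import Cfsg.Agent.Lib.Helper62.Conj
import Cfsg.Agent.Lib.Helper45.VIter
import Cfsg.Agent.Lib.Helper46.Subnormal
import Cfsg.Agent.Lib.Helper22.FStar

set_option autoImplicit false

/-!
Ambient (relative) subnormality `SnIn K X`: `K ≤ X` and `K` is subnormal in `X`, for subgroups
of a fixed ambient group.
-/

namespace Cfsg.Agent.Lib.Helper62

open Cfsg

variable {G : Type*} [Group G]

/-- `K` is a subnormal subgroup of `X` (both subgroups of the ambient group). -/
def SnIn (K X : Subgroup G) : Prop := K ≤ X ∧ (K.subgroupOf X).IsSubnormal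

theorem snIn_of_le_normalizer {K X : Subgroup G} (hKX : K ≤ X)
    (hn : X ≤ Subgroup.normalizer (K : Set G)) : SnIn K X :=
  ⟨hKX, (Subgroup.normal_subgroupOf_of_le_normalizer hn).isSubnormal⟩

theorem SnIn.restrict {K X Y : Subgroup G} (h : SnIn K X) (hKY : K ≤ Y) (hYX : Y ≤ X) :
    SnIn K Y := by
  refine ⟨hKY, ?_⟩
  have := h.2.comap (Subgroup.inclusion hYX)
  convert this using 1
  ext y
  simp only [Subgroup.mem_subgroupOf, Subgroup.mem_comap, Subgroup.coe_inclusion]

theorem SnIn.trans {K Y X : Subgroup G} (h1 : SnIn K Y) (h2 : SnIn Y X) : SnIn K X := by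
  refine ⟨h1.1.trans h2.1, ?_⟩
  have hle : K.subgroupOf X ≤ Y.subgroupOf X := by
    intro x hx
    exact Subgroup.mem_subgroupOf.mpr (h1.1 (Subgroup.mem_subgroupOf.mp hx))
  refine Subgroup.IsSubnormal.trans hle ?_ h2.2
  have := h1.2.comap (Subgroup.subgroupOfEquivOfLe h2.1).toMonoidHom
  convert this using 1
  ext y
  simp only [Subgroup.mem_subgroupOf, Subgroup.mem_comap]
  rfl

theorem snIn_of_map_subtype {X : Subgroup G} {K : Subgroup ↥X} (hK : K.IsSubnormal) :
    SnIn (K.map X.subtype) X := by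
  refine ⟨Subgroup.map_subtype_le K, ?_⟩
  have e : (K.map X.subtype).subgroupOf X = K := by
    ext x
    rw [Subgroup.mem_subgroupOf]
    constructor
    · rintro ⟨y, hy, hyx⟩
      rwa [← Subtype.ext hyx]
    · intro hx
      exact ⟨x, hx, rfl⟩
  rw [e]
  exact hK

theorem SnIn.le_pCoreOf [Finite G] {p : ℕ} [Fact p.Prime] {K X : Subgroup G} (h : SnIn K X)
    (hK : IsPGroup p K) : K ≤ pCoreOf p X := by
  have h1 := Cfsg.Agent.Lib.Helper46.subnormal_pGroup_le_pCore (K.subgroupOf X) h.2
    (hK.comap_subtype)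
  intro k hk
  exact ⟨⟨k, h.1 hk⟩, h1 (Subgroup.mem_subgroupOf.mpr hk), rfl⟩

theorem le_normalizer_map_subtype_of_normal {X : Subgroup G} (N : Subgroup ↥X) [hN : N.Normal] :
    X ≤ Subgroup.normalizer ((N.map X.subtype : Subgroup G) : Set G) := by
  have e : (N.map X.subtype).subgroupOf X = N := by
    ext x
    rw [Subgroup.mem_subgroupOf]
    constructor
    · rintro ⟨y, hy, hyx⟩
      rwa [← Subtype.ext hyx]
    · intro hx
      exact ⟨x, hx, rfl⟩
  have hn : ((N.map X.subtype).subgroupOf X).Normal := by rw [e]; exact hN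
  exact (Subgroup.normal_subgroupOf_iff_le_normalizer (Subgroup.map_subtype_le N)).mp hn

end Cfsg.Agent.Lib.Helper62
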