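import Mathlib
import Cfsg.Agent.Lib.Helper34.FpfCyclic
import Cfsg.Agent.Lib.Helper24.SylowInv
import Cfsg.Agent.Lib.Helper62.Conj
import Cfsg.Agent.Lib.Helper62.Subnormal

set_option autoImplicit false
set_option linter.style.haveILetI false

namespace Cfsg.Agent.Lib.Helper62

open Subgroup
open scoped commutatorElement

/-- **Schur's lemma for abelian groups**, in the form: the image of an abelian group acting
irreducibly on a nontrivial finite abelian group is cyclic. -/
theorem exists_generator_of_irreducible {V : Type*} [CommGroup V] [Finite V] [Nontrivial V]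
    {A : Type*} [CommGroup A] [Finite A] (ρ : A →* MulAut V)
    (hirr : ∀ L : Subgroup V, (∀ a : A, ∀ v ∈ L, ρ a v ∈ L) → L = ⊥ ∨ L = ⊤) :
    ∃ a₀ : A, ∀ x : A, ∃ k : ℤ, ρ x = ρ a₀ ^ k := by
  classical
  let E : Subgroup (MulAut V) := ρ.range
  letI : CommGroup E :=
    { (inferInstance : Group E) with
      mul_comm := by
        rintro ⟨_, a, rfl⟩ ⟨_, b, rfl⟩
        apply Subtype.ext
        show ρ a * ρ b = ρ b * ρ a
        rw [← map_mul, ← map_mul, mul_comm] }
  have hfin : Finite E := inferInstance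
  have hf : Cfsg.Agent.Lib.Helper34.Fpf E V := by
    rintro ⟨e, a, rfl⟩ hne v hv
    by_contra hv1
    -- the fixed subgroup of ρ a
    let L : Subgroup V := MonoidHom.eqLocus (ρ a).toMonoidHom (MonoidHom.id V)
    have hL : ∀ w : V, w ∈ L ↔ ρ a w = w := fun w => Iff.rfl
    have hinv : ∀ b : A, ∀ w ∈ L, ρ b w ∈ L := by
      intro b w hw
      rw [hL] at hw ⊢
      have h1 : ρ a (ρ b w) = (ρ a * ρ b) w := rfl
      rw [h1, ← map_mul, mul_comm, map_mul]
      show ρ b (ρ a w) = ρ b w
      rw [hw]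
    rcases hirr L hinv with h | h
    · have : v ∈ L := (hL v).mpr hv
      rw [h, Subgroup.mem_bot] at this
      exact hv1 this
    · apply hne
      apply Subtype.ext
      show ρ a = 1
      ext w
      have : w ∈ L := by rw [h]; trivial
      exact (hL w).mp this
  have hnt : ∃ v : V, v ≠ 1 := exists_ne 1
  have hcyc : IsCyclic E := Cfsg.Agent.Lib.Helper34.isCyclic_of_comm hf hnt
  obtain ⟨⟨g, a₀, rfl⟩, hg⟩ := hcyc.exists_generator
  refine ⟨a₀, fun x => ?_⟩
  obtain ⟨k, hk⟩ := Subgroup.mem_zpowers_iff.mp (hg ⟨ρ x, x, rfl⟩)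
  refine ⟨k, ?_⟩
  have := congrArg Subtype.val hk
  simpa using this.symm

variable {X : Type*} [Group X]

theorem le_normalizer_of_conj_mem {A L : Subgroup X} (h : ∀ a ∈ A, ∀ x ∈ L, a * x * a⁻¹ ∈ L) :
    A ≤ normalizer (L : Set X) := by
  apply le_normalizer_of_cj_le
  intro a ha y hy
  rw [mem_cj] at hy
  have := h a ha _ hy
  have e : a * (a⁻¹ * y * a) * a⁻¹ = y := by group
  rwa [e] at this

theorem le_normalizer_of_commutator_le {K M : Subgroup X} (hMK : M ≤ K) (hD : ⁅K, K⁆ ≤ M) :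
    K ≤ normalizer (M : Set X) := by
  apply le_normalizer_of_conj_mem
  intro k hk m hm
  have h1 : ⁅k, m⁆ ∈ M := hD (commutator_mem_commutator hk (hMK hm))
  have e : k * m * k⁻¹ = ⁅k, m⁆ * m := by rw [commutatorElement_def]; group
  rw [e]
  exact M.mul_mem h1 hm

theorem conj_mem_of_le_normalizer {A L : Subgroup X} (h : A ≤ normalizer (L : Set X)) {a x : X}
    (ha : a ∈ A) (hx : x ∈ L) : a * x * a⁻¹ ∈ L :=
  ((Subgroup.mem_set_normalizer_iff.mp (h ha)) x).mp hx

/-- the conjugation action of `A` on the section `K / M` -/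
noncomputable def sectionAct (A K M : Subgroup X) (hAK : A ≤ normalizer (K : Set X))
    (hAM : A ≤ normalizer (M : Set X)) [(M.subgroupOf K).Normal] :
    A →* MulAut (K ⧸ M.subgroupOf K) where
  toFun a := QuotientGroup.congr (M.subgroupOf K) (M.subgroupOf K)
    (Cfsg.Agent.Lib.Helper24.conjNormalizer K (a : X) (hAK a.2)) (by
      apply le_antisymm
      · rintro _ ⟨y, hy, rfl⟩
        rw [SetLike.mem_coe, mem_subgroupOf] at hy
        rw [mem_subgroupOf]
        exact conj_mem_of_le_normalizer hAM a.2 hy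
      · intro x hx
        rw [mem_subgroupOf] at hx
        refine ⟨(Cfsg.Agent.Lib.Helper24.conjNormalizer K (a : X) (hAK a.2)).symm x, ?_, ?_⟩
        · rw [SetLike.mem_coe, mem_subgroupOf]
          have := conj_mem_of_le_normalizer hAM (A.inv_mem a.2) hx
          simpa [Cfsg.Agent.Lib.Helper24.conjNormalizer] using this
        · simp)
  map_one' := by
    ext v
    induction v using QuotientGroup.induction_on with
    | H k =>
      show (QuotientGroup.mk _ : K ⧸ M.subgroupOf K) = _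
      simp [Cfsg.Agent.Lib.Helper24.conjNormalizer]
  map_mul' a b := by
    ext v
    induction v using QuotientGroup.induction_on with
    | H k =>
      show (QuotientGroup.mk _ : K ⧸ M.subgroupOf K) = QuotientGroup.mk _
      congr 1
      apply Subtype.ext
      simp [Cfsg.Agent.Lib.Helper24.conjNormalizer, mul_assoc]

theorem sectionAct_mk (A K M : Subgroup X) (hAK : A ≤ normalizer (K : Set X))
    (hAM : A ≤ normalizer (M : Set X)) [(M.subgroupOf K).Normal] (a : A) (k : K) :
    sectionAct A K M hAK hAM a (QuotientGroup.mk k) =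
      QuotientGroup.mk (⟨a * k * (a : X)⁻¹, conj_mem_of_le_normalizer hAK a.2 k.2⟩ : K) := rfl


/-- **Schur step**: if the abelian group `A` acts irreducibly on the abelian section `K / M`,
then the kernel `B` of the action has `A / B` cyclic. -/
theorem exists_B_of_irreducible [Finite X] (A K M : Subgroup X) (hA : IsMulCommutative A)
    (hAK : A ≤ normalizer (K : Set X)) (hAM : A ≤ normalizer (M : Set X)) (hMK : M < K)
    (hD : ⁅K, K⁆ ≤ M)
    (hirr : ∀ L : Subgroup X, M ≤ L → L ≤ K → A ≤ normalizer (L : Set X) → L = M ∨ L = K) :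
    ∃ B : Subgroup X, B ≤ A ∧ (∃ a ∈ A, B ⊔ Subgroup.zpowers a = A) ∧
      ∀ b ∈ B, ∀ k ∈ K, b * k * b⁻¹ * k⁻¹ ∈ M := by
  classical
  have hKM : K ≤ normalizer (M : Set X) := le_normalizer_of_commutator_le hMK.le hD
  haveI hn : (M.subgroupOf K).Normal := (normal_subgroupOf_iff_le_normalizer hMK.le).mpr hKM
  letI instV : CommGroup (K ⧸ M.subgroupOf K) :=
    { (inferInstance : Group (K ⧸ M.subgroupOf K)) with
      mul_comm := by
        intro x y
        induction x using QuotientGroup.induction_on with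
        | H x =>
        induction y using QuotientGroup.induction_on with
        | H y =>
        rw [← QuotientGroup.mk_mul, ← QuotientGroup.mk_mul]
        apply (QuotientGroup.eq).mpr
        rw [mem_subgroupOf]
        have h1 : ⁅(x : X)⁻¹, (y : X)⁻¹⁆ ∈ M :=
          hD (commutator_mem_commutator (K.inv_mem x.2) (K.inv_mem y.2))
        have e : (((x * y)⁻¹ * (y * x) : K) : X) = (⁅(x : X)⁻¹, (y : X)⁻¹⁆)⁻¹ := by
          simp only [commutatorElement_def, Subgroup.coe_mul, Subgroup.coe_inv]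
          group
        rw [e]
        exact M.inv_mem h1 }
  letI instA : CommGroup A :=
    { (inferInstance : Group A) with mul_comm := fun a b => hA.is_comm.comm a b }
  let ρ : A →* MulAut (K ⧸ M.subgroupOf K) := sectionAct A K M hAK hAM
  have hρ : ∀ (a : A) (k : K), ρ a (QuotientGroup.mk k) =
      QuotientGroup.mk (⟨a * k * (a : X)⁻¹, conj_mem_of_le_normalizer hAK a.2 k.2⟩ : K) :=
    fun a k => rfl
  -- nontriviality
  obtain ⟨k₀, hk₀K, hk₀M⟩ := SetLike.exists_of_lt hMK
  haveI hnt : Nontrivial (K ⧸ M.subgroupOf K) := by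
    refine ⟨⟨QuotientGroup.mk ⟨k₀, hk₀K⟩, 1, ?_⟩⟩
    intro h
    rw [QuotientGroup.eq_one_iff, mem_subgroupOf] at h
    exact hk₀M h
  have hirr' : ∀ L' : Subgroup (K ⧸ M.subgroupOf K), (∀ a : A, ∀ v ∈ L', ρ a v ∈ L') →
      L' = ⊥ ∨ L' = ⊤ := by
    intro L' hinv
    let L : Subgroup X := (L'.comap (QuotientGroup.mk' (M.subgroupOf K))).map K.subtype
    have hL : ∀ x : X, x ∈ L ↔ ∃ h : x ∈ K, (QuotientGroup.mk ⟨x, h⟩ : K ⧸ M.subgroupOf K) ∈ L' := by
      intro x
      constructor
      · rintro ⟨⟨y, hy⟩, hy', rfl⟩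
        exact ⟨hy, hy'⟩
      · rintro ⟨h, h'⟩
        exact ⟨⟨x, h⟩, h', rfl⟩
    have hML : M ≤ L := by
      intro m hm
      rw [hL]
      refine ⟨hMK.le hm, ?_⟩
      have : (QuotientGroup.mk ⟨m, hMK.le hm⟩ : K ⧸ M.subgroupOf K) = 1 := by
        rw [QuotientGroup.eq_one_iff, mem_subgroupOf]; exact hm
      rw [this]; exact one_mem _
    have hLK : L ≤ K := Subgroup.map_subtype_le _
    have hAL : A ≤ normalizer (L : Set X) := by
      apply le_normalizer_of_conj_mem
      intro a ha x hx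
      rw [hL] at hx ⊢
      obtain ⟨hxK, hx'⟩ := hx
      refine ⟨conj_mem_of_le_normalizer hAK ha hxK, ?_⟩
      have := hinv ⟨a, ha⟩ _ hx'
      rw [hρ] at this
      exact this
    rcases hirr L hML hLK hAL with h | h
    · left
      rw [eq_bot_iff]
      intro v hv
      induction v using QuotientGroup.induction_on with
      | H k =>
      have : (k : X) ∈ L := (hL _).mpr ⟨k.2, hv⟩
      rw [h] at this
      rw [Subgroup.mem_bot, QuotientGroup.eq_one_iff, mem_subgroupOf]
      exact this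
    · right
      rw [eq_top_iff]
      intro v _
      induction v using QuotientGroup.induction_on with
      | H k =>
      have : (k : X) ∈ L := by rw [h]; exact k.2
      obtain ⟨_, h2⟩ := (hL _).mp this
      exact h2
  obtain ⟨a₀, ha₀⟩ := exists_generator_of_irreducible ρ hirr'
  refine ⟨(ρ.ker).map A.subtype, Subgroup.map_subtype_le _, ⟨a₀, a₀.2, ?_⟩, ?_⟩
  · apply le_antisymm (sup_le (Subgroup.map_subtype_le _) (Subgroup.zpowers_le.mpr a₀.2))
    intro x hx
    obtain ⟨k, hk⟩ := ha₀ ⟨x, hx⟩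
    have hker : (⟨x, hx⟩ * a₀ ^ (-k) : A) ∈ ρ.ker := by
      rw [MonoidHom.mem_ker, map_mul, map_zpow, hk, zpow_neg, mul_inv_cancel]
    have e : x = ((⟨x, hx⟩ * a₀ ^ (-k) : A) : X) * (a₀ : X) ^ k := by
      simp [mul_assoc]
    rw [e]
    exact Subgroup.mul_mem_sup ⟨_, hker, rfl⟩ (Subgroup.zpow_mem_zpowers _ k)
  · rintro _ ⟨b, hb, rfl⟩ k hk
    rw [SetLike.mem_coe, MonoidHom.mem_ker] at hb
    have h1 : ρ b (QuotientGroup.mk ⟨k⁻¹, K.inv_mem hk⟩) = QuotientGroup.mk ⟨k⁻¹, K.inv_mem hk⟩ := by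
      rw [hb]; rfl
    rw [hρ] at h1
    have h2 := (QuotientGroup.eq).mp h1
    rw [mem_subgroupOf] at h2
    have e : (((⟨b * k⁻¹ * (b : X)⁻¹, conj_mem_of_le_normalizer hAK b.2 (K.inv_mem hk)⟩ : K)⁻¹ *
        ⟨k⁻¹, K.inv_mem hk⟩ : K) : X) = (b : X) * k * (b : X)⁻¹ * k⁻¹ := by
      simp only [Subgroup.coe_mul, Subgroup.coe_inv]
      group
    rw [e] at h2
    exact h2


/-- the subgroups `B ≤ A` with `A / B` cyclic -/
def Bset (A : Subgroup X) : Set (Subgroup X) :=
  {B : Subgroup X | B ≤ A ∧ ∃ a ∈ A, B ⊔ Subgroup.zpowers a = A}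

/-- the subgroup of `K` generated by the `C_K(B)`, `A / B` cyclic -/
def Hgen (A K : Subgroup X) : Subgroup X := ⨆ B ∈ Bset A, K ⊓ centralizer (B : Set X)

theorem Hgen_le (A K : Subgroup X) : Hgen A K ≤ K := iSup₂_le fun _ _ => inf_le_left

theorem Hgen_mono (A : Subgroup X) {K L : Subgroup X} (h : K ≤ L) : Hgen A K ≤ Hgen A L :=
  iSup₂_mono fun _ _ => inf_le_inf_right _ h

theorem le_Hgen (A K : Subgroup X) {B : Subgroup X} (hB : B ∈ Bset A) :
    K ⊓ centralizer (B : Set X) ≤ Hgen A K :=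
  le_iSup₂ (f := fun B (_ : B ∈ Bset A) => K ⊓ centralizer (B : Set X)) B hB

theorem le_normalizer_commutator₂ {B S T : Subgroup X} (hS : B ≤ normalizer (S : Set X))
    (hT : B ≤ normalizer (T : Set X)) : B ≤ normalizer ((⁅S, T⁆ : Subgroup X) : Set X) := by
  rw [le_normalizer_iff_cj] at *
  intro b hb
  show Subgroup.map _ _ = _
  rw [Subgroup.map_commutator]
  have h1 : Subgroup.map (MulAut.conj b).toMonoidHom S = S := hS b hb
  have h2 : Subgroup.map (MulAut.conj b).toMonoidHom T = T := hT b hb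
  rw [h1, h2]

/-- generation, `q`-group case -/
theorem gen_pgroup [Finite X] (A : Subgroup X) (hA : IsMulCommutative A) {q : ℕ} [Fact q.Prime] :
    ∀ n : ℕ, ∀ K : Subgroup X, Nat.card K = n → IsPGroup q K → A ≤ normalizer (K : Set X) →
      (Nat.card A).Coprime (Nat.card K) → K ≤ Hgen A K := by
  intro n
  induction n using Nat.strong_induction_on with
  | _ n ih =>
  intro K hcard hKq hAK hcop
  classical
  by_cases hK : K = ⊥
  · rw [hK]; exact bot_le
  have hnt : Nontrivial K := (Subgroup.nontrivial_iff_ne_bot K).mpr hK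
  have hnil : Group.IsNilpotent K := hKq.isNilpotent
  have hsolv : Group.IsSolvable K := inferInstance
  have hDK : ⁅K, K⁆ < K := by
    refine lt_of_le_of_ne (Subgroup.commutator_le_self K) ?_
    intro h
    have h1 : commutator K = ⊤ := by
      apply Subgroup.map_injective (Subgroup.subtype_injective K)
      rw [Subgroup.map_subtype_commutator, h, ← MonoidHom.range_eq_map, Subgroup.range_subtype]
    exact (Group.IsSolvable.commutator_lt_top_of_nontrivial K).ne h1
  let S : Set (Subgroup X) := {M | ⁅K, K⁆ ≤ M ∧ M < K ∧ A ≤ normalizer (M : Set X)}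
  have hS : S.Nonempty := ⟨⁅K, K⁆, le_rfl, hDK, le_normalizer_commutator₂ hAK hAK⟩
  obtain ⟨M, hMS, hmax⟩ := (Set.toFinite S).exists_maximal hS
  obtain ⟨hD, hMK, hAM⟩ := hMS
  have hirr : ∀ L : Subgroup X, M ≤ L → L ≤ K → A ≤ normalizer (L : Set X) → L = M ∨ L = K := by
    intro L hML hLK hAL
    by_cases h : L = K
    · right; exact h
    · left
      have hLS : L ∈ S := ⟨hD.trans hML, lt_of_le_of_ne hLK h, hAL⟩
      exact le_antisymm (hmax hLS hML) hML
  obtain ⟨B, hBA, hBcyc, hBK⟩ := exists_B_of_irreducible A K M hA hAK hAM hMK hD hirr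
  have hMq : IsPGroup q M := hKq.to_le hMK.le
  have hcardM : Nat.card M < n := by
    rw [← hcard]
    exact Set.Finite.card_lt_card (Set.toFinite (K : Set X)) (SetLike.coe_ssubset_coe.mpr hMK)
  have hcopM : (Nat.card A).Coprime (Nat.card M) :=
    Nat.Coprime.coprime_dvd_right (Subgroup.card_dvd_of_le hMK.le) hcop
  have hM1 : M ≤ Hgen A K := (ih _ hcardM M rfl hMq hAM hcopM).trans (Hgen_mono A hMK.le)
  have hM2 : K ⊓ centralizer (B : Set X) ≤ Hgen A K := le_Hgen A K ⟨hBA, hBcyc⟩
  intro k hk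
  have hsolvM : Group.IsSolvable M := by
    have := hMq.isNilpotent
    infer_instance
  have hcopBM : (Nat.card B).Coprime (Nat.card M) :=
    Nat.Coprime.coprime_dvd_left (Subgroup.card_dvd_of_le hBA) hcopM
  obtain ⟨m, hm, hc⟩ := Cfsg.Agent.Lib.Helper24.fixed_point_lemma M B (hBA.trans hAM) hcopBM
    (Or.inl hsolvM) k (fun b hb => hBK b hb k hk)
  have e : k = m * (m⁻¹ * k) := by group
  rw [e]
  exact (Hgen A K).mul_mem (hM1 hm) (hM2 ⟨K.mul_mem (K.inv_mem (hMK.le hm)) hk, hc⟩)

/-- **Generation by centralizers** (coprime action of an abelian group `A` on `K`):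
`K = ⟨C_K(B) | A / B cyclic⟩`. -/
theorem Hgen_eq [Finite X] (A K : Subgroup X) (hA : IsMulCommutative A)
    (hAK : A ≤ normalizer (K : Set X)) (hcop : (Nat.card A).Coprime (Nat.card K)) :
    Hgen A K = K := by
  apply le_antisymm (Hgen_le A K)
  have hsolvA : Group.IsSolvable A := by
    letI instA : CommGroup A :=
      { (inferInstance : Group A) with mul_comm := fun a b => hA.is_comm.comm a b }
    infer_instance
  have htop : (Hgen A K).subgroupOf K = ⊤ := by
    apply eq_top_of_forall_sylow_le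
    intro q _
    obtain ⟨Q, hQ⟩ := Cfsg.Agent.Lib.Helper24.exists_invariant_sylow (p := q) A K hAK hcop
      (Or.inl hsolvA)
    obtain ⟨hf1, hf2, -⟩ := Cfsg.Agent.Lib.Helper24.sylow_map_facts K Q
    refine ⟨Q, ?_⟩
    have hcopQ : (Nat.card A).Coprime (Nat.card ((Q : Subgroup K).map K.subtype)) :=
      Nat.Coprime.coprime_dvd_right (Subgroup.card_dvd_of_le hf1) hcop
    have h1 := gen_pgroup A hA _ _ rfl hf2 hQ hcopQ
    have h2 := h1.trans (Hgen_mono A hf1)
    intro x hx
    rw [mem_subgroupOf]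
    exact h2 ⟨x, hx, rfl⟩
  exact Subgroup.subgroupOf_eq_top.mp htop

end Cfsg.Agent.Lib.Helper62
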