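import Mathlib
import Cfsg.Agent.S1354
import Cfsg.Agent.S1356
import Cfsg.Agent.S1364
import Cfsg.Agent.S1365
import Cfsg.Agent.S1366
import Cfsg.Agent.S1368
import Cfsg.Agent.S1370
import Cfsg.Agent.Lib.Helper24.BG152G
import Cfsg.Agent.Lib.Helper70.BG1379a

/-!
# BG §16: the type-`P` datum `(W₁, W₂) = (K, K*)` of a maximal subgroup with `K ≠ 1`

`typeP_core` builds `IsTypePWith M K U' K*` from the three `U_type` fields (nilpotent,
`K`-invariant, complement of `M_F` in `M'`) and the fact that `K` complements `M'` in `M`.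
All other fields come from S1354, S1356, S1364, S1365, S1366 + S1368, S1370.
-/

set_option autoImplicit false
set_option linter.unusedSectionVars false
set_option linter.unusedVariables false
set_option linter.style.haveILetI false

namespace Cfsg.Agent.Lib.Helper62.BG1382

open Cfsg Subgroup

universe u
variable {G : Type u} [Group G] [Finite G]

/-- elements of a cyclic subgroup commute. -/
theorem comm_of_isCyclic {Z : Subgroup G} (hZ : IsCyclic ↥Z) {a b : G} (ha : a ∈ Z) (hb : b ∈ Z) :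
    a * b = b * a := by
  obtain ⟨g, hg⟩ := IsCyclic.exists_generator (α := Z)
  obtain ⟨i, hi⟩ := Subgroup.mem_zpowers_iff.mp (hg ⟨a, ha⟩)
  obtain ⟨j, hj⟩ := Subgroup.mem_zpowers_iff.mp (hg ⟨b, hb⟩)
  have ha' : a = ((g : G)) ^ i := by
    have := congrArg Subtype.val hi; simpa using this.symm
  have hb' : b = ((g : G)) ^ j := by
    have := congrArg Subtype.val hj; simpa using this.symm
  rw [ha', hb']
  exact (Commute.zpow_zpow_self (g : G) i j).eq

/-- `K` and `K*` form a self-normalizing cyclic pair (S1354, S1366 + S1368, S1370). -/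
theorem selfNormalizing_K_Ks (hG : IsMinSimpleOddOrder G) {M K U : Subgroup G} (hM : IsCoatom M)
    (hKU : IsSigmaDecomposition M K U) (hK1 : K ≠ ⊥) :
    IsSelfNormalizingCyclic K (sigmaCore M ⊓ centralizer (K : Set G)) := by
  classical
  set Ks : Subgroup G := sigmaCore M ⊓ centralizer (K : Set G) with hKs
  have hKs1 : Ks ≠ ⊥ := (Cfsg.Agent.S1354.result hG M hM K hKU.cyclic hKU.hall).1
  have hinf : K ⊓ Ks = ⊥ := by
    have h1 : K ⊓ sigmaCore M = ⊥ :=
      Cfsg.Agent.Lib.Helper70.BG1379.hall_kappa_inf_sigmaCore hKU.hall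
    rw [eq_bot_iff, ← h1]
    exact inf_le_inf_left K inf_le_left
  have hcomm : ∀ a ∈ K, ∀ b ∈ Ks, a * b = b * a := by
    intro a ha b hb
    exact Subgroup.mem_centralizer_iff.mp (Subgroup.mem_inf.mp hb).2 a ha
  obtain ⟨Ms, ⟨hMs, hKst, hKstH⟩, _⟩ := Cfsg.Agent.S1366.result hG M hM K U hKU hK1
  have hcyc : IsCyclic ↥(K ⊔ Ks) :=
    (Cfsg.Agent.S1368.result hG M hM K U hKU hK1 Ms hMs hKst hKstH).2
  obtain ⟨hTI, hN⟩ := Cfsg.Agent.S1370.result hG M hM K U hKU hK1
  refine ⟨hK1, hKs1, hinf, hcomm, hcyc, ?_⟩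
  intro X hX hXne
  obtain ⟨x, hx⟩ := hXne
  apply le_antisymm
  · intro g hg
    by_contra hgZ
    have hgN : g ∉ normalizer ((↑(K ⊔ Ks) : Set G) \ ((K : Set G) ∪ ↑Ks)) := by
      rw [hN]; exact hgZ
    have hgx : g * x * g⁻¹ ∈ X := (Subgroup.mem_set_normalizer_iff.mp hg x).mp hx
    have hx1 : x = 1 := hTI g hgN x (hX hx) (hX hgx)
    have hxK : x ∉ (K : Set G) := fun h => (hX hx).2 (Or.inl h)
    apply hxK
    rw [hx1]; exact K.one_mem
  · intro g hg
    rw [Subgroup.mem_set_normalizer_iff]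
    intro n
    constructor
    · intro hn
      have hnZ : n ∈ K ⊔ Ks := (hX hn).1
      have : g * n * g⁻¹ = n := by
        rw [comm_of_isCyclic hcyc hg hnZ, mul_inv_cancel_right]
      rwa [this]
    · intro hn
      have h1 : g * n * g⁻¹ ∈ K ⊔ Ks := (hX hn).1
      have hnZ : n ∈ K ⊔ Ks := by
        have h2 : g⁻¹ * (g * n * g⁻¹) * g ∈ K ⊔ Ks :=
          Subgroup.mul_mem _ (Subgroup.mul_mem _ (Subgroup.inv_mem _ hg) h1) hg
        have h3 : g⁻¹ * (g * n * g⁻¹) * g = n := by group
        rwa [h3] at h2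
      have : g * n * g⁻¹ = n := by
        rw [comm_of_isCyclic hcyc hg hnZ, mul_inv_cancel_right]
      rwa [this] at hn

/-- **The type-`P` datum `(K, U', K*)`.** -/
theorem typeP_core (hG : IsMinSimpleOddOrder G) {M K U : Subgroup G} (hM : IsCoatom M)
    (hKU : IsSigmaDecomposition M K U) (hK1 : K ≠ ⊥)
    (hW₁c : IsComplIn ⁅M, M⁆ K M)
    {U' : Subgroup G} (hUn : Group.IsNilpotent U') (hUK : K ≤ normalizer (U' : Set G))
    (hUc : IsComplIn (fittingHallOf M) U' ⁅M, M⁆) :
    IsTypePWith M K U' (sigmaCore M ⊓ centralizer (K : Set G)) := by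
  classical
  set Ks : Subgroup G := sigmaCore M ⊓ centralizer (K : Set G) with hKs
  obtain ⟨h56a, h56b, h56c⟩ := Cfsg.Agent.S1356.result hG M hM
  obtain ⟨_, _, h64c, h64d⟩ := Cfsg.Agent.S1364.result hG M hM K U hKU hK1
  obtain ⟨h65a, h65b⟩ := Cfsg.Agent.S1365.result hG M hM K U hKU hK1
  have hσder : sigmaCore M ≤ ⁅M, M⁆ := by rw [h65a]; exact le_sup_right
  have hκ : (kappa M).Nonempty := by
    have hc : Nat.card K ≠ 1 := fun h => hK1 (Subgroup.card_eq_one.mp h)
    obtain ⟨p, hp, hpK⟩ := Nat.exists_prime_and_dvd hc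
    exact ⟨p, hKU.hall.2.1 p hp hpK⟩
  refine
    { W₁_ne := hK1
      W₁_cyclic := hKU.cyclic
      W₁_hall := Cfsg.Agent.Lib.Helper24.BG152.g_coprime_of_hall hKU.hall
      W₁_compl := hW₁c
      U_nilpotent := hUn
      U_normal := hUK
      U_compl := hUc
      H_not_cyclic := h64d
      derived_two_le := ?_
      fitting_eq := ?_
      fitting_le := h56c hκ
      W₂_le := le_inf h64c h65b
      W₂_centralizer := ?_
      selfNormalizing := selfNormalizing_K_Ks hG hM hKU hK1 }
  · rw [sup_comm, ← h56b]; exact h56a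
  · rw [sup_comm, ← h56b]
  · intro k hk hk1
    have h54 := (Cfsg.Agent.S1354.result hG M hM K hKU.cyclic hKU.hall).2 hK1 k hk hk1
    apply le_antisymm
    · intro x hx
      obtain ⟨hxd, hxc⟩ := Subgroup.mem_inf.mp hx
      have hxM : x ∈ M := Subgroup.commutator_le_self M hxd
      have hxZ : x ∈ K ⊔ Ks := by
        rw [← h54]; exact Subgroup.mem_inf.mpr ⟨hxM, hxc⟩
      -- `x = a * b`, `a ∈ K`, `b ∈ K*`
      have hKn : K ≤ normalizer ((Ks : Subgroup G) : Set G) := by
        intro a ha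
        rw [Subgroup.mem_normalizer_iff]
        intro b
        constructor
        · intro hb
          have : a * b * a⁻¹ = b := by
            have h1 : a * b = b * a :=
              Subgroup.mem_centralizer_iff.mp (Subgroup.mem_inf.mp hb).2 a ha
            rw [h1, mul_inv_cancel_right]
          rwa [this]
        · intro hb
          have h0 : a⁻¹ * (a * b * a⁻¹) = (a * b * a⁻¹) * a⁻¹ :=
            Subgroup.mem_centralizer_iff.mp (Subgroup.mem_inf.mp hb).2 a⁻¹
              (Subgroup.inv_mem _ ha)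
          have h1 : b = a * b * a⁻¹ := by
            have h2 : b * a⁻¹ = a * b * a⁻¹ * a⁻¹ := by
              rw [← h0]; group
            exact mul_right_cancel h2
          rw [h1]; exact hb
      obtain ⟨a, ha, b, hb, hab⟩ :=
        Cfsg.Agent.Lib.Helper24.exists_mul_of_mem_sup_of_le_normalizer K Ks hKn x hxZ
      have hbd : b ∈ ⁅M, M⁆ := hσder (Subgroup.mem_inf.mp hb).1
      have had : a ∈ ⁅M, M⁆ := by
        have : a = x * b⁻¹ := by rw [hab, mul_inv_cancel_right]
        rw [this]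
        exact Subgroup.mul_mem _ hxd (Subgroup.inv_mem _ hbd)
      have ha1 : a = 1 := by
        have : a ∈ ⁅M, M⁆ ⊓ K := Subgroup.mem_inf.mpr ⟨had, ha⟩
        rw [hW₁c.2.2.1, Subgroup.mem_bot] at this
        exact this
      rw [hab, ha1, one_mul]; exact hb
    · intro x hx
      refine Subgroup.mem_inf.mpr ⟨hσder (Subgroup.mem_inf.mp hx).1, ?_⟩
      rw [Subgroup.mem_centralizer_iff]
      intro h hh
      rw [Set.mem_singleton_iff] at hh
      rw [hh]
      exact Subgroup.mem_centralizer_iff.mp (Subgroup.mem_inf.mp hx).2 k hk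

end Cfsg.Agent.Lib.Helper62.BG1382
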