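import Mathlib
import Cfsg.Agent.S1350
import Cfsg.Agent.S1355
import Cfsg.Agent.S1357
import Cfsg.Agent.S1437
import Cfsg.Agent.Lib.Helper62.BG1382a
import Cfsg.Agent.Lib.Helper62.BG1382b
import Cfsg.Agent.Lib.Helper24.BG152G
import Cfsg.Agent.Lib.Helper24.BG152S
import Cfsg.Agent.Lib.Helper24.InvCompl
import Cfsg.Agent.Lib.Helper21.RelCompl
import Cfsg.Agent.Lib.Helper63.BG13a
import Cfsg.Agent.Lib.Helper47.BG11a
import Cfsg.Agent.Lib.Helper50.BG156
import Cfsg.Agent.Lib.Helper23.TypeP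
import Cfsg.Agent.Lib.Helper23.FitUniqueB

/-!
# BG §16, S1382: the direction `←` (`M_F ≠ M_σ` ⟹ type III or IV)

`U_type` := a `K`-invariant complement `D₁` of `M_F` in `M_σ = M'`; it is nilpotent (it lies in a
complement of the normal Sylow subgroup `Q` of S1437) and `N_G(D₁) ≤ M` (its Sylow subgroups are
Sylow subgroups of `M` for primes of `σ(M)`).
-/

set_option autoImplicit false
set_option linter.unusedSectionVars false
set_option linter.unusedVariables false
set_option linter.style.haveILetI false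

namespace Cfsg.Agent.Lib.Helper62.BG1382

open Cfsg Subgroup

universe u
variable {G : Type u} [Group G] [Finite G]

/-- A subgroup `B ≤ W` of order `|W : A|` prime to `|A|` is a complement of `A ≤ W` in `W`. -/
theorem isComplIn_of_card {A B W : Subgroup G} (hA : A ≤ W) (hB : B ≤ W)
    (hcop : (Nat.card A).Coprime (Nat.card B)) (hcard : Nat.card B = A.relIndex W) :
    IsComplIn A B W := by
  classical
  have hinf : A ⊓ B = ⊥ := (Subgroup.disjoint_of_coprime_natCard hcop).eq_bot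
  refine ⟨hA, hB, hinf, ?_⟩
  let f : A × B → W := fun x => ⟨(x.1 : G) * (x.2 : G), W.mul_mem (hA x.1.2) (hB x.2.2)⟩
  have hf : Function.Injective f := by
    rintro ⟨⟨a, ha⟩, ⟨b, hb⟩⟩ ⟨⟨a', ha'⟩, ⟨b', hb'⟩⟩ h
    have h1 : a * b = a' * b' := congrArg Subtype.val h
    have h2 : a'⁻¹ * a = b' * b⁻¹ := by
      have : a'⁻¹ * (a * b) * b⁻¹ = a'⁻¹ * (a' * b') * b⁻¹ := by rw [h1]
      simpa [mul_assoc] using this
    have h3 : a'⁻¹ * a ∈ A ⊓ B := by
      refine Subgroup.mem_inf.mpr ⟨A.mul_mem (A.inv_mem ha') ha, ?_⟩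
      rw [h2]; exact B.mul_mem hb' (B.inv_mem hb)
    rw [hinf, Subgroup.mem_bot] at h3
    have haa : a = a' := by
      have := congrArg (fun t => a' * t) h3
      simpa using this
    subst haa
    have hbb : b = b' := mul_left_cancel h1
    subst hbb
    rfl
  have hcardW : Nat.card W ≤ Nat.card (A × B) := by
    rw [Nat.card_prod, card_eq_card_mul_relIndex hA, hcard]
  have hbij := hf.bijective_of_nat_card_le hcardW
  intro m hm
  obtain ⟨⟨⟨a, ha⟩, ⟨b, hb⟩⟩, hab⟩ := hbij.2 ⟨m, hm⟩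
  exact ⟨a, ha, b, hb, (congrArg Subtype.val hab).symm⟩

/-- **Direction `←` of S1382.** -/
theorem backward (hG : IsMinSimpleOddOrder G) {M K U : Subgroup G} (hM : IsCoatom M)
    (hKU : IsSigmaDecomposition M K U) (hne : fittingHallOf M ≠ sigmaCore M) :
    IsOfTypeIII M ∨ IsOfTypeIV M := by
  classical
  obtain ⟨hnn, hU, hK1, hKc⟩ := Cfsg.Agent.Lib.Helper24.BG152.g_caseB hG hM hKU hne
  obtain ⟨_, hσder, hKp, hqp, _, _, Q, hQF, hMQ, hQp, hQidx, hD⟩ :=
    Cfsg.Agent.S1437.result hG M hM K U hKU hne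
  have hTI : IsTISubset (fittingOf M : Set G) :=
    (Cfsg.Agent.S1357.result hG M hM K U hKU hne).2.1
  have hHall := (Cfsg.Agent.S1350.result hG M hM).1
  have hHW : fittingHallOf M ≤ sigmaCore M := (Cfsg.Agent.S1355.result hG M hM).2.1
  have hWM : sigmaCore M ≤ M := Cfsg.Agent.Lib.Helper24.BG152.g_sigmaCore_le M
  have hKM : K ≤ M := hKU.hall.1
  have hMtop : M ≠ ⊤ := hM.1
  have hMH : M ≤ normalizer ((fittingHallOf M : Subgroup G) : Set G) :=
    Cfsg.Agent.Lib.Helper24.BG152.s_le_normalizer_map (fittingHall ↥M)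
  have hσn : M ≤ normalizer ((sigmaCore M : Subgroup G) : Set G) :=
    Cfsg.Agent.Lib.Helper24.BG.le_normalizer_sigmaCore M
  -- coprimality facts
  have hHcop : (Nat.card (fittingHallOf M)).Coprime ((fittingHallOf M).relIndex M) := by
    rw [Cfsg.Agent.Lib.Helper23.card_fittingHallOf]
    have h1 : (fittingHallOf M).relIndex M = (fittingHall ↥M).index :=
      Cfsg.Agent.Lib.Helper24.BG152.s_relIndex_map (fittingHall ↥M)
    rw [h1]
    exact Cfsg.Agent.Lib.Helper23.fittingHall_coprime ↥M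
  have hHcopW : (Nat.card (fittingHallOf M)).Coprime ((fittingHallOf M).relIndex (sigmaCore M)) :=
    Nat.Coprime.coprime_dvd_right
      (Dvd.intro _ (Subgroup.relIndex_mul_relIndex _ _ _ hHW hWM)) hHcop
  have hKW : (Nat.card K).Coprime (Nat.card (sigmaCore M)) := by
    apply Nat.coprime_of_dvd
    intro p hp hpK hpW
    exact (hKU.hall.2.1 p hp hpK).2.2.1 (hHall.2.1 p hp hpW)
  have hKH : (Nat.card K).Coprime (Nat.card (fittingHallOf M)) :=
    Nat.Coprime.coprime_dvd_right (Subgroup.card_dvd_of_le hHW) hKW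
  have hHsolv : Group.IsSolvable ↥(fittingHallOf M) :=
    Cfsg.Agent.Lib.Helper23.isSolvable_of_ne_top hG
      (fun h => hMtop (top_le_iff.mp (h ▸ hHW.trans hWM)))
  -- the `K`-invariant complement
  have hKbot : K ≤ normalizer (((⊥ : Subgroup G) : Subgroup G) : Set G) := by
    rw [Subgroup.normalizer_eq_top]; exact le_top
  have hbotc : (Nat.card (⊥ : Subgroup G)).Coprime (Nat.card (fittingHallOf M)) := by
    rw [Subgroup.card_bot]; exact Nat.coprime_one_left _
  obtain ⟨D₁, hD₁W, hD₁card, hKD₁, _⟩ :=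
    Cfsg.Agent.Lib.Helper24.inv_complement_containing K (fittingHallOf M) (sigmaCore M) ⊥
      hHW (hWM.trans hMH) (hKM.trans hMH) (hKM.trans hσn) hKbot bot_le hKH hHsolv hHcopW hbotc
  have hHD₁ : (Nat.card (fittingHallOf M)).Coprime (Nat.card D₁) := by
    rw [hD₁card]; exact hHcopW
  have hcompl : IsComplIn (fittingHallOf M) D₁ (sigmaCore M) :=
    isComplIn_of_card hHW hD₁W hHD₁ hD₁card
  have hUc : IsComplIn (fittingHallOf M) D₁ ⁅M, M⁆ := by rw [← hσder]; exact hcompl
  have hW₁c : IsComplIn ⁅M, M⁆ K M := by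
    rw [← hσder]; exact Cfsg.Agent.Lib.Helper50.BG156.isComplIn_symm' hKc
  -- `D₁ ≠ ⊥`
  have hD₁1 : D₁ ≠ ⊥ := by
    intro h
    apply hne
    apply le_antisymm hHW
    intro m hm
    obtain ⟨a, ha, b, hb, rfl⟩ := hcompl.2.2.2 m hm
    rw [h, Subgroup.mem_bot] at hb
    rw [hb, mul_one]; exact ha
  -- `D₁` is nilpotent
  have hQW : Q ≤ sigmaCore M := hQF.trans hHW
  set q := Nat.card ↥(sigmaCore M ⊓ centralizer (K : Set G)) with hq
  haveI : Fact q.Prime := ⟨hqp⟩
  have hQcop : (Nat.card Q).Coprime (Q.relIndex (sigmaCore M)) := by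
    obtain ⟨n, hn⟩ := IsPGroup.exists_card_eq hQp
    rw [hn]
    exact Nat.Coprime.pow_left n ((Nat.Prime.coprime_iff_not_dvd hqp).mpr hQidx)
  have hQsolv : Group.IsSolvable ↥Q :=
    Cfsg.Agent.Lib.Helper23.isSolvable_of_ne_top hG
      (fun h => hMtop (top_le_iff.mp (h ▸ hQW.trans hWM)))
  have hD₁Q : (Nat.card D₁).Coprime (Nat.card Q) :=
    (Nat.Coprime.coprime_dvd_left (Subgroup.card_dvd_of_le hQF) hHD₁).symm
  obtain ⟨E, hE, hD₁E⟩ :=
    Cfsg.Agent.Lib.Helper21.exists_compl_ge_of_coprime hQW (hWM.trans hMQ) hQcop (Or.inl hQsolv)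
      hD₁W hD₁Q
  have hEnil : Group.IsNilpotent ↥E :=
    (hD E (Cfsg.Agent.Lib.Helper50.BG156.isComplIn_symm' hE)).1
  have hD₁nil : Group.IsNilpotent ↥D₁ := by
    haveI := hEnil
    have h1 : Group.IsNilpotent ↥(D₁.subgroupOf E) := Subgroup.isNilpotent _
    exact (Group.isNilpotent_congr (Subgroup.subgroupOfEquivOfLe hD₁E)).mp h1
  -- `N_G(D₁) ≤ M`
  have hN : normalizer ((D₁ : Subgroup G) : Set G) ≤ M := by
    have hc1 : Nat.card D₁ ≠ 1 := fun h => hD₁1 (Subgroup.card_eq_one.mp h)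
    obtain ⟨r, hr, hrD⟩ := Nat.exists_prime_and_dvd hc1
    haveI : Fact r.Prime := ⟨hr⟩
    have hrσ : r ∈ sigma M := hHall.2.1 r hr (hrD.trans (Subgroup.card_dvd_of_le hD₁W))
    obtain ⟨P⟩ : Nonempty (Sylow r ↥D₁) := inferInstance
    have h1 : normalizer ((D₁ : Subgroup G) : Set G)
        ≤ normalizer ((((P : Subgroup ↥D₁).map D₁.subtype : Subgroup G)) : Set G) :=
      Cfsg.Agent.Lib.Helper63.BG13.le_normalizer_sylow_of_nilpotent le_rfl hD₁nil P
    have hRD : (P : Subgroup ↥D₁).map D₁.subtype ≤ D₁ := Subgroup.map_subtype_le _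
    have hRp : IsPGroup r ↥((P : Subgroup ↥D₁).map D₁.subtype) := P.isPGroup'.map _
    have hidx : ¬ r ∣ ((P : Subgroup ↥D₁).map D₁.subtype).relIndex M := by
      rw [← Subgroup.relIndex_mul_relIndex _ _ _ hRD (hD₁W.trans hWM),
        ← Subgroup.relIndex_mul_relIndex D₁ _ _ hD₁W hWM]
      intro hd
      rcases (Nat.Prime.dvd_mul hr).mp hd with h | h
      · rw [Cfsg.Agent.Lib.Helper24.BG152.s_relIndex_map] at h
        exact P.not_dvd_index h
      · rcases (Nat.Prime.dvd_mul hr).mp h with h | h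
        · -- `D₁.relIndex W = |H|`
          have e1 : Nat.card (sigmaCore M) = Nat.card D₁ * D₁.relIndex (sigmaCore M) :=
            card_eq_card_mul_relIndex hD₁W
          have e2 : Nat.card (fittingHallOf M) * Nat.card D₁ = Nat.card (sigmaCore M) :=
            Cfsg.Agent.Lib.Helper23.card_isComplIn hcompl
          have e3 : D₁.relIndex (sigmaCore M) = Nat.card (fittingHallOf M) := by
            have hpos : 0 < Nat.card D₁ := Nat.card_pos
            have : Nat.card D₁ * D₁.relIndex (sigmaCore M)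
                = Nat.card D₁ * Nat.card (fittingHallOf M) := by
              rw [← e1, ← e2, mul_comm]
            exact Nat.eq_of_mul_eq_mul_left hpos this
          rw [e3] at h
          have := Nat.Coprime.eq_one_of_dvd
            (Nat.Coprime.coprime_dvd_right hrD hHD₁).symm h
          exact hr.ne_one this
        · exact hHall.2.2 r hr hrσ h
    exact h1.trans
      (Cfsg.Agent.Lib.Helper47.BG11.normalizer_le_of_sigma hrσ (hRD.trans (hD₁W.trans hWM)) hRp hidx)
  -- the type-`P` datum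
  have hP : IsTypePWith M K D₁ (sigmaCore M ⊓ centralizer (K : Set G)) :=
    typeP_core hG hM hKU hK1 hW₁c hD₁nil hKD₁ hUc
  by_cases hab : IsMulCommutative D₁
  · exact Or.inl ⟨K, D₁, _, hP, hD₁1, hKp, hTI, hab, hN⟩
  · exact Or.inr ⟨K, D₁, _, hP, hD₁1, hKp, hTI, hab, hN⟩

end Cfsg.Agent.Lib.Helper62.BG1382
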