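import Mathlib
import Cfsg.Agent.S1374
import Cfsg.Agent.S1375
import Cfsg.Agent.S1432
import Cfsg.Agent.S1436
import Cfsg.Agent.Lib.Helper22.StarCount
import Cfsg.Agent.Lib.Helper22.BG144d
import Cfsg.Agent.Lib.Helper24.BG121
import Cfsg.Agent.Lib.Helper10.BG144S
import Cfsg.Agent.Lib.Helper33.Conj
import Cfsg.Agent.Lib.Helper30.BG1390C

/-!
# S1537 (Peterfalvi, Section 8): the Dade hypothesis for `M`-invariant sets of "good" elements

Generic part: `R(a)` (`supportR`), fusion control from S1374, centralizers off `M_σ` from S1432,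
and the assembly `dade_of`.
-/

set_option autoImplicit false
set_option linter.unusedSectionVars false
set_option linter.unusedVariables false
set_option linter.style.haveILetI false

namespace Cfsg.Agent.Lib.Helper62.BG1537

open Subgroup Cfsg

universe u
variable {G : Type u} [Group G]

/-- `R(x) = 1` when `C_G(x) ≤ M` -/
theorem supportR_eq_bot {M : Subgroup G} {x : G} (h : centralizer ({x} : Set G) ≤ M) :
    supportR M x = ⊥ := by
  unfold supportR
  rw [dif_neg]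
  intro h'
  exact h'.1 h

/-- `R(x) = C_{N_F}(x)` when `N` is the unique maximal subgroup over `C_G(x) ⊄ M` -/
theorem supportR_eq {M N : Subgroup G} {x : G} (h : ¬ centralizer ({x} : Set G) ≤ M)
    (hN : IsCoatom N ∧ centralizer ({x} : Set G) ≤ N)
    (hu : ∀ L : Subgroup G, IsCoatom L → centralizer ({x} : Set G) ≤ L → L = N) :
    supportR M x = fittingHallOf N ⊓ centralizer ({x} : Set G) := by
  have hex : ∃! L : Subgroup G, IsCoatom L ∧ centralizer ({x} : Set G) ≤ L :=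
    ⟨N, hN, fun L hL => hu L hL.1 hL.2⟩
  have hh : ¬ centralizer ({x} : Set G) ≤ M ∧
      ∃! L : Subgroup G, IsCoatom L ∧ centralizer ({x} : Set G) ≤ L := ⟨h, hex⟩
  unfold supportR
  rw [dif_pos hh]
  have hc := Classical.choose_spec hh.2.exists
  rw [hu _ hc.1 hc.2]

/-- commuting with `a` implies commuting with its powers -/
theorem commute_pow_of_commute {a c : G} (h : c * a = a * c) (n : ℕ) : c * a ^ n = a ^ n * c :=
  ((Commute.pow_right (show Commute c a from h) n)).eq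

theorem conj_eq_one_iff' {g a : G} : g * a * g⁻¹ = 1 ↔ a = 1 := by
  constructor
  · intro h
    have : a = g⁻¹ * (g * a * g⁻¹) * g := by group
    rw [this, h]; group
  · rintro rfl; group

variable [Finite G]

/-- **off `M_σ`** (S1432): an element `a ∈ M \ M_σ` commuting with some `y ∈ M_σ#` has a prime `r`
dividing its order with either `r ∈ κ(M)`, or `r ∈ τ₂(M)` and `C_G(a) ≤ M`. -/
theorem exists_prime_of_not_mem (hG : IsMinSimpleOddOrder G) {M : Subgroup G} (hM : IsCoatom M)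
    {a y : G} (haM : a ∈ M) (ha : a ∉ sigmaCore M) (hy : y ∈ sigmaCore M) (hy1 : y ≠ 1)
    (hay : a * y = y * a) :
    ∃ r : ℕ, r.Prime ∧ r ∣ orderOf a ∧
      (r ∈ kappa M ∨ (r ∈ tau2 M ∧ centralizer ({a} : Set G) ≤ M)) := by
  have h1 : ¬ ∀ p : ℕ, p.Prime → p ∣ orderOf a → p ∈ sigma M := fun h =>
    ha (Cfsg.Agent.Lib.Helper22.StarCount.mem_sigmaCore_of_orderOf hG hM haM h)
  push Not at h1
  obtain ⟨r, hr, hra, hrσ⟩ := h1
  set b := a ^ (orderOf a / r) with hb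
  have hob : orderOf b = r := orderOf_pow_orderOf_div (orderOf_pos a).ne' hra
  have hb1 : b ≠ 1 := by
    intro h
    rw [h, orderOf_one] at hob
    exact hr.one_lt.ne hob
  have hby : b ∈ centralizer ({y} : Set G) := by
    rw [mem_centralizer_singleton_iff]
    have : y * a = a * y := hay.symm
    exact (commute_pow_of_commute this _).symm
  have hbM : b ∈ M ⊓ centralizer ({y} : Set G) := ⟨M.pow_mem haM _, hby⟩
  have hσ : ∀ p : ℕ, p.Prime → p ∣ orderOf b → p ∉ sigma M := by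
    intro p hp hpb
    rw [hob] at hpb
    rw [(Nat.prime_dvd_prime_iff_eq hp hr).mp hpb]
    exact hrσ
  rcases Cfsg.Agent.S1432.result hG M hM y hy hy1 b hbM hb1 hσ with h | h
  · exact ⟨r, hr, hra, Or.inl (h.1 r hr (by rw [hob]))⟩
  · refine ⟨r, hr, hra, Or.inr ⟨h.1 r hr (by rw [hob]), ?_⟩⟩
    intro c hc
    apply h.2.2.1
    rw [mem_centralizer_singleton_iff] at hc ⊢
    exact commute_pow_of_commute hc _


/-- **S1374, repackaged**: for `y ∈ M_σ#` and `g` with `g y g⁻¹ ∈ M` there is the normal complement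
`R` of `C_M(y)` in `C_G(y)` and `r ∈ R` with `g r ∈ M`. -/
theorem exists_R_mul_mem (hG : IsMinSimpleOddOrder G) {M : Subgroup G} (hM : IsCoatom M)
    {y : G} (hy : y ∈ sigmaCore M) (hy1 : y ≠ 1) {g : G} (hg : g * y * g⁻¹ ∈ M) :
    ∃ R : Subgroup G, centralizer ({y} : Set G) ≤ normalizer (R : Set G) ∧
      IsComplIn (M ⊓ centralizer ({y} : Set G)) R (centralizer ({y} : Set G)) ∧
      ∃ r ∈ R, g * r ∈ M := by
  obtain ⟨_, R, hRn, hRc, hR⟩ := Cfsg.Agent.S1374.result hG M hM y hy hy1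
  refine ⟨R, hRn, hRc, ?_⟩
  have hyg : y ∈ M.map (MulAut.conj g⁻¹).toMonoidHom := by
    rw [← Cfsg.Agent.Lib.Helper33.cj_def, Cfsg.Agent.Lib.Helper33.mem_cj, inv_inv]
    exact hg
  obtain ⟨r, ⟨hrR, hrM⟩, _⟩ := hR g⁻¹ hyg
  refine ⟨r, hrR, ?_⟩
  rw [← Cfsg.Agent.Lib.Helper33.cj_def, ← Cfsg.Agent.Lib.Helper33.cj_def] at hrM
  have h1 : Cfsg.Agent.Lib.Helper33.cj (g * r) M = M := by
    rw [Cfsg.Agent.Lib.Helper33.cj_mul, hrM, Cfsg.Agent.Lib.Helper33.cj_cj_inv]
  have h2 : g * r ∈ normalizer (M : Set G) := Cfsg.Agent.Lib.Helper33.cj_eq_self_iff.mp h1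
  have hyM : y ∈ M := Cfsg.Agent.Lib.Helper10.BG13.sigmaCore_le M hy
  rwa [Cfsg.Agent.Lib.Helper10.BG144T.normalizer_coatom hG hM hyM hy1] at h2

/-- **fusion on `M_σ`**: `a ∈ M_σ#`, `g a g⁻¹ ∈ M` ⟹ `g a g⁻¹` is an `M`-conjugate of `a`. -/
theorem fusion_sigma (hG : IsMinSimpleOddOrder G) {M : Subgroup G} (hM : IsCoatom M)
    {a : G} (ha : a ∈ sigmaCore M) (ha1 : a ≠ 1) {g : G} (hg : g * a * g⁻¹ ∈ M) :
    ∃ m ∈ M, m * a * m⁻¹ = g * a * g⁻¹ := by
  obtain ⟨R, hRn, hRc, r, hrR, hgr⟩ := exists_R_mul_mem hG hM ha ha1 hg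
  refine ⟨g * r, hgr, ?_⟩
  have hr : r * a = a * r := mem_centralizer_singleton_iff.mp (hRc.2.1 hrR)
  calc g * r * a * (g * r)⁻¹ = g * (r * a) * r⁻¹ * g⁻¹ := by group
    _ = g * (a * r) * r⁻¹ * g⁻¹ := by rw [hr]
    _ = g * a * g⁻¹ := by group

/-- **fusion off `M_σ`**: `a ∈ M` commuting with `y ∈ M_σ#`, and `C_G(g a g⁻¹) ≤ M` ⟹ `g a g⁻¹` is
an `M`-conjugate of `a`. -/
theorem fusion_hat (hG : IsMinSimpleOddOrder G) {M : Subgroup G} (hM : IsCoatom M)
    {a y : G} (haM : a ∈ M) (hy : y ∈ sigmaCore M) (hy1 : y ≠ 1) (hay : a * y = y * a) {g : G}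
    (hb : centralizer ({g * a * g⁻¹} : Set G) ≤ M) :
    ∃ m ∈ M, m * a * m⁻¹ = g * a * g⁻¹ := by
  have hgy : g * y * g⁻¹ ∈ M := by
    apply hb
    rw [mem_centralizer_singleton_iff]
    calc g * y * g⁻¹ * (g * a * g⁻¹) = g * (y * a) * g⁻¹ := by group
      _ = g * (a * y) * g⁻¹ := by rw [hay]
      _ = g * a * g⁻¹ * (g * y * g⁻¹) := by group
  have hbM : g * a * g⁻¹ ∈ M := by
    apply hb
    rw [mem_centralizer_singleton_iff]
  obtain ⟨R, hRn, hRc, r, hrR, hgr⟩ := exists_R_mul_mem hG hM hy hy1 hgy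
  refine ⟨g * r, hgr, ?_⟩
  have hry : r ∈ centralizer ({y} : Set G) := hRc.2.1 hrR
  have hay' : a ∈ centralizer ({y} : Set G) := mem_centralizer_singleton_iff.mpr hay
  -- `r⁻¹ a r ∈ M`
  have h1 : r⁻¹ * a * r ∈ M := by
    have : r⁻¹ * a * r = (g * r)⁻¹ * (g * a * g⁻¹) * (g * r) := by group
    rw [this]
    exact M.mul_mem (M.mul_mem (M.inv_mem hgr) hbM) hgr
  set c := r⁻¹ * a * r * a⁻¹ with hc
  have hcM : c ∈ M := M.mul_mem h1 (M.inv_mem haM)
  have hcC : c ∈ centralizer ({y} : Set G) :=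
    (centralizer _).mul_mem ((centralizer _).mul_mem ((centralizer _).mul_mem
      ((centralizer _).inv_mem hry) hay') hry) ((centralizer _).inv_mem hay')
  have hcR : c ∈ R := by
    have h2 : a * r * a⁻¹ ∈ R := (mem_normalizer_iff.mp (hRn hay') r).mp hrR
    have : c = r⁻¹ * (a * r * a⁻¹) := by rw [hc]; group
    rw [this]
    exact R.mul_mem (R.inv_mem hrR) h2
  have hc1 : c = 1 := by
    have : c ∈ (M ⊓ centralizer ({y} : Set G)) ⊓ R := ⟨⟨hcM, hcC⟩, hcR⟩
    rw [hRc.2.2.1] at this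
    exact (mem_bot).mp this
  have hra : r * a * r⁻¹ = a := by
    have h3 : r⁻¹ * a * r = a := by
      have : r⁻¹ * a * r = c * a := by rw [hc]; group
      rw [this, hc1, one_mul]
    calc r * a * r⁻¹ = r * (r⁻¹ * a * r) * r⁻¹ := by rw [h3]
      _ = a := by group
  calc g * r * a * (g * r)⁻¹ = g * (r * a * r⁻¹) * g⁻¹ := by group
    _ = g * a * g⁻¹ := by rw [hra]

/-- the structural clauses of the Dade hypothesis for `R(a)`, `a ∈ M_σ#` or `C_G(a) ≤ M` -/
theorem supportR_facts (hG : IsMinSimpleOddOrder G) {M : Subgroup G} (hM : IsCoatom M) {a : G}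
    (h : (a ∈ sigmaCore M ∧ a ≠ 1) ∨ centralizer ({a} : Set G) ≤ M) :
    supportR M a ≤ centralizer ({a} : Set G) ∧
      (∀ c ∈ centralizer ({a} : Set G), ∀ u ∈ supportR M a, c * u * c⁻¹ ∈ supportR M a) ∧
      supportR M a ⊓ (M ⊓ centralizer ({a} : Set G)) = ⊥ ∧
      supportR M a ⊔ (M ⊓ centralizer ({a} : Set G)) = centralizer ({a} : Set G) := by
  by_cases hc : centralizer ({a} : Set G) ≤ M
  · rw [supportR_eq_bot hc]
    refine ⟨bot_le, ?_, bot_inf_eq _, ?_⟩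
    · intro c _ u hu
      rw [mem_bot] at hu ⊢
      rw [hu]; group
    · rw [bot_sup_eq]
      exact inf_eq_right.mpr hc
  · rcases h with ⟨ha, ha1⟩ | h
    · obtain ⟨N, hN, hu, hσF, hnorm, hcompl, _, _⟩ :=
        Cfsg.Agent.S1375.result hG M hM a ha ha1 hc
      rw [supportR_eq hc hN hu, ← hσF]
      refine ⟨inf_le_right, ?_, ?_, ?_⟩
      · intro c hcc u hu
        exact (mem_normalizer_iff.mp (hnorm hcc) u).mp hu
      · rw [inf_comm]; exact hcompl.2.2.1
      · rw [sup_comm]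
        exact Cfsg.Agent.Lib.Helper30.BG1390.c_sup_eq_of_isComplIn hcompl
    · exact absurd h hc

/-- the primes of `R(a)`: a prime dividing `|R(a)|` and `|M|` forces `κ(M) = τ₂(M) = ∅` and lies
outside `σ(M)` -/
theorem prime_dvd_supportR (hG : IsMinSimpleOddOrder G) {M : Subgroup G} (hM : IsCoatom M) {a : G}
    (ha : a ∈ sigmaCore M) (ha1 : a ≠ 1) {p : ℕ} (hp : p.Prime)
    (hpR : p ∣ Nat.card (supportR M a)) (hpM : p ∣ Nat.card M) :
    kappa M = ∅ ∧ tau2 M = ∅ ∧ p ∉ sigma M := by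
  by_cases hc : centralizer ({a} : Set G) ≤ M
  · rw [supportR_eq_bot hc, Subgroup.card_bot] at hpR
    exact absurd (Nat.dvd_one.mp hpR) hp.one_lt.ne'
  · obtain ⟨N, hN, hu, hσF, hnorm, hcompl, _, _⟩ :=
      Cfsg.Agent.S1375.result hG M hM a ha ha1 hc
    rw [supportR_eq hc hN hu, ← hσF] at hpR
    have hpN : p ∣ Nat.card (sigmaCore N) :=
      hpR.trans (Subgroup.card_dvd_of_le inf_le_left)
    have hpσ : p ∈ sigma N := Cfsg.Agent.Lib.Helper24.BG.mem_sigma_of_dvd_card_sigmaCore N hp hpN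
    have h36 := (Cfsg.Agent.S1436.result hG M hM a ha ha1 hc N hN.1 hN.2).1 ⟨p, hpσ, hpM⟩
    have cfg : Cfsg.Agent.Lib.Helper22.BG144d.Cfg M a N := ⟨hG, hM, ha, ha1, hc, hN.1, hN.2⟩
    exact ⟨h36.1, h36.2, fun h => cfg.sigma_disj p h hpσ⟩

/-- **The Dade hypothesis** for an `M`-invariant set `A ⊆ M` of non-identity elements which, off
`M_σ`, have their centralizers in `M` and are fused only by `M`. -/
theorem dade_of (hG : IsMinSimpleOddOrder G) {M : Subgroup G} (hM : IsCoatom M) {A : Set G}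
    (h1 : (1 : G) ∉ A) (hAM : A ⊆ (M : Set G))
    (hinv : ∀ m ∈ M, ∀ a ∈ A, m * a * m⁻¹ ∈ A)
    (hcls : ∀ a ∈ A, a ∉ sigmaCore M → centralizer ({a} : Set G) ≤ M)
    (hfus : ∀ a ∈ A, a ∉ sigmaCore M → ∀ g : G, g * a * g⁻¹ ∈ A →
      ∃ x ∈ M, x * a * x⁻¹ = g * a * g⁻¹)
    (hcop : kappa M = ∅ → tau2 M = ∅ → ∀ b ∈ A, b ∈ sigmaCore M) :
    DadeHypothesis A M (supportR M) := by
  have hne1 : ∀ a ∈ A, a ≠ 1 := fun a ha h => h1 (h ▸ ha)
  have hgood : ∀ a ∈ A, (a ∈ sigmaCore M ∧ a ≠ 1) ∨ centralizer ({a} : Set G) ≤ M := by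
    intro a ha
    by_cases h : a ∈ sigmaCore M
    · exact Or.inl ⟨h, hne1 a ha⟩
    · exact Or.inr (hcls a ha h)
  refine ⟨h1, hAM, hinv, ?_, ?_, ?_, ?_, ?_, ?_⟩
  · intro a ha g hg
    by_cases h : a ∈ sigmaCore M
    · exact fusion_sigma hG hM h (hne1 a ha) (hAM hg)
    · exact hfus a ha h g hg
  · exact fun a ha => (supportR_facts hG hM (hgood a ha)).1
  · exact fun a ha => (supportR_facts hG hM (hgood a ha)).2.1
  · exact fun a ha => (supportR_facts hG hM (hgood a ha)).2.2.1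
  · exact fun a ha => (supportR_facts hG hM (hgood a ha)).2.2.2
  · intro a ha b hb
    by_contra hnc
    obtain ⟨p, hp, hpa, hpb⟩ := Nat.Prime.not_coprime_iff_dvd.mp hnc
    have hpM : p ∣ Nat.card M := hpb.trans (Subgroup.card_dvd_of_le inf_le_left)
    by_cases h : a ∈ sigmaCore M
    · obtain ⟨hκ, hτ, hpσ⟩ := prime_dvd_supportR hG hM h (hne1 a ha) hp hpa hpM
      have hbσ := hcop hκ hτ b hb
      -- an element of order `p` in `C_M(b)`
      haveI : Fact p.Prime := ⟨hp⟩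
      obtain ⟨⟨y, hyM⟩, hy⟩ := exists_prime_orderOf_dvd_card' p hpb
      have hoy : orderOf y = p := by
        rw [← hy, ← Subgroup.orderOf_coe]
      have hy1 : y ≠ 1 := by
        intro h0
        rw [h0, orderOf_one] at hoy
        exact hp.one_lt.ne hoy
      have hσ : ∀ q : ℕ, q.Prime → q ∣ orderOf y → q ∉ sigma M := by
        intro q hq hqy
        rw [hoy] at hqy
        rw [(Nat.prime_dvd_prime_iff_eq hq hp).mp hqy]
        exact hpσ
      rcases Cfsg.Agent.S1432.result hG M hM b hbσ (hne1 b hb) y hyM hy1 hσ with h' | h'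
      · have := h'.1 p hp (by rw [hoy])
        rw [hκ] at this
        exact this
      · have := h'.1 p hp (by rw [hoy])
        rw [hτ] at this
        exact this
    · rw [supportR_eq_bot (hcls a ha h), Subgroup.card_bot] at hpa
      exact absurd (Nat.dvd_one.mp hpa) hp.one_lt.ne'

end Cfsg.Agent.Lib.Helper62.BG1537
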