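import Mathlib
import Cfsg.Agent.S1351
import Cfsg.Agent.S1352
import Cfsg.Agent.S1355
import Cfsg.Agent.S1365
import Cfsg.Agent.Lib.Helper62.BG1537a
import Cfsg.Agent.Lib.Helper62.BG1382a
import Cfsg.Agent.Lib.Helper64.BG1538
import Cfsg.Agent.Lib.Helper30.BG1390B
import Cfsg.Agent.Lib.Helper24.BG1389
import Cfsg.Agent.Lib.Helper50.BGTypes

/-!
# S1537 (Peterfalvi, Section 8): the sets `A₁(M)`, `A(M)`, `A₀(M)` satisfy the Dade hypothesis
-/

set_option autoImplicit false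
set_option linter.unusedSectionVars false
set_option linter.unusedVariables false
set_option linter.style.haveILetI false

namespace Cfsg.Agent.Lib.Helper62.BG1537

open Subgroup Cfsg

universe u
variable {G : Type u} [Group G] [Finite G]

omit [Finite G] in
/-- the Dade hypothesis passes to `L`-invariant subsets -/
theorem dade_subset {A A' : Set G} {L : Subgroup G} {H : G → Subgroup G}
    (h : DadeHypothesis A L H) (hsub : A' ⊆ A) (hinv : ∀ x ∈ L, ∀ a ∈ A', x * a * x⁻¹ ∈ A') :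
    DadeHypothesis A' L H :=
  ⟨fun h1 => h.one_not_mem (hsub h1), fun a ha => h.subset (hsub ha), hinv,
    fun a ha g hg => h.fusion a (hsub ha) g (hsub hg),
    fun a ha => h.le_centralizer a (hsub ha),
    fun a ha => h.conj_mem_H a (hsub ha),
    fun a ha => h.inf_eq_bot a (hsub ha),
    fun a ha => h.sup_eq a (hsub ha),
    fun a ha b hb => h.coprime a (hsub ha) b (hsub hb)⟩

/-- no element of `M'` has order divisible by a prime of `κ(M)` -/
theorem kappa_not_dvd_of_mem_commutator (hG : IsMinSimpleOddOrder G) {M : Subgroup G}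
    (hM : IsCoatom M) {a : G} (ha : a ∈ ⁅M, M⁆) {r : ℕ} (hr : r.Prime) (hra : r ∣ orderOf a)
    (hrκ : r ∈ kappa M) : False := by
  obtain ⟨K, hK⟩ := (Cfsg.Agent.S1351.result hG M hM).1
  have hKc := (Cfsg.Agent.S1351.result hG M hM).2 K hK
  obtain ⟨U, hKU⟩ := (Cfsg.Agent.S1352.result hG M hM K hKc hK).1
  have hK1 := Cfsg.Agent.Lib.Helper62.BG1382.K_ne_bot_of_mem_kappa hKU hrκ
  have h65 := (Cfsg.Agent.S1365.result hG M hM K U hKU hK1).1
  have hDM : ⁅M, M⁆ ≤ M := (Cfsg.Agent.S1355.result hG M hM).2.2.2.1.le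
  set b := a ^ (orderOf a / r) with hb
  have hob : orderOf b = r := orderOf_pow_orderOf_div (orderOf_pos a).ne' hra
  have hb1 : b ≠ 1 := by
    intro h
    rw [h, orderOf_one] at hob
    exact hr.one_lt.ne hob
  have hbD : b ∈ ⁅M, M⁆ := (⁅M, M⁆).pow_mem ha _
  have hbp : IsPGroup r (zpowers b) := by
    haveI : Fact r.Prime := ⟨hr⟩
    apply IsPGroup.of_card (n := 1)
    rw [Nat.card_zpowers, hob, pow_one]
  obtain ⟨c, hc, hcK⟩ :=
    Cfsg.Agent.Lib.Helper30.BG1390.exists_conj_mem_hallKappa hK hrκ (hDM hbD) hbp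
  have hcD : c * b * c⁻¹ ∈ ⁅M, M⁆ :=
    (mem_normalizer_iff.mp (Cfsg.Agent.Lib.Helper30.BG1390.c_le_normalizer_derived M hc) b).mp hbD
  have h0 : c * b * c⁻¹ ∈ (U ⊔ sigmaCore M) ⊓ K := ⟨h65 ▸ hcD, hcK⟩
  rw [Cfsg.Agent.Lib.Helper50.BGTypes.sup_inf_K hKU, mem_bot] at h0
  exact hb1 (conj_eq_one_iff'.mp h0)

/-- `M` normalizes `M_s` -/
theorem conj_mem_typeCore {M : Subgroup G} {m x : G} (hm : m ∈ M) (hx : x ∈ typeCore M) :
    m * x * m⁻¹ ∈ typeCore M := by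
  classical
  unfold typeCore at hx ⊢
  by_cases h : IsOfTypeIII M ∨ IsOfTypeIV M
  · rw [if_pos h] at hx ⊢
    exact (mem_normalizer_iff.mp
      (Cfsg.Agent.Lib.Helper30.BG1390.c_le_normalizer_derived M hm) x).mp hx
  · rw [if_neg h] at hx ⊢
    exact (mem_normalizer_iff.mp
      (Cfsg.Agent.Lib.Helper64.BG1538.le_normalizer_fittingHallOf M hm) x).mp hx

/-- `M_F ≤ M_s` -/
theorem fittingHallOf_le_typeCore (hG : IsMinSimpleOddOrder G) {M : Subgroup G}
    (hM : IsCoatom M) : fittingHallOf M ≤ typeCore M := by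
  classical
  unfold typeCore
  by_cases h : IsOfTypeIII M ∨ IsOfTypeIV M
  · rw [if_pos h]
    have h55 := Cfsg.Agent.S1355.result hG M hM
    exact h55.2.1.trans h55.2.2.1
  · rw [if_neg h]

/-- the facts about the elements of `A(M)` -/
theorem typeA_facts (hG : IsMinSimpleOddOrder G) {M : Subgroup G} (hM : IsCoatom M) {a : G}
    (ha : a ∈ typeA M) :
    a ∈ M ∧ a ≠ 1 ∧ (∃ y ∈ sigmaCore M, y ≠ 1 ∧ a * y = y * a) ∧
      (∀ r : ℕ, r.Prime → r ∣ orderOf a → r ∈ kappa M → False) ∧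
      (¬ IsOfTypeI M → a ∈ ⁅M, M⁆) := by
  classical
  have h55 := Cfsg.Agent.S1355.result hG M hM
  unfold typeA at ha
  by_cases hI : IsOfTypeI M
  · rw [if_pos hI] at ha
    obtain ⟨haM, ha1, x, hx, hx1, hax⟩ := ha
    refine ⟨haM, ha1, ⟨x, h55.2.1 hx, hx1, hax⟩, ?_, fun h => absurd hI h⟩
    intro r _ _ hrκ
    rw [Cfsg.Agent.Lib.Helper30.BG1390.typeF_kappa_empty hG hM hI.1] at hrκ
    exact hrκ
  · rw [if_neg hI] at ha
    obtain ⟨haD, ha1, x, hx, hx1, hax⟩ := ha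
    refine ⟨h55.2.2.2.1.le haD, ha1,
      ⟨x, (Cfsg.Agent.Lib.Helper24.BG1389.typeCore_facts hG hM).1 hx, hx1, hax⟩, ?_, fun _ => haD⟩
    intro r hr hra hrκ
    exact kappa_not_dvd_of_mem_commutator hG hM haD hr hra hrκ

/-- `A(M)` is `M`-invariant -/
theorem typeA_conj_mem {M : Subgroup G} {m a : G} (hm : m ∈ M) (ha : a ∈ typeA M) :
    m * a * m⁻¹ ∈ typeA M := by
  classical
  have hcomm : ∀ x : G, a * x = x * a → m * a * m⁻¹ * (m * x * m⁻¹) = m * x * m⁻¹ * (m * a * m⁻¹) := by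
    intro x hax
    calc m * a * m⁻¹ * (m * x * m⁻¹) = m * (a * x) * m⁻¹ := by group
      _ = m * (x * a) * m⁻¹ := by rw [hax]
      _ = m * x * m⁻¹ * (m * a * m⁻¹) := by group
  unfold typeA at ha ⊢
  by_cases hI : IsOfTypeI M
  · rw [if_pos hI] at ha ⊢
    obtain ⟨haM, ha1, x, hx, hx1, hax⟩ := ha
    refine ⟨M.mul_mem (M.mul_mem hm haM) (M.inv_mem hm), fun h => ha1 (conj_eq_one_iff'.mp h),
      m * x * m⁻¹, ?_, fun h => hx1 (conj_eq_one_iff'.mp h), hcomm x hax⟩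
    exact (mem_normalizer_iff.mp
      (Cfsg.Agent.Lib.Helper64.BG1538.le_normalizer_fittingHallOf M hm) x).mp hx
  · rw [if_neg hI] at ha ⊢
    obtain ⟨haD, ha1, x, hx, hx1, hax⟩ := ha
    refine ⟨?_, fun h => ha1 (conj_eq_one_iff'.mp h),
      m * x * m⁻¹, conj_mem_typeCore hm hx, fun h => hx1 (conj_eq_one_iff'.mp h), hcomm x hax⟩
    exact (mem_normalizer_iff.mp
      (Cfsg.Agent.Lib.Helper30.BG1390.c_le_normalizer_derived M hm) a).mp haD

/-- a non-identity element of `M_F` lies in `A₁(M)` and `A(M)` -/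
theorem exists_mem_typeA1_typeA (hG : IsMinSimpleOddOrder G) {M : Subgroup G} (hM : IsCoatom M) :
    ∃ x : G, x ≠ 1 ∧ x ∈ typeA1 M ∧ x ∈ typeA M := by
  classical
  have h55 := Cfsg.Agent.S1355.result hG M hM
  obtain ⟨⟨x, hx⟩, hx1⟩ := (Subgroup.ne_bot_iff_exists_ne_one).mp h55.1
  have hx1' : x ≠ 1 := fun h => hx1 (Subtype.ext h)
  have hxT : x ∈ typeCore M := fittingHallOf_le_typeCore hG hM hx
  refine ⟨x, hx1', ⟨hxT, hx1'⟩, ?_⟩
  unfold typeA
  by_cases hI : IsOfTypeI M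
  · rw [if_pos hI]
    exact ⟨Cfsg.Agent.Lib.Helper10.BG13.sigmaCore_le M (h55.2.1 hx), hx1', x, hx, hx1', rfl⟩
  · rw [if_neg hI]
    exact ⟨h55.2.2.1 (h55.2.1 hx), hx1', x, hxT, hx1', rfl⟩

/-- `A₁(M) ⊆ A(M)` -/
theorem typeA1_subset_typeA (hG : IsMinSimpleOddOrder G) {M : Subgroup G} (hM : IsCoatom M) :
    typeA1 M ⊆ typeA M := by
  classical
  have h55 := Cfsg.Agent.S1355.result hG M hM
  intro x hx
  obtain ⟨hxT, hx1⟩ := hx
  have hx1' : x ≠ 1 := hx1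
  have hxσ : x ∈ sigmaCore M := (Cfsg.Agent.Lib.Helper24.BG1389.typeCore_facts hG hM).1 hxT
  unfold typeA
  by_cases hI : IsOfTypeI M
  · rw [if_pos hI]
    obtain ⟨y, hy1, hyF, _⟩ := exists_mem_typeA1_typeA hG hM
    -- `typeCore M = M_F` in Type I
    have hT : typeCore M = fittingHallOf M := by
      unfold typeCore
      rw [if_neg]
      rintro (h | h)
      · obtain ⟨W₁, U, W₂, hP, _⟩ := h
        exact Cfsg.Agent.Lib.Helper30.BG1390.not_typeP_of_typeF hG hM hI.1 hP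
      · obtain ⟨W₁, U, W₂, hP, _⟩ := h
        exact Cfsg.Agent.Lib.Helper30.BG1390.not_typeP_of_typeF hG hM hI.1 hP
    rw [hT] at hxT
    exact ⟨Cfsg.Agent.Lib.Helper10.BG13.sigmaCore_le M hxσ, hx1', x, hxT, hx1', rfl⟩
  · rw [if_neg hI]
    exact ⟨h55.2.2.1 hxσ, hx1', x, hxT, hx1', rfl⟩

end Cfsg.Agent.Lib.Helper62.BG1537
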