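import Mathlib
import Cfsg.Agent.Lib.Helper62.BG1537b

/-!
# S1537 (Peterfalvi, Section 8): the Dade hypothesis for `A₀(M)`, hence for `A(M)` and `A₁(M)`
-/

set_option autoImplicit false
set_option linter.unusedSectionVars false
set_option linter.unusedVariables false
set_option linter.style.haveILetI false

namespace Cfsg.Agent.Lib.Helper62.BG1537

open Subgroup Cfsg

universe u
variable {G : Type u} [Group G] [Finite G]

omit [Finite G] in
/-- membership in `A₀(M)` -/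
theorem mem_typeA0_iff {M : Subgroup G} {v : G} :
    v ∈ typeA0 M ↔ v ∈ typeA M ∨ (¬ IsOfTypeI M ∧ ∃ W₁ U W₂ : Subgroup G, IsTypePWith M W₁ U W₂ ∧
      ∃ m ∈ M, ∃ w ∈ W₁ ⊔ W₂, w ∉ W₁ ∧ w ∉ W₂ ∧ v = m * w * m⁻¹) := Iff.rfl

/-- the facts about the `M`-conjugates of the elements of `W₁W₂ \ (W₁ ∪ W₂)` -/
theorem hat_facts {M W₁ U W₂ : Subgroup G} (hP : IsTypePWith M W₁ U W₂) {m w : G} (hm : m ∈ M)
    (hw : w ∈ W₁ ⊔ W₂) (hw1 : w ∉ W₁) (hw2 : w ∉ W₂) :
    m * w * m⁻¹ ∈ M ∧ m * w * m⁻¹ ≠ 1 ∧ centralizer ({m * w * m⁻¹} : Set G) ≤ M ∧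
      ∀ g : G, g * (m * w * m⁻¹) * g⁻¹ ∉ ⁅M, M⁆ := by
  have hWM : W₁ ⊔ W₂ ≤ M :=
    sup_le hP.W₁_compl.2.1 ((Cfsg.Agent.Lib.Helper64.BG1538.typeP_W₂_le hP).trans hP.W₁_compl.1)
  have hN : normalizer ({w} : Set G) = W₁ ⊔ W₂ := by
    apply hP.selfNormalizing.2.2.2.2.2 {w} _ (Set.singleton_nonempty w)
    rw [Set.singleton_subset_iff]
    refine ⟨hw, ?_⟩
    rintro (h1 | h1)
    · exact hw1 h1
    · exact hw2 h1
  refine ⟨M.mul_mem (M.mul_mem hm (hWM hw)) (M.inv_mem hm), ?_, ?_, ?_⟩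
  · intro h
    have : w = 1 := conj_eq_one_iff'.mp h
    exact hw1 (this ▸ W₁.one_mem)
  · intro c hc
    rw [mem_centralizer_singleton_iff] at hc
    have h1 : m⁻¹ * c * m ∈ normalizer ({w} : Set G) := by
      rw [Cfsg.Agent.Lib.Helper64.BG1538.mem_normalizer_singleton]
      calc m⁻¹ * c * m * w * (m⁻¹ * c * m)⁻¹ = m⁻¹ * (c * (m * w * m⁻¹)) * c⁻¹ * m := by group
        _ = m⁻¹ * ((m * w * m⁻¹) * c) * c⁻¹ * m := by rw [hc]
        _ = w := by group
    rw [hN] at h1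
    have h2 : m⁻¹ * c * m ∈ M := hWM h1
    have : c = m * (m⁻¹ * c * m) * m⁻¹ := by group
    rw [this]
    exact M.mul_mem (M.mul_mem hm h2) (M.inv_mem hm)
  · intro g
    have : g * (m * w * m⁻¹) * g⁻¹ = (g * m) * w * (g * m)⁻¹ := by group
    rw [this]
    exact Cfsg.Agent.Lib.Helper64.BG1538.typeP_conj_not_mem hP hw hw2 (g * m)

/-- conjugate elements of `M` are both in `M_σ` or both outside -/
theorem mem_sigmaCore_of_conj (hG : IsMinSimpleOddOrder G) {M : Subgroup G} (hM : IsCoatom M)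
    {a g : G} (haM : a ∈ M) (h : g * a * g⁻¹ ∈ sigmaCore M) : a ∈ sigmaCore M := by
  apply Cfsg.Agent.Lib.Helper22.StarCount.mem_sigmaCore_of_orderOf hG hM haM
  intro p hp hpa
  apply Cfsg.Agent.Lib.Helper22.StarCount.mem_sigma_of_dvd_orderOf hG hM h hp
  have : orderOf (g * a * g⁻¹) = orderOf a := by
    rw [← MulAut.conj_apply]
    exact MulEquiv.orderOf_eq _ _
  rwa [this]

/-- **the Dade hypothesis for `A₀(M)`** -/
theorem dade_typeA0 (hG : IsMinSimpleOddOrder G) {M : Subgroup G} (hM : IsCoatom M) :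
    DadeHypothesis (typeA0 M) M (supportR M) := by
  have hDσ : sigmaCore M ≤ ⁅M, M⁆ := (Cfsg.Agent.S1355.result hG M hM).2.2.1
  -- centralizers off `M_σ`
  have hclsA : ∀ a ∈ typeA M, a ∉ sigmaCore M → centralizer ({a} : Set G) ≤ M := by
    intro a ha hna
    obtain ⟨haM, ha1, ⟨y, hy, hy1, hay⟩, hκ, _⟩ := typeA_facts hG hM ha
    obtain ⟨r, hr, hra, h | h⟩ := exists_prime_of_not_mem hG hM haM hna hy hy1 hay
    · exact absurd h (fun h => hκ r hr hra h)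
    · exact h.2
  apply dade_of hG hM
  · -- `1 ∉ A₀`
    intro h
    rcases mem_typeA0_iff.mp h with h | ⟨_, W₁, U, W₂, hP, m, hm, w, hw, hw1, hw2, hv⟩
    · exact (typeA_facts hG hM h).2.1 rfl
    · exact (hat_facts hP hm hw hw1 hw2).2.1 hv.symm
  · -- `A₀ ⊆ M`
    intro v hv
    rcases mem_typeA0_iff.mp hv with h | ⟨_, W₁, U, W₂, hP, m, hm, w, hw, hw1, hw2, hv⟩
    · exact (typeA_facts hG hM h).1
    · rw [hv]; exact (hat_facts hP hm hw hw1 hw2).1
  · -- invariance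
    intro x hx v hv
    rcases mem_typeA0_iff.mp hv with h | ⟨hI, W₁, U, W₂, hP, m, hm, w, hw, hw1, hw2, hv⟩
    · exact mem_typeA0_iff.mpr (Or.inl (typeA_conj_mem hx h))
    · refine mem_typeA0_iff.mpr (Or.inr ⟨hI, W₁, U, W₂, hP, x * m, M.mul_mem hx hm, w, hw, hw1,
        hw2, ?_⟩)
      rw [hv]; group
  · -- centralizers off `M_σ`
    intro v hv hvσ
    rcases mem_typeA0_iff.mp hv with h | ⟨_, W₁, U, W₂, hP, m, hm, w, hw, hw1, hw2, hv⟩
    · exact hclsA v h hvσ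
    · rw [hv]; exact (hat_facts hP hm hw hw1 hw2).2.2.1
  · -- fusion off `M_σ`
    intro a ha haσ g hg
    rcases mem_typeA0_iff.mp ha with h | ⟨hI, W₁, U, W₂, hP, m, hm, w, hw, hw1, hw2, hv⟩
    · obtain ⟨haM, ha1, ⟨y, hy, hy1, hay⟩, hκ, hD⟩ := typeA_facts hG hM h
      rcases mem_typeA0_iff.mp hg with h' | ⟨hI', W₁', U', W₂', hP', m', hm', w', hw', hw1', hw2', hv'⟩
      · -- both in `A(M)`
        have hbσ : g * a * g⁻¹ ∉ sigmaCore M := fun hb => haσ (mem_sigmaCore_of_conj hG hM haM hb)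
        exact fusion_hat hG hM haM hy hy1 hay (hclsA _ h' hbσ)
      · -- `a ∈ A(M)`, conjugate hat: impossible
        exfalso
        have haD := hD hI'
        have : a = g⁻¹ * (m' * w' * m'⁻¹) * g⁻¹⁻¹ := by rw [← hv']; group
        rw [this] at haD
        exact (hat_facts hP' hm' hw' hw1' hw2').2.2.2 g⁻¹ haD
    · rcases mem_typeA0_iff.mp hg with h' | ⟨hI', W₁', U', W₂', hP', m', hm', w', hw', hw1', hw2', hv'⟩
      · -- `a` hat, conjugate in `A(M)`: impossible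
        exfalso
        have hbD := (typeA_facts hG hM h').2.2.2.2 hI
        rw [hv] at hbD
        exact (hat_facts hP hm hw hw1 hw2).2.2.2 g hbD
      · -- both hat
        have he : (m'⁻¹ * g * m) * w * (m'⁻¹ * g * m)⁻¹ = w' := by
          have : (m'⁻¹ * g * m) * w * (m'⁻¹ * g * m)⁻¹ = m'⁻¹ * (g * (m * w * m⁻¹) * g⁻¹) * m' := by
            group
          rw [this, ← hv, hv']; group
        have hh := Cfsg.Agent.Lib.Helper64.BG1538.typeP_hat_conj hG hM hP hP' hw hw1 hw2 hw' hw1'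
          hw2' he
        have hgM : g ∈ M := by
          have : g = m' * (m'⁻¹ * g * m) * m⁻¹ := by group
          rw [this]
          exact M.mul_mem (M.mul_mem hm' hh) (M.inv_mem hm)
        exact ⟨g, hgM, rfl⟩
  · -- `κ(M) = τ₂(M) = ∅` forces `A₀ ⊆ M_σ`
    intro hκ hτ b hb
    rcases mem_typeA0_iff.mp hb with h | ⟨_, W₁, U, W₂, hP, _⟩
    · by_contra hbσ
      obtain ⟨hbM, hb1, ⟨y, hy, hy1, hby⟩, _, _⟩ := typeA_facts hG hM h
      obtain ⟨r, hr, hrb, h | h⟩ := exists_prime_of_not_mem hG hM hbM hbσ hy hy1 hby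
      · rw [hκ] at h; exact h
      · rw [hτ] at h; exact h.1
    · exfalso
      obtain ⟨q, hq⟩ := Cfsg.Agent.Lib.Helper30.BG1390.typeP_kappa_nonempty hG hM hP
      rw [hκ] at hq
      exact hq

/-- `A₀(M)` is `M`-invariant -/
theorem typeA0_conj_mem (hG : IsMinSimpleOddOrder G) {M : Subgroup G} (hM : IsCoatom M) {m a : G}
    (hm : m ∈ M) (ha : a ∈ typeA0 M) : m * a * m⁻¹ ∈ typeA0 M :=
  (dade_typeA0 hG hM).conj_mem m hm a ha

/-- `A₁(M)` is `M`-invariant -/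
theorem typeA1_conj_mem {M : Subgroup G} {m a : G} (hm : m ∈ M) (ha : a ∈ typeA1 M) :
    m * a * m⁻¹ ∈ typeA1 M :=
  ⟨conj_mem_typeCore hm ha.1, fun h => ha.2 (conj_eq_one_iff'.mp h)⟩

/-- **S1537** -/
theorem main (hG : IsMinSimpleOddOrder G) {M : Subgroup G} (hM : IsCoatom M) {A : Set G}
    (hA : A = typeA1 M ∨ A = typeA M ∨ A = typeA0 M) :
    normalizer A = M ∧ DadeHypothesis A M (supportR M) := by
  haveI hsimple : IsSimpleGroup G := hG.2.1
  have h0 := dade_typeA0 hG hM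
  have hAA0 : typeA M ⊆ typeA0 M := fun a ha => mem_typeA0_iff.mpr (Or.inl ha)
  have hA1A := typeA1_subset_typeA hG hM
  obtain ⟨x, hx1, hxA1, hxA⟩ := exists_mem_typeA1_typeA hG hM
  have key : ∀ B : Set G, B ⊆ typeA0 M → (∀ m ∈ M, ∀ a ∈ B, m * a * m⁻¹ ∈ B) → x ∈ B →
      normalizer B = M ∧ DadeHypothesis B M (supportR M) := by
    intro B hB hinv hxB
    have hD := dade_subset h0 hB hinv
    refine ⟨le_antisymm ?_ (Cfsg.Agent.Lib.Helper64.BG1538.le_normalizer_set hinv), hD⟩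
    exact Cfsg.Agent.Lib.Helper64.BG1538.normalizer_set_le hM hD.subset ⟨x, hxB, hx1⟩
      (Cfsg.Agent.Lib.Helper64.BG1538.le_normalizer_set hinv)
  rcases hA with rfl | rfl | rfl
  · exact key _ (hA1A.trans hAA0) (fun m hm a ha => typeA1_conj_mem hm ha) hxA1
  · exact key _ hAA0 (fun m hm a ha => typeA_conj_mem hm ha) hxA
  · exact key _ (le_refl _) (fun m hm a ha => typeA0_conj_mem hG hM hm ha) (hAA0 hxA)

end Cfsg.Agent.Lib.Helper62.BG1537
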