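import Mathlib
import Cfsg.Agent.S1500
import Cfsg.Agent.S1501
import Cfsg.Agent.Lib.Helper25.Dade
import Cfsg.Agent.Lib.Helper25.Coherence
import Cfsg.Agent.Lib.Helper3.CharBasic

/-!
# PF1542 leaf DA1: the Dade map is a linear isometry on `zspanOn S {1}ᶜ`
-/

set_option autoImplicit false
set_option linter.unusedSectionVars false
set_option linter.unusedVariables false

namespace Cfsg.Agent.Lib.Helper62.PF1542

open Subgroup Cfsg

universe u

/-- the Dade map is additive -/
theorem da1_add {G : Type u} [Group G] (A : Set G) (L : Subgroup G) (R : G → Subgroup G)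
    (α β : L → ℂ) :
    dadeIsometry A L R (α + β) = dadeIsometry A L R α + dadeIsometry A L R β := by
  funext g
  unfold dadeIsometry
  by_cases h : ∃ a : ↥L, (a : G) ∈ A ∧ ∃ x : G, ∃ u ∈ R (a : G), x * g * x⁻¹ = (a : G) * u
  · simp only [Pi.add_apply, dif_pos h]
  · simp only [Pi.add_apply, dif_neg h, add_zero]

/-- the Dade map commutes with integer scalars -/
theorem da1_zsmul {G : Type u} [Group G] (A : Set G) (L : Subgroup G) (R : G → Subgroup G)
    (n : ℤ) (α : L → ℂ) :
    dadeIsometry A L R (n • α) = n • dadeIsometry A L R α := by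
  funext g
  unfold dadeIsometry
  by_cases h : ∃ a : ↥L, (a : G) ∈ A ∧ ∃ x : G, ∃ u ∈ R (a : G), x * g * x⁻¹ = (a : G) * u
  · simp only [Pi.smul_apply, dif_pos h]
  · simp only [Pi.smul_apply, dif_neg h, smul_zero]

/-- members of the integer span of a set of irreducible characters are generalized characters and
class functions -/
theorem da1_zspan_props {L : Type u} [Group L] [Fintype L] {S : Set (L → ℂ)}
    (hS : ∀ χ ∈ S, IsIrrCharacter L χ) {f : L → ℂ} (hf : f ∈ zspan S) :
    IsGeneralizedCharacter L f ∧ IsClassFunction L f := by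
  induction hf using Submodule.span_induction with
  | mem x hx =>
    have h1 := Cfsg.Agent.Lib.Helper3.IsIrrCharacter.isCharacter (hS x hx)
    exact ⟨Cfsg.Agent.Lib.Helper25.genChar_of_char h1,
      Cfsg.Agent.Lib.Helper3.IsCharacter.isClassFunction h1⟩
  | zero => exact ⟨Cfsg.Agent.Lib.Helper25.genChar_zero, fun _ _ => rfl⟩
  | add x y _ _ hx hy =>
    refine ⟨Cfsg.Agent.Lib.Helper25.genChar_add hx.1 hy.1, fun g h => ?_⟩
    rw [Pi.add_apply, Pi.add_apply, hx.2, hy.2]
  | smul n x _ hx =>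
    refine ⟨Cfsg.Agent.Lib.Helper25.genChar_zsmul hx.1 n, fun g h => ?_⟩
    rw [Pi.smul_apply, Pi.smul_apply, hx.2]

/-- **LEAF DA1** -/
theorem dade_isometry_on {G : Type u} [Group G] [Fintype G] (A : Set G) (L : Subgroup G)
    [Fintype L] (R : G → Subgroup G) (hD : DadeHypothesis A L R) (S : Set (L → ℂ))
    (hS : ∀ χ ∈ S, IsIrrCharacter L χ)
    (hsupp : ∀ α ∈ zspanOn S ({1}ᶜ : Set L), ∀ x : L, (x : G) ∉ A → α x = 0) :
    IsLinearIsometryOn (zspanOn S ({1}ᶜ : Set L)) (dadeIsometry A L R) ∧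
      ∀ α ∈ zspanOn S ({1}ᶜ : Set L), dadeIsometry A L R α 1 = 0 := by
  refine ⟨⟨?_, ?_, ?_, ?_⟩, ?_⟩
  · intro α _ β _
    exact da1_add A L R α β
  · intro α _ n
    exact da1_zsmul A L R n α
  · intro α hα β hβ
    have hα' := da1_zspan_props hS hα.1
    have hβ' := da1_zspan_props hS hβ.1
    exact (Cfsg.Agent.S1500.result A L R hD α hα'.2 (hsupp α hα)).1 β hβ'.2 (hsupp β hβ)
  · intro α hα
    exact Cfsg.Agent.S1501.result A L R hD α (da1_zspan_props hS hα.1).1 (hsupp α hα)
  · intro α _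
    apply Cfsg.Agent.Lib.Helper25.dadeIsometry_of_not_inDade
    rintro ⟨a, ha, x, v, hv, h⟩
    have h1 : (a : G) * v = 1 := by rw [← h]; group
    have hv' : v = (a : G)⁻¹ := eq_inv_of_mul_eq_one_right h1
    have hmem : v ∈ R (a : G) ⊓ (L ⊓ centralizer ({(a : G)} : Set G)) := by
      refine ⟨hv, ?_, ?_⟩
      · rw [hv']; exact L.inv_mem a.2
      · rw [hv']
        show (a : G)⁻¹ ∈ centralizer ({(a : G)} : Set G)
        rw [mem_centralizer_singleton_iff]; group
    rw [hD.inf_eq_bot (a : G) ha, mem_bot] at hmem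
    rw [hmem, mul_one] at h1
    rw [h1] at ha
    exact hD.one_not_mem ha

end Cfsg.Agent.Lib.Helper62.PF1542
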