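import Mathlib
import Cfsg.Agent.Lib.Helper25.TIFrob
import Cfsg.Agent.Lib.Helper25.Dade

/-!
# PF1542 leaf TI: the Dade map is induction in the TI situation
-/

set_option autoImplicit false
set_option linter.unusedSectionVars false
set_option linter.unusedVariables false

namespace Cfsg.Agent.Lib.Helper62.PF1542

open Subgroup Cfsg

universe u

/-- **LEAF TI** -/
theorem dade_eq_ind_of_ti {G : Type u} [Group G] [Fintype G] (H L : Subgroup G) [Fintype L]
    (R : G → Subgroup G) (hHL : H ≤ L) (hTI : IsTISubset (H : Set G))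
    (hN : Subgroup.normalizer (H : Set G) = L)
    (hD : DadeHypothesis ((H : Set G) \ {1}) L R) (hR : ∀ a ∈ H, a ≠ 1 → R a = ⊥)
    (α : L → ℂ) (hα : IsClassFunction L α)
    (hαA : ∀ x : L, (x : G) ∉ ((H : Set G) \ {1}) → α x = 0) :
    indFun L α = dadeIsometry ((H : Set G) \ {1}) L R α := by
  classical
  funext g
  by_cases hg : Cfsg.Agent.Lib.Helper25.InDade ((H : Set G) \ {1}) L R g
  · obtain ⟨a, ha, x, v, hv, h⟩ := hg
    rw [Cfsg.Agent.Lib.Helper25.dadeIsometry_eq hD α hα a ha x v g hv h]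
    rw [hR (a : G) ha.1 ha.2, mem_bot] at hv
    rw [hv, mul_one] at h
    have hcf := Cfsg.Agent.Lib.Helper25.indFun_isClassFunction L α
    have h1 : indFun L α g = indFun L α (a : G) := by
      rw [← h]
      exact (hcf g x).symm
    rw [h1]
    apply Cfsg.Agent.Lib.Helper25.ti_indFun_apply H L hTI hN α hα
      (fun y hy => hαA y (fun hy' => hy hy'.1)) a ha.1
    intro h0
    apply ha.2
    rw [h0]
    rfl
  · rw [Cfsg.Agent.Lib.Helper25.dadeIsometry_of_not_inDade α g hg]
    rw [Cfsg.Agent.Lib.Helper25.indFun_apply]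
    have hterm : ∀ y : G, extendByZero L α (y⁻¹ * g * y) = 0 := by
      intro y
      by_cases hmem : y⁻¹ * g * y ∈ L
      · rw [Cfsg.Agent.Lib.Helper25.extendByZero_of_mem L α hmem]
        apply hαA
        intro hA
        apply hg
        refine ⟨⟨y⁻¹ * g * y, hmem⟩, hA, y⁻¹, 1, (R _).one_mem, ?_⟩
        simp
      · exact Cfsg.Agent.Lib.Helper25.extendByZero_of_not_mem L α hmem
    rw [Finset.sum_congr rfl (fun y _ => hterm y)]
    simp

end Cfsg.Agent.Lib.Helper62.PF1542
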