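import Mathlib
import Cfsg.Agent.Lib.Helper62.PF1542DA1
import Cfsg.Agent.Lib.Helper62.PF1542TI
import Cfsg.Agent.Lib.Helper9.PF1542EXC
import Cfsg.Agent.Lib.Helper25.RelBridge
import Cfsg.Agent.S1535
import Cfsg.Agent.Lib.Helper62.BG1537c
import Cfsg.Agent.Lib.Helper23.FitUniqueB

/-!
# S1542: a maximal subgroup of Type I which is a Frobenius group has a coherent set of induced
characters (for the Dade map of `A(L)`)

Assembly: S1537 (Dade hypothesis), S1535 (Feit), Sibley (TI case, helper25), and the three leaves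
`dade_isometry_on`, `dade_eq_ind_of_ti`, `exceptional_excluded`.
-/

set_option autoImplicit false
set_option linter.unusedSectionVars false
set_option linter.unusedVariables false
set_option linter.style.haveILetI false

namespace Cfsg.Agent.Lib.Helper62.PF1542

open Subgroup Cfsg

universe u

theorem main {G : Type u} [Group G] [Fintype G] (hG : IsMinSimpleOddOrder G) (L : Subgroup G)
    [Fintype L] (hL : IsCoatom L) (hI : IsOfTypeI L)
    (hfrob : ∀ x ∈ fittingHallOf L, x ≠ 1 →
      L ⊓ centralizer ({x} : Set G) ≤ fittingHallOf L) :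
    (∀ χ ∈ inducedIrrAbove (fittingHall L) ⊥, IsIrrCharacter L χ) ∧
      IsCoherent (inducedIrrAbove (fittingHall L) ⊥) {1}ᶜ
        (dadeIsometry (typeA L) L (supportR L)) := by
  classical
  have hsub : (fittingHallOf L).subgroupOf L = fittingHall ↥L := by
    unfold fittingHallOf
    exact Subgroup.comap_map_eq_self_of_injective (Subgroup.subtype_injective L) _
  have hmem : ∀ x : ↥L, x ∈ fittingHall ↥L ↔ (x : G) ∈ fittingHallOf L := fun x =>
    Cfsg.Agent.Lib.Helper50.BGTypes.mem_fittingHall_iff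
  have hHGL : fittingHallOf L ≤ L := by
    unfold fittingHallOf
    exact Subgroup.map_subtype_le _
  have hH1' : fittingHall ↥L ≠ ⊥ := hI.1.2.2.1
  have hH2' : fittingHall ↥L ≠ ⊤ := hI.1.2.2.2.1
  have hodd : Odd (Nat.card ↥L) := hI.1.2.1
  have hHG1 : fittingHallOf L ≠ ⊥ := (Cfsg.Agent.S1355.result hG L hL).1
  have hHGlt : fittingHallOf L < L := by
    refine lt_of_le_of_ne hHGL (fun h => hH2' ?_)
    rw [eq_top_iff]
    intro x _
    rw [hmem, h]
    exact x.2
  have hnorm := Cfsg.Agent.Lib.Helper64.BG1538.le_normalizer_fittingHallOf L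
  have hHn : ∀ x ∈ L, ∀ h ∈ fittingHallOf L, x * h * x⁻¹ ∈ fittingHallOf L := fun x hx h hh =>
    (mem_normalizer_iff.mp (hnorm hx) h).mp hh
  obtain ⟨hirr, hrel⟩ :=
    Cfsg.Agent.Lib.Helper25.frobC_induced_eq_relevant (fittingHallOf L) L hHGlt hHG1 hHn hfrob
  rw [hsub] at hirr hrel
  refine ⟨hirr, ?_⟩
  -- `A(L) = L_F \ {1}`
  have hA : typeA L = ((fittingHallOf L : Subgroup G) : Set G) \ {1} := by
    unfold typeA
    rw [if_pos hI]
    ext a
    constructor
    · rintro ⟨haL, ha1, x, hx, hx1, hax⟩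
      exact ⟨hfrob x hx hx1 ⟨haL, mem_centralizer_singleton_iff.mpr hax⟩, ha1⟩
    · rintro ⟨ha, ha1⟩
      exact ⟨hHGL ha, ha1, a, ha, ha1, rfl⟩
  have hD : DadeHypothesis (typeA L) L (supportR L) :=
    (Cfsg.Agent.Lib.Helper62.BG1537.main hG hL (Or.inr (Or.inl rfl))).2
  -- support of the integer combinations vanishing at `1`
  have hsupp : ∀ α ∈ zspanOn (inducedIrrAbove (fittingHall ↥L) ⊥) ({1}ᶜ : Set ↥L),
      ∀ x : ↥L, (x : G) ∉ typeA L → α x = 0 := by
    intro α hα x hx
    by_cases hx1 : x = 1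
    · rw [hx1]
      apply hα.2
      simp
    · have hxK : x ∉ fittingHall ↥L := by
        intro hxK
        apply hx
        rw [hA]
        refine ⟨(hmem x).mp hxK, ?_⟩
        intro h
        apply hx1
        exact Subtype.ext h
      exact (Cfsg.Agent.Lib.Helper25.zspan_induced_props (fittingHall ↥L) hα.1).2 x hxK
  obtain ⟨hiso, hiso1⟩ := dade_isometry_on (typeA L) L (supportR L) hD
    (inducedIrrAbove (fittingHall ↥L) ⊥) hirr hsupp
  -- the Frobenius condition inside `↥L`
  have hC : ∀ h ∈ fittingHall ↥L, h ≠ 1 → centralizer ({h} : Set ↥L) ≤ fittingHall ↥L := by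
    intro h hh hh1 c hc
    rw [mem_centralizer_singleton_iff] at hc
    rw [hmem]
    apply hfrob (h : G) ((hmem h).mp hh) (fun h0 => hh1 (Subtype.ext h0))
    refine ⟨c.2, ?_⟩
    show (c : G) ∈ centralizer ({(h : G)} : Set G)
    rw [mem_centralizer_singleton_iff]
    have := congrArg (Subtype.val) hc
    simpa using this
  -- the relevant set in the form of S1535
  have hrel' : inducedIrrAbove (fittingHall ↥L) ⊥ =
      {χ : ↥L → ℂ | IsIrrCharacter ↥L χ ∧ ∃ h ∈ fittingHall ↥L, χ h ≠ χ 1} := by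
    rw [hrel]
    ext χ
    constructor
    · rintro ⟨h1, x, hx, hne⟩
      exact ⟨h1, x, (hmem x).mpr hx, hne⟩
    · rintro ⟨h1, x, hx, hne⟩
      exact ⟨h1, x, (hmem x).mp hx, hne⟩
  have he : Nat.card (fittingHall ↥L) ≠ (fittingHall ↥L).index + 1 := by
    have h1 : Odd (Nat.card (fittingHall ↥L)) :=
      Odd.of_dvd_nat hodd (Subgroup.card_subgroup_dvd_card _)
    have h2 : Odd ((fittingHall ↥L).index) :=
      Odd.of_dvd_nat hodd (Subgroup.index_dvd_card _)
    intro h
    rw [h] at h1
    exact (Nat.not_odd_iff_even.mpr (Odd.add_one h2)) h1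
  have h35 := Cfsg.Agent.S1535.result (N := ↥L) (G := G) (fittingHall ↥L) hH1' hH2' hC he
    (dadeIsometry (typeA L) L (supportR L)) (hrel' ▸ hiso) (hrel' ▸ hiso1)
  rcases h35 with hcoh | ⟨p, hp, ⟨m, hm⟩, hna, hle⟩
  · rw [hrel']
    exact hcoh
  · rcases hI.2 with hTI | ⟨hab, _, _⟩ | ⟨hexp, _⟩
    · -- `L_F` is a TI-subset: Sibley
      have hN : normalizer ((fittingHallOf L : Subgroup G) : Set G) = L :=
        Cfsg.Agent.Lib.Helper23.normalizer_eq_of_isCoatom hG hL hHG1 hHGL hnorm
      have hsib := Cfsg.Agent.Lib.Helper25.sibley_of_centralizer (fittingHallOf L) L hodd hHGlt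
        hHG1 hHn hfrob hTI hN
      rw [hsub] at hsib
      have hR : ∀ a ∈ fittingHallOf L, a ≠ 1 → supportR L a = ⊥ := by
        intro a ha ha1
        apply Cfsg.Agent.Lib.Helper62.BG1537.supportR_eq_bot
        intro c hc
        rw [mem_centralizer_singleton_iff] at hc
        by_contra hcL
        apply ha1
        apply hTI c (by rw [hN]; exact hcL) a ha
        have : c * a * c⁻¹ = a := by rw [hc]; group
        rw [this]
        exact ha
      obtain ⟨hne, τ₁, hτ₁, hag⟩ := hsib
      refine ⟨hne, τ₁, hτ₁, fun α hα => ?_⟩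
      rw [hag α hα]
      have hcf := (Cfsg.Agent.Lib.Helper25.zspan_induced_props (fittingHall ↥L) hα.1).1
      have hD' : DadeHypothesis (((fittingHallOf L : Subgroup G) : Set G) \ {1}) L (supportR L) := by
        rw [← hA]; exact hD
      have hαA : ∀ x : ↥L, (x : G) ∉ (((fittingHallOf L : Subgroup G) : Set G) \ {1}) → α x = 0 := by
        intro x hx
        apply hsupp α hα x
        rw [hA]
        exact hx
      have := dade_eq_ind_of_ti (fittingHallOf L) L (supportR L) hHGL hTI hN hD' hR α hcf hαA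
      show indFun L α = _
      rw [this, hA]
    · -- `L_F` abelian: not the exceptional case
      exfalso
      apply hna
      refine ⟨⟨fun a b => ?_⟩⟩
      have h1 : (⟨((a : ↥L) : G), (hmem a).mp a.2⟩ : ↥(fittingHallOf L)) *
          ⟨((b : ↥L) : G), (hmem b).mp b.2⟩ =
          ⟨((b : ↥L) : G), (hmem b).mp b.2⟩ * ⟨((a : ↥L) : G), (hmem a).mp a.2⟩ :=
        hab.is_comm.comm _ _
      have h2 : ((a : ↥L) : G) * ((b : ↥L) : G) = ((b : ↥L) : G) * ((a : ↥L) : G) :=
        congrArg Subtype.val h1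
      apply Subtype.ext
      apply Subtype.ext
      simpa using h2
    · -- the third alternative: the exceptional case is numerically impossible
      exfalso
      have hm0 : m ≠ 0 := by
        rintro rfl
        rw [pow_zero] at hm
        exact hH1' (Subgroup.card_eq_one.mp hm)
      have hpd : p ∣ Nat.card (fittingHallOf L) := by
        rw [Cfsg.Agent.Lib.Helper23.card_fittingHallOf, hm]
        exact dvd_pow_self p hm0
      have := exceptional_excluded (N := ↥L) (fittingHall ↥L) hodd hH2' hC p hp ⟨m, hm⟩ hna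
        (hexp p hp hpd)
      exact absurd hle (not_le.mpr this)

end Cfsg.Agent.Lib.Helper62.PF1542
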