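import Mathlib
import Cfsg.Prelude.Def_Local
import Cfsg.Prelude.Def_LocalEven
import Cfsg.Agent.Lib.Helper63.HHAbelian
import Cfsg.Agent.Lib.Helper35.DualHH
import Cfsg.Agent.Lib.Helper55.Cores
import Cfsg.Agent.Lib.Helper2.PGroup

/-!
# Quadratic action with a fixed cyclic commutator

Abstract lemmas for the theorem that a cyclic normal subgroup of a Sylow `p`-subgroup of a
`p`-solvable group lies in `O_{p',p}` (`p` odd, or no section `S₄`).

`Γ` acts faithfully on an abelian group `V` of exponent `p`; `x ∈ Γ` has order `p`, fixes `u ∈ V`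
and `ρ x v ∈ ⟨u⟩ v` for all `v`.
-/

set_option autoImplicit false

namespace Cfsg.Agent.Lib.Helper62.QuadCyc

open Cfsg Cfsg.Agent.Lib.Helper76 Cfsg.Agent.Lib.Helper55 Cfsg.Agent.Lib.Helper63.Frob

open scoped IsMulCommutative commutatorElement

section basic

variable {Γ V : Type*} [Group Γ] [Group V] [IsMulCommutative V]

theorem rho_pow_apply (ρ : Γ →* MulAut V) (x : Γ) (u : V) (hxu : ρ x u = u) (v : V) (j : ℕ)
    (hv : ρ x v = u ^ j * v) (i : ℕ) : ρ (x ^ i) v = u ^ (i * j) * v := by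
  induction i with
  | zero => simp
  | succ i ih =>
    rw [pow_succ', map_mul, MulAut.mul_apply, ih, map_mul, map_pow, hxu, hv, ← mul_assoc,
      ← pow_add]
    congr 2
    ring

theorem nrm_eq_one {p : ℕ} [hp : Fact p.Prime] (hp2 : p ≠ 2) (ρ : Γ →* MulAut V) (x : Γ) (u : V)
    (hxu : ρ x u = u) (hq : ∀ v, ∃ j : ℕ, ρ x v = u ^ j * v) (hVp : ∀ v : V, v ^ p = 1) (v : V) :
    nrm ρ x p v = 1 := by
  obtain ⟨j, hj⟩ := hq v
  unfold nrm
  have h1 : ∀ i ∈ Finset.range p, ρ (x ^ i) v = u ^ (i * j) * v :=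
    fun i _ => rho_pow_apply ρ x u hxu v j hj i
  rw [Finset.prod_congr rfl h1, Finset.prod_mul_distrib, Finset.prod_const, Finset.card_range, hVp,
    mul_one, Finset.prod_pow_eq_pow_sum, ← Finset.sum_mul]
  obtain ⟨m, hm⟩ := hp.out.odd_of_ne_two hp2
  have h2 : p - 1 = 2 * m := by omega
  have hs : (∑ i ∈ Finset.range p, i) = p * m := by
    have h3 := Finset.sum_range_id_mul_two p
    rw [h2] at h3
    have h4 : (∑ i ∈ Finset.range p, i) * 2 = (p * m) * 2 := by rw [h3]; ring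
    exact Nat.eq_of_mul_eq_mul_right (by norm_num) h4
  rw [hs, mul_assoc, pow_mul, hVp, one_pow]

/-- the coprime trick: if `z` fixes `w = z v / v` then `w = 1` -/
theorem fix_comm_eq_one [Finite V] (ρ : Γ →* MulAut V) (z : Γ) (m : ℕ) (hz : z ^ m = 1)
    (hm : m.Coprime (Nat.card V)) (v : V) (hw : ρ z (ρ z v * v⁻¹) = ρ z v * v⁻¹) :
    ρ z v = v := by
  set w := ρ z v * v⁻¹ with hwdef
  have hv : ρ z v = w * v := by rw [hwdef]; group
  have hk : ∀ k : ℕ, ρ (z ^ k) v = w ^ k * v := by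
    intro k
    induction k with
    | zero => simp
    | succ k ih =>
      rw [pow_succ', map_mul, MulAut.mul_apply, ih, map_mul, map_pow, hw, hv, ← mul_assoc,
        ← pow_succ]
  have h1 := hk m
  rw [hz, map_one, MulAut.one_apply] at h1
  have h2 : w ^ m = 1 := by
    have := congrArg (· * v⁻¹) h1
    simp only [mul_inv_cancel, mul_inv_cancel_right] at this
    exact this.symm
  have h3 : orderOf w ∣ m := orderOf_dvd_of_pow_eq_one h2
  have h4 : orderOf w ∣ Nat.card V := orderOf_dvd_natCard w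
  have h5 : orderOf w = 1 := Nat.eq_one_of_dvd_coprimes hm h3 h4
  rw [hv, orderOf_eq_one_iff.1 h5, one_mul]

end basic

section groupside

variable {Γ : Type*} [Group Γ] [Finite Γ]

omit [Finite Γ] in
theorem conj_pow_mem (S : Subgroup Γ) (x : Γ) (h : x ∈ Subgroup.normalizer (S : Set Γ)) (k : ℕ) :
    ∀ s ∈ S, x ^ k * s * (x ^ k)⁻¹ ∈ S := by
  intro s hs
  exact (Subgroup.mem_normalizer_iff.1 (Subgroup.pow_mem _ h k) s).1 hs

omit [Finite Γ] in
theorem conj_inv_mem (S : Subgroup Γ) (x : Γ) (h : x ∈ Subgroup.normalizer (S : Set Γ)) :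
    ∀ s ∈ S, x⁻¹ * s * x ∈ S := by
  intro s hs
  have := (Subgroup.mem_normalizer_iff.1 (Subgroup.inv_mem _ h) s).1 hs
  simpa using this

/-- an `x`-invariant Sylow subgroup of `O_{p'}(Γ)` not centralized by `x` -/
theorem exists_inv_qsub {p : ℕ} [hp : Fact p.Prime] (hsol : IsPSolvable p Γ) (hO : pCore p Γ = ⊥)
    (x : Γ) (hx1 : x ≠ 1) (hxp : x ^ p = 1) :
    ∃ (q : ℕ) (_ : Fact q.Prime) (R : Subgroup Γ), IsPGroup q R ∧ (Nat.card R).Coprime p ∧
      x ∈ Subgroup.normalizer (R : Set Γ) ∧ ¬ R ≤ Subgroup.centralizer ({x} : Set Γ) := by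
  have hQn : (pPrimeCore p Γ).Normal := pPrimeCore_normal' p
  set Q := pPrimeCore p Γ with hQ
  have hQcop : (Nat.card Q).Coprime p := pPrimeCore_card_coprime p
  have hdual := Cfsg.Agent.Lib.Helper63.HH.centralizer_pPrimeCore_le hsol hO
  have hxQ : x ∉ Q := by
    intro hxQ
    have h1 : orderOf x ∣ Nat.card Q := by
      have := orderOf_dvd_natCard (⟨x, hxQ⟩ : Q)
      rwa [Subgroup.orderOf_mk] at this
    have h2 : orderOf x ∣ p := orderOf_dvd_of_pow_eq_one hxp
    have h3 : orderOf x = 1 := Nat.eq_one_of_dvd_coprimes hQcop h1 h2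
    exact hx1 (orderOf_eq_one_iff.1 h3)
  have hxcen : x ∉ Subgroup.centralizer (Q : Set Γ) := fun h => hxQ (hdual h)
  set X := Subgroup.zpowers x with hX
  have hXcard : Nat.card X ∣ p := by
    rw [Nat.card_zpowers]; exact orderOf_dvd_of_pow_eq_one hxp
  have hXQ : X ≤ Subgroup.normalizer (Q : Set Γ) := by
    rw [Subgroup.normalizer_eq_top]; exact le_top
  have hXcop : (Nat.card X).Coprime (Nat.card Q) :=
    Nat.Coprime.coprime_dvd_left hXcard hQcop.symm
  have hXsolv : Group.IsSolvable X := by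
    have : IsMulCommutative X := inferInstance
    infer_instance
  by_contra hcon
  push Not at hcon
  apply hxcen
  have hdvd : Nat.card Q ∣ Nat.card ↥(Q ⊓ Subgroup.centralizer ({x} : Set Γ)) := by
    rw [← Nat.factorization_prime_le_iff_dvd Nat.card_pos.ne' Nat.card_pos.ne']
    intro q hq
    have : Fact q.Prime := ⟨hq⟩
    obtain ⟨P, hP⟩ := Cfsg.Agent.Lib.Helper24.exists_invariant_sylow (p := q) X Q hXQ hXcop
      (Or.inl hXsolv)
    have hPQ : (P : Subgroup Q).map Q.subtype ≤ Q := Subgroup.map_subtype_le _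
    have hPcop : (Nat.card ((P : Subgroup Q).map Q.subtype)).Coprime p :=
      Nat.Coprime.coprime_dvd_left (Subgroup.card_dvd_of_le hPQ) hQcop
    have hle : (P : Subgroup Q).map Q.subtype ≤ Q ⊓ Subgroup.centralizer ({x} : Set Γ) :=
      le_inf hPQ (hcon q this _ (P.2.map Q.subtype) hPcop (hP (Subgroup.mem_zpowers x)))
    have hc : Nat.card ((P : Subgroup Q).map Q.subtype) = q ^ (Nat.card Q).factorization q := by
      rw [Subgroup.card_map_of_injective Q.subtype_injective]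
      exact Sylow.card_eq_multiplicity P
    have h1 := Subgroup.card_dvd_of_le hle
    rw [hc] at h1
    exact (hq.pow_dvd_iff_le_factorization Nat.card_pos.ne').1 h1
  have heq : Q ⊓ Subgroup.centralizer ({x} : Set Γ) = Q :=
    Subgroup.eq_of_le_of_card_ge inf_le_left (Nat.le_of_dvd Nat.card_pos hdvd)
  rw [Subgroup.mem_centralizer_iff]
  intro c hc
  have : c ∈ Q ⊓ Subgroup.centralizer ({x} : Set Γ) := by rw [heq]; exact hc
  exact Subgroup.mem_centralizer_singleton_iff.1 this.2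

/-- a minimal invariant non-centralized subgroup -/
theorem exists_minimal_sub (R : Subgroup Γ) (x : Γ) (hxR : x ∈ Subgroup.normalizer (R : Set Γ))
    (hR : ¬ R ≤ Subgroup.centralizer ({x} : Set Γ)) :
    ∃ N : Subgroup Γ, N ≤ R ∧ x ∈ Subgroup.normalizer (N : Set Γ) ∧
      ¬ N ≤ Subgroup.centralizer ({x} : Set Γ) ∧
      ∀ S : Subgroup Γ, S ≤ N → x ∈ Subgroup.normalizer (S : Set Γ) → S ≠ N →
        S ≤ Subgroup.centralizer ({x} : Set Γ) := by
  set F : Set (Subgroup Γ) := {S | S ≤ R ∧ x ∈ Subgroup.normalizer (S : Set Γ) ∧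
    ¬ S ≤ Subgroup.centralizer ({x} : Set Γ)} with hF
  have hne : F.Nonempty := ⟨R, le_rfl, hxR, hR⟩
  set N := Function.argminOn (fun S : Subgroup Γ => Nat.card S) F hne with hN
  have hNF : N ∈ F := Function.argminOn_mem _ _ hne
  refine ⟨N, hNF.1, hNF.2.1, hNF.2.2, ?_⟩
  intro S hSN hxS hne' 
  by_contra hcon
  have hSF : S ∈ F := ⟨hSN.trans hNF.1, hxS, hcon⟩
  have hle : Nat.card N ≤ Nat.card S := Function.argminOn_le (fun S : Subgroup Γ => Nat.card S) F hSF
  exact hne' (Subgroup.eq_of_le_of_card_ge hSN hle)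

omit [Finite Γ] in
/-- the commutator trick -/
theorem comm_trick {p : ℕ} (x n : Γ) (hxp : x ^ p = 1) (m : ℕ) (hm : m.Coprime p)
    (hc : (n * x * n⁻¹ * x⁻¹) ^ m = 1)
    (hcomm : (n * x * n⁻¹ * x⁻¹) * x = x * (n * x * n⁻¹ * x⁻¹)) : n * x * n⁻¹ = x := by
  set c := n * x * n⁻¹ * x⁻¹ with hcdef
  have hb : n * x * n⁻¹ = c * x := by rw [hcdef]; group
  have h1 : (c * x) ^ p = 1 := by
    rw [← hb]
    have : (n * x * n⁻¹) ^ p = n * x ^ p * n⁻¹ := by
      have := map_pow (MulAut.conj n) x p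
      simpa [MulAut.conj_apply] using this
    rw [this, hxp]; group
  have h2 : (c * x) ^ p = c ^ p * x ^ p := (Commute.mul_pow hcomm p)
  rw [h2, hxp, mul_one] at h1
  have h3 : orderOf c ∣ p := orderOf_dvd_of_pow_eq_one h1
  have h4 : orderOf c ∣ m := orderOf_dvd_of_pow_eq_one hc
  have h5 : orderOf c = 1 := Nat.eq_one_of_dvd_coprimes hm h4 h3
  rw [hb, orderOf_eq_one_iff.1 h5, one_mul]

end groupside

section core

variable {Γ V : Type*} [Group Γ] [Finite Γ] [Group V] [IsMulCommutative V] [Finite V]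

omit [Finite Γ] in
theorem conj_mem_zsub (N : Subgroup Γ) (y : Γ) (hy : y ∈ Subgroup.normalizer (N : Set Γ)) :
    ∀ h ∈ N ⊓ Subgroup.centralizer (N : Set Γ),
      y * h * y⁻¹ ∈ N ⊓ Subgroup.centralizer (N : Set Γ) := by
  intro h hh
  refine ⟨(Subgroup.mem_normalizer_iff.1 hy h).1 hh.1, ?_⟩
  show y * h * y⁻¹ ∈ Subgroup.centralizer (N : Set Γ)
  rw [Subgroup.mem_centralizer_iff]
  intro n hn
  have hn' : y⁻¹ * n * y ∈ N := conj_inv_mem N y hy n hn
  have h1 := (Subgroup.mem_centralizer_iff.1 hh.2) _ hn'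
  calc n * (y * h * y⁻¹) = y * ((y⁻¹ * n * y) * h) * y⁻¹ := by group
    _ = y * (h * (y⁻¹ * n * y)) * y⁻¹ := by rw [h1]
    _ = y * h * y⁻¹ * n := by group

omit [Finite Γ] in
theorem mem_normalizer_zsub (N : Subgroup Γ) (x : Γ) (hx : x ∈ Subgroup.normalizer (N : Set Γ)) :
    x ∈ Subgroup.normalizer ((N ⊓ Subgroup.centralizer (N : Set Γ) : Subgroup Γ) : Set Γ) := by
  rw [Subgroup.mem_normalizer_iff]
  intro h
  constructor
  · exact conj_mem_zsub N x hx h
  · intro hh
    have := conj_mem_zsub N x⁻¹ (Subgroup.inv_mem _ hx) _ hh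
    have e : x⁻¹ * (x * h * x⁻¹) * x⁻¹⁻¹ = h := by group
    rwa [e] at this

/-- the pointwise fixer of the elements `ρ z v / v`, `z ∈ Z` -/
def fixer (ρ : Γ →* MulAut V) (Z : Subgroup Γ) : Subgroup Γ where
  carrier := {g | ∀ z ∈ Z, ∀ v : V, ρ g (ρ z v * v⁻¹) = ρ z v * v⁻¹}
  one_mem' := by
    intro z _ v
    rw [map_one]; rfl
  mul_mem' := by
    intro a b ha hb z hz v
    rw [show ρ (a * b) = ρ a * ρ b from map_mul ρ a b, MulAut.mul_apply, hb z hz v, ha z hz v]
  inv_mem' := by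
    intro a ha z hz v
    have h1 := ha z hz v
    have h2 : ρ a⁻¹ (ρ a (ρ z v * v⁻¹)) = ρ z v * v⁻¹ := by
      rw [← MulAut.mul_apply, ← map_mul, inv_mul_cancel, map_one]; rfl
    rw [h1] at h2
    exact h2

omit [Finite Γ] [Finite V] in
theorem mem_fixer (ρ : Γ →* MulAut V) (Z : Subgroup Γ) (g : Γ) :
    g ∈ fixer ρ Z ↔ ∀ z ∈ Z, ∀ v : V, ρ g (ρ z v * v⁻¹) = ρ z v * v⁻¹ := Iff.rfl

theorem exists_central_moving {p : ℕ} [hp : Fact p.Prime] (hp2 : p ≠ 2)
    (hsol : IsPSolvable p Γ) (hO : pCore p Γ = ⊥)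
    (ρ : Γ →* MulAut V) (hρ : Function.Injective ρ) (hVp : ∀ v : V, v ^ p = 1)
    (x : Γ) (hx1 : x ≠ 1) (hxp : x ^ p = 1) (u : V) (hxu : ρ x u = u)
    (hq : ∀ v, ∃ j : ℕ, ρ x v = u ^ j * v) :
    ∃ z : Γ, z * x = x * z ∧ ρ z u ≠ u := by
  classical
  obtain ⟨q, hqf, R, hRq, hRcop, hxR, hRc⟩ := exists_inv_qsub hsol hO x hx1 hxp
  obtain ⟨N, hNR, hxN, hNc, hmin⟩ := exists_minimal_sub R x hxR hRc
  have hNq : IsPGroup q N := hRq.to_le hNR
  have hNcop : (Nat.card N).Coprime p :=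
    Nat.Coprime.coprime_dvd_left (Subgroup.card_dvd_of_le hNR) hRcop
  have hVpg : IsPGroup p V := fun v => ⟨1, by rw [pow_one]; exact hVp v⟩
  obtain ⟨k, hk⟩ := IsPGroup.iff_card.1 hVpg
  have hNV : (Nat.card N).Coprime (Nat.card V) := by
    rw [hk]; exact Nat.Coprime.pow_right k hNcop
  have hNne : N ≠ ⊥ := by
    intro h; apply hNc; rw [h]; exact bot_le
  -- faithful action
  have hfaith : ∀ b : Γ, (∀ v : V, ρ b v = v) → b = 1 := by
    intro b hb
    apply hρ
    rw [map_one]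
    exact MulEquiv.ext hb
  by_contra hcon
  push Not at hcon
  set X := Subgroup.zpowers x with hX
  have hXN : X ≤ Subgroup.normalizer (N : Set Γ) := by
    rw [hX, Subgroup.zpowers_le]; exact hxN
  by_cases hab : N ≤ Subgroup.centralizer (N : Set Γ)
  · -- the abelian case: Frobenius trick
    haveI : IsMulCommutative N := ⟨⟨fun a b => by
      apply Subtype.ext
      have := (Subgroup.mem_centralizer_iff.1 (hab b.2)) a a.2
      exact this⟩⟩
    have hXcard : Nat.card X ∣ p := by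
      rw [Nat.card_zpowers]; exact orderOf_dvd_of_pow_eq_one hxp
    have hXcop : (Nat.card X).Coprime (Nat.card N) :=
      Nat.Coprime.coprime_dvd_left hXcard hNcop.symm
    have hbot := Cfsg.Agent.Lib.Helper24.commutator_inf_centralizer_eq_bot_of_abelian N X hXN hXcop
    have hBN : ⁅N, X⁆ ≤ N := Cfsg.Agent.Lib.Helper24.commutator_le_of_le_normalizer N X hXN
    have hxB : x ∈ Subgroup.normalizer ((⁅N, X⁆ : Subgroup Γ) : Set Γ) :=
      Cfsg.Agent.Lib.Helper24.le_normalizer_commutator_right N X hXN (Subgroup.mem_zpowers x)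
    have hcenX : ∀ b : Γ, b ∈ Subgroup.centralizer ({x} : Set Γ) →
        b ∈ Subgroup.centralizer (X : Set Γ) := by
      intro b hb
      rw [Subgroup.mem_centralizer_iff]
      intro y hy
      obtain ⟨i, rfl⟩ := Subgroup.mem_zpowers_iff.1 hy
      have hc : Commute b x := Subgroup.mem_centralizer_singleton_iff.1 hb
      exact (hc.symm.zpow_left i).eq
    have hBeq : ⁅N, X⁆ = N := by
      by_contra hne
      have h1 := hmin _ hBN hxB hne
      have h2 : ⁅N, X⁆ ≤ ⁅N, X⁆ ⊓ Subgroup.centralizer (X : Set Γ) :=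
        le_inf le_rfl (fun b hb => hcenX b (h1 hb))
      rw [hbot, le_bot_iff, Subgroup.commutator_eq_bot_iff_le_centralizer] at h2
      apply hNc
      intro n hn
      have := Subgroup.mem_centralizer_iff.1 (h2 hn) x (Subgroup.mem_zpowers x)
      exact Subgroup.mem_centralizer_singleton_iff.2 this.symm
    have hfpf0 : ∀ b ∈ N, Commute b x → b = 1 := by
      intro b hb hc
      have : b ∈ ⁅N, X⁆ ⊓ Subgroup.centralizer (X : Set Γ) := by
        refine ⟨by rw [hBeq]; exact hb, hcenX b ?_⟩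
        exact Subgroup.mem_centralizer_singleton_iff.2 hc.eq
      rw [hbot, Subgroup.mem_bot] at this
      exact this
    have hxp' : x ^ p ^ (0 + 1) = 1 := by simpa using hxp
    have hfpf : ∀ j, 0 < j → j < p → ∀ b ∈ N, x ^ j * b * (x ^ j)⁻¹ = b → b = 1 := by
      intro j hj0 hj b hb h
      apply hfpf0 b hb
      have h2 : Commute b (x ^ j) := by
        have h3 := congrArg (· * x ^ j) h
        simp only [inv_mul_cancel_right] at h3
        exact h3.symm
      have := Cfsg.Agent.Lib.Helper63.HH.commute_pow_of_commute hp.out hxp' hj0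
        (by simpa using hj) h2
      simpa using this
    have hnt : ∃ b ∈ N, ∃ v : V, ρ b v ≠ v := by
      obtain ⟨⟨b, hb⟩, hne⟩ := (Subgroup.ne_bot_iff_exists_ne_one).1 hNne
      have hb1 : b ≠ 1 := fun h => hne (Subtype.ext h)
      by_contra hno
      push Not at hno
      exact hb1 (hfaith b (hno b hb))
    obtain ⟨v, hv⟩ := frob_trick ρ N x p hp.out.pos
      (fun b hb => (Subgroup.mem_normalizer_iff.1 hxN b).1 hb) hfpf hNV hnt
    exact hv (nrm_eq_one hp2 ρ x u hxu hq hVp v)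
  · -- the nonabelian case
    set Z := N ⊓ Subgroup.centralizer (N : Set Γ) with hZ
    have hZN : Z ≤ N := inf_le_left
    have hZne : Z ≠ N := by
      intro h
      apply hab
      intro n hn
      have : n ∈ Z := by rw [h]; exact hn
      exact this.2
    have hxZ : x ∈ Subgroup.normalizer (Z : Set Γ) := mem_normalizer_zsub N x hxN
    have hZx : Z ≤ Subgroup.centralizer ({x} : Set Γ) := hmin Z hZN hxZ hZne
    -- `Z` is nontrivial
    have hZnt : ∃ z ∈ Z, z ≠ 1 := by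
      haveI : Nontrivial N := by
        rw [Subgroup.nontrivial_iff_ne_bot]; exact hNne
      haveI := hNq.center_nontrivial
      obtain ⟨c, hc⟩ := exists_ne (1 : Subgroup.center N)
      refine ⟨((c : N) : Γ), ⟨(c : N).2, ?_⟩, ?_⟩
      · show ((c : N) : Γ) ∈ Subgroup.centralizer (N : Set Γ)
        rw [Subgroup.mem_centralizer_iff]
        intro n hn
        have := (Subgroup.mem_center_iff.1 c.2) ⟨n, hn⟩
        exact congrArg Subtype.val this
      · intro h
        apply hc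
        apply Subtype.ext
        apply Subtype.ext
        exact h
    -- commutation of Z with x
    have hzx : ∀ z ∈ Z, z * x = x * z := by
      intro z hz
      exact Subgroup.mem_centralizer_singleton_iff.1 (hZx hz)
    -- `x` lies in the fixer
    have hxF : x ∈ fixer ρ Z := by
      intro z hz v
      obtain ⟨j, hj⟩ := hq v
      have h1 : ρ x (ρ z v) = ρ z (ρ x v) := by
        have h0 : ρ x * ρ z = ρ z * ρ x := by rw [← map_mul, ← map_mul, hzx z hz]
        calc ρ x (ρ z v) = (ρ x * ρ z) v := rfl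
          _ = (ρ z * ρ x) v := by rw [h0]
          _ = ρ z (ρ x v) := rfl
      rw [map_mul, map_inv, h1, hj, map_mul, map_pow, hcon z (hzx z hz)]
      rw [mul_inv_rev, mul_comm v⁻¹ (u ^ j)⁻¹, mul_comm (u ^ j) (ρ z v), mul_assoc,
        mul_inv_cancel_left]
    -- conjugates of `x` by `N` lie in the fixer
    have hconjF : ∀ n ∈ N, n * x * n⁻¹ ∈ fixer ρ Z := by
      intro n hn z hz v
      have h1 : ∀ m ∈ N, ρ m (ρ z v * v⁻¹) = ρ z (ρ m v) * (ρ m v)⁻¹ := by
        intro m hm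
        have hmz : m * z = z * m := (Subgroup.mem_centralizer_iff.1 hz.2) _ hm
        have h00 : ρ m * ρ z = ρ z * ρ m := by rw [← map_mul, ← map_mul, hmz]
        have h0 : ρ m (ρ z v) = ρ z (ρ m v) := by
          calc ρ m (ρ z v) = (ρ m * ρ z) v := rfl
            _ = (ρ z * ρ m) v := by rw [h00]
            _ = ρ z (ρ m v) := rfl
        rw [map_mul (ρ m), map_inv (ρ m), h0]
      obtain ⟨m, hm, hmn⟩ : ∃ m ∈ N, m = n⁻¹ := ⟨n⁻¹, N.inv_mem hn, rfl⟩
      have e : ρ (n * x * n⁻¹) = ρ n * ρ x * ρ m := by rw [map_mul, map_mul, hmn]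
      rw [e, MulAut.mul_apply, MulAut.mul_apply, h1 m hm, hxF z hz, ← h1 m hm, ← MulAut.mul_apply,
        ← map_mul, hmn, mul_inv_cancel, map_one]
      rfl
    set F := N ⊓ fixer ρ Z with hF
    have hxFn : x ∈ Subgroup.normalizer (F : Set Γ) := by
      rw [Subgroup.mem_normalizer_iff]
      intro h
      rw [hF, Subgroup.mem_inf, Subgroup.mem_inf]
      exact and_congr (Subgroup.mem_normalizer_iff.1 hxN h)
        (Subgroup.mem_normalizer_iff.1 (Subgroup.le_normalizer hxF) h)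
    by_cases hFN : F = N
    · -- `N` fixes; so `Z` acts trivially
      obtain ⟨z, hz, hz1⟩ := hZnt
      apply hz1
      apply hfaith
      intro v
      have hzF : z ∈ fixer ρ Z := by
        have : z ∈ F := by rw [hFN]; exact hZN hz
        exact this.2
      have hzN : z ^ Nat.card N = 1 := by
        have := pow_card_eq_one' (G := N) (x := ⟨z, hZN hz⟩)
        exact congrArg Subtype.val this
      exact fix_comm_eq_one ρ z (Nat.card N) hzN hNV v (hzF z hz v)
    · have hFx : F ≤ Subgroup.centralizer ({x} : Set Γ) := hmin F inf_le_left hxFn hFN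
      apply hNc
      intro n hn
      have hcN : n * x * n⁻¹ * x⁻¹ ∈ N := by
        have h1 : x * n⁻¹ * x⁻¹ ∈ N := (Subgroup.mem_normalizer_iff.1 hxN _).1 (N.inv_mem hn)
        have e : n * x * n⁻¹ * x⁻¹ = n * (x * n⁻¹ * x⁻¹) := by group
        rw [e]; exact N.mul_mem hn h1
      have hcF : n * x * n⁻¹ * x⁻¹ ∈ F :=
        ⟨hcN, (fixer ρ Z).mul_mem (hconjF n hn) ((fixer ρ Z).inv_mem hxF)⟩
      have hc : Commute (n * x * n⁻¹ * x⁻¹) x :=
        Subgroup.mem_centralizer_singleton_iff.1 (hFx hcF)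
      have hcpow : (n * x * n⁻¹ * x⁻¹) ^ Nat.card N = 1 := by
        have := pow_card_eq_one' (G := N) (x := ⟨_, hcN⟩)
        exact congrArg Subtype.val this
      have := comm_trick x n hxp (Nat.card N) hNcop hcpow hc.eq
      rw [Subgroup.mem_centralizer_singleton_iff]
      have e : n * x = (n * x * n⁻¹) * n := by group
      rw [e, this]

end core

section two

variable {Γ V : Type*} [Group Γ] [Finite Γ] [Group V] [IsMulCommutative V] [Finite V]

omit [Finite Γ] [Finite V] in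
theorem pow_two_cases (hV2 : ∀ v : V, v ^ 2 = 1) (u : V) (j : ℕ) : u ^ j = 1 ∨ u ^ j = u := by
  rcases Nat.even_or_odd' j with ⟨k, hk | hk⟩
  · left; rw [hk, pow_mul, hV2, one_pow]
  · right; rw [hk, pow_succ, pow_mul, hV2, one_pow, one_mul]

/-- the case `p = 2`: a dihedral group of order six -/
theorem exists_order_three [Fact (Nat.Prime 2)] (hsol : IsPSolvable 2 Γ) (hO : pCore 2 Γ = ⊥)
    (ρ : Γ →* MulAut V) (hρ : Function.Injective ρ) (hV2 : ∀ v : V, v ^ 2 = 1)
    (x : Γ) (hx1 : x ≠ 1) (hx2 : x ^ 2 = 1) (u : V) (hxu : ρ x u = u)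
    (hq : ∀ v, ∃ j : ℕ, ρ x v = u ^ j * v) :
    ∃ y : Γ, y ≠ 1 ∧ y ^ 3 = 1 ∧ x * y * x⁻¹ = y⁻¹ := by
  classical
  obtain ⟨n, hnQ, hnx⟩ := Cfsg.Agent.Lib.Helper35.DualHH.exists_not_commute hsol hO x hx1 hx2
  have hQn : (pPrimeCore 2 Γ).Normal := pPrimeCore_normal' 2
  have hQcop : (Nat.card (pPrimeCore 2 Γ)).Coprime 2 := pPrimeCore_card_coprime 2
  have hxx : x * x = 1 := by rw [← pow_two]; exact hx2
  have hxinv : x⁻¹ = x := inv_eq_of_mul_eq_one_left hxx
  set b := n * x * n⁻¹ with hb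
  have hbb : b * b = 1 := by
    rw [hb]
    calc n * x * n⁻¹ * (n * x * n⁻¹) = n * (x * x) * n⁻¹ := by group
      _ = 1 := by rw [hxx]; group
  have hbinv : b⁻¹ = b := inv_eq_of_mul_eq_one_left hbb
  set y := x * b with hy
  have hy1 : y ≠ 1 := by
    intro h
    apply hnx
    have h1 : b = x⁻¹ := (inv_eq_of_mul_eq_one_right h).symm
    rw [h1, hxinv]
  have hxy : x * y * x⁻¹ = y⁻¹ := by
    rw [hy, mul_inv_rev, hbinv, hxinv]
    calc x * (x * b) * x = (x * x) * b * x := by group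
      _ = b * x := by rw [hxx, one_mul]
  have hyQ : y ∈ pPrimeCore 2 Γ := by
    have h1 : x * n * x⁻¹ ∈ pPrimeCore 2 Γ := hQn.conj_mem n hnQ x
    have e : y = (x * n * x⁻¹) * n⁻¹ := by
      rw [hy, hb, hxinv]; group
    rw [e]
    exact Subgroup.mul_mem _ h1 (Subgroup.inv_mem _ hnQ)
  have hyodd : (orderOf y).Coprime 2 := by
    have h1 : orderOf y ∣ Nat.card (pPrimeCore 2 Γ) := by
      have := orderOf_dvd_natCard (⟨y, hyQ⟩ : pPrimeCore 2 Γ)
      rwa [Subgroup.orderOf_mk] at this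
    exact Nat.Coprime.coprime_dvd_left h1 hQcop
  -- the second centre
  set u₂ := ρ n u with hu₂
  have hbu₂ : ρ b u₂ = u₂ := by
    have e : ρ b * ρ n = ρ n * ρ x := by
      rw [← map_mul, ← map_mul, hb]
      congr 1
      group
    calc ρ b u₂ = (ρ b * ρ n) u := rfl
      _ = (ρ n * ρ x) u := by rw [e]
      _ = ρ n (ρ x u) := rfl
      _ = u₂ := by rw [hxu]
  have hbq : ∀ v, ∃ j : ℕ, ρ b v = u₂ ^ j * v := by
    intro v
    obtain ⟨j, hj⟩ := hq (ρ n⁻¹ v)
    refine ⟨j, ?_⟩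
    have e : ρ b = ρ n * ρ x * ρ n⁻¹ := by rw [hb, map_mul, map_mul]
    have e2 : ρ n (ρ n⁻¹ v) = v := by
      calc ρ n (ρ n⁻¹ v) = (ρ n * ρ n⁻¹) v := rfl
        _ = v := by rw [← map_mul, mul_inv_cancel, map_one]; rfl
    rw [e, MulAut.mul_apply, MulAut.mul_apply, hj, map_mul (ρ n), map_pow (ρ n), e2]
  -- exponents mod 2
  obtain ⟨α, hα⟩ := hq u₂
  obtain ⟨β, hβ⟩ := hbq u
  set τ : MulAut V := ρ y with hτ
  have hτe : ∀ v, τ v = ρ x (ρ b v) := by
    intro v
    rw [hτ, hy, map_mul]; rfl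
  have huu : u * u = 1 := by rw [← pow_two]; exact hV2 u
  have hu₂u₂ : u₂ * u₂ = 1 := by rw [← pow_two]; exact hV2 u₂
  -- `τ ^ 6` fixes `u` and `u₂`
  have hτu₂ : τ u₂ = u ^ α * u₂ := by rw [hτe, hbu₂, hα]
  have hτu : τ u = (u ^ α * u₂) ^ β * u := by
    rw [hτe, hβ, map_mul (ρ x), map_pow (ρ x), hα, hxu]
  have h6 : (τ ^ 6) u = u ∧ (τ ^ 6) u₂ = u₂ := by
    have e6 : ∀ w, (τ ^ 6) w = τ (τ (τ (τ (τ (τ w))))) := by
      intro w
      simp only [pow_succ, pow_zero, one_mul, MulAut.mul_apply]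
    rcases pow_two_cases hV2 u α with ha | ha
    · -- α even
      rw [ha, one_mul] at hτu₂ hτu
      have h2 : τ (τ u) = u := by
        rw [hτu, map_mul τ, map_pow τ, hτu₂, hτu, ← mul_assoc, ← pow_add, ← two_mul, pow_mul,
          hV2, one_pow, one_mul]
      refine ⟨?_, ?_⟩
      · rw [e6, h2, h2, h2]
      · rw [e6, hτu₂, hτu₂, hτu₂, hτu₂, hτu₂, hτu₂]
    · rw [ha] at hτu₂ hτu
      rcases pow_two_cases hV2 (u * u₂) β with hb' | hb'
      · rw [hb', one_mul] at hτu
        have h2 : τ (τ u₂) = u₂ := by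
          rw [hτu₂, map_mul τ, hτu, hτu₂, ← mul_assoc, huu, one_mul]
        refine ⟨?_, ?_⟩
        · rw [e6, hτu, hτu, hτu, hτu, hτu, hτu]
        · rw [e6, h2, h2, h2]
      · rw [hb'] at hτu
        have h1 : τ u = u₂ := by
          rw [hτu, mul_comm u u₂, mul_assoc, huu, mul_one]
        have h3 : τ (u * u₂) = u := by
          rw [map_mul τ, h1, hτu₂, mul_comm u u₂, ← mul_assoc, hu₂u₂, one_mul]
        refine ⟨?_, ?_⟩
        · rw [e6, h1, hτu₂, h3, h1, hτu₂, h3]
        · rw [e6, hτu₂, h3, h1, hτu₂, h3, h1]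
  -- the subgroup `W`
  set W : Subgroup V := Subgroup.closure {u, u₂} with hW
  have huW : u ∈ W := Subgroup.subset_closure (by simp)
  have hu₂W : u₂ ∈ W := Subgroup.subset_closure (by simp)
  have hτW : ∀ v, τ v * v⁻¹ ∈ W := by
    intro v
    obtain ⟨j, hj⟩ := hbq v
    obtain ⟨j', hj'⟩ := hq v
    have : τ v * v⁻¹ = (u ^ α * u₂) ^ j * u ^ j' := by
      rw [hτe, hj, map_mul (ρ x), map_pow (ρ x), hα, hj']
      group
    rw [this]
    exact W.mul_mem (W.pow_mem (W.mul_mem (W.pow_mem huW _) hu₂W) _) (W.pow_mem huW _)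
  have hτtW : ∀ t : ℕ, ∀ v, (τ ^ t) v * v⁻¹ ∈ W := by
    intro t
    induction t with
    | zero => intro v; simp
    | succ t ih =>
      intro v
      have e : (τ ^ (t + 1)) v * v⁻¹ = (τ ((τ ^ t) v) * ((τ ^ t) v)⁻¹) * ((τ ^ t) v * v⁻¹) := by
        rw [pow_succ', MulAut.mul_apply]; group
      rw [e]
      exact W.mul_mem (hτW _) (ih v)
  have hfixW : ∀ w ∈ W, (τ ^ 6) w = w := by
    have hle : W ≤ ((τ ^ 6 : MulAut V).toMonoidHom).eqLocus (MonoidHom.id V) := by
      rw [hW, Subgroup.closure_le]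
      intro w hw
      rcases hw with rfl | hw
      · exact h6.1
      · rw [Set.mem_singleton_iff] at hw
        rw [hw]; exact h6.2
    intro w hw
    exact hle hw
  have hVpg : IsPGroup 2 V := fun v => ⟨1, by rw [pow_one]; exact hV2 v⟩
  obtain ⟨k, hk⟩ := IsPGroup.iff_card.1 hVpg
  have hcop : (orderOf y).Coprime (Nat.card V) := by
    rw [hk]; exact Nat.Coprime.pow_right k hyodd
  have hy6 : y ^ 6 = 1 := by
    apply hρ
    rw [map_one]
    apply MulEquiv.ext
    intro v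
    have hρ6 : ρ (y ^ 6) = τ ^ 6 := by rw [map_pow]
    have := fix_comm_eq_one ρ (y ^ 6) (orderOf y)
      (by rw [← pow_mul, mul_comm, pow_mul, pow_orderOf_eq_one, one_pow]) hcop v
      (by rw [hρ6]; exact hfixW _ (hτtW 6 v))
    rw [this]; rfl
  refine ⟨y, hy1, ?_, hxy⟩
  have h1 : orderOf y ∣ 2 * 3 := orderOf_dvd_of_pow_eq_one hy6
  have h2 : orderOf y ∣ 3 := Nat.Coprime.dvd_of_dvd_mul_left hyodd h1
  exact orderOf_dvd_iff_pow_eq_one.1 h2

end two

end Cfsg.Agent.Lib.Helper62.QuadCyc
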