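import Cfsg.Agent.Lib.Helper66.TpDefs
import Cfsg.Agent.Lib.Helper53.SolvPSolv
import Cfsg.Agent.Lib.Helper3.Burnside
import Cfsg.Agent.Lib.Helper55.SolvCore

/-!
# Tp hive (S4017), leaf TP-I3 `no_inverted_in_cent` (helper62)

`L = C(d)` is a solvable `{2,p}`-group containing `Q`.  If `O_2(L) ≠ 1` the TI-property gives `L ≤ N(Q)`.  If `O_2(L) = 1`
then `C_L(O_p(L)) ≤ O_p(L)` (Hall-Higman 1.2.3) and `Q` centralizes the abelian group `O_p(L)`, a contradiction.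
-/

set_option autoImplicit false
set_option linter.style.haveILetI false

namespace Cfsg.Agent.Lib.Helper66.Tp

/-- a natural number all of whose prime divisors are `2` or `p` is `2 ^ i * p ^ j` -/
theorem tpi3_card_form {p n : ℕ} (hn : n ≠ 0)
    (h : ∀ r : ℕ, r.Prime → r ∣ n → r = 2 ∨ r = p) : ∃ i j : ℕ, n = 2 ^ i * p ^ j := by
  have h1 : 2 ^ n.factorization 2 * (n / 2 ^ n.factorization 2) = n := Nat.ordProj_mul_ordCompl_eq_self n 2
  have hm0 : n / 2 ^ n.factorization 2 ≠ 0 := by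
    intro h0
    rw [h0, mul_zero] at h1
    exact hn h1.symm
  have hm := Nat.eq_prime_pow_of_unique_prime_dvd (p := p) hm0 (by
    intro d hd hdm
    have hdn : d ∣ n := hdm.trans (Nat.ordCompl_dvd n 2)
    rcases h d hd hdn with h2 | h2
    · exfalso
      rw [h2] at hdm
      exact Nat.not_dvd_ordCompl Nat.prime_two hn hdm
    · exact h2)
  exact ⟨_, _, by rw [← hm, h1]⟩

theorem tpi3_conj_inv {X : Type*} [Group X] (v x : X) : v * x⁻¹ * v⁻¹ = (v * x * v⁻¹)⁻¹ := by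
  group

/-- the key step: an involution `t` acting on the abelian odd group `O`; if every `t`-fixed element of `O` is `v`-fixed
then `t` inverts every element of `O` that `v` inverts. -/
theorem tpi3_inverts {X : Type*} [Group X] (O : Subgroup X) {v t : X}
    (ht : t * t = 1) (hvt : v * t = t * v)
    (hOab : ∀ a ∈ O, ∀ b ∈ O, a * b = b * a)
    (htO : ∀ a ∈ O, t * a * t⁻¹ ∈ O)
    (hodd : ∀ a ∈ O, a * a = 1 → a = 1)
    (hfix : ∀ n ∈ O, t * n * t⁻¹ = n → v * n * v⁻¹ = n)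
    {m : X} (hm : m ∈ O) (hvm : v * m * v⁻¹ = m⁻¹) : t * m * t⁻¹ = m⁻¹ := by
  have htinv : t⁻¹ = t := inv_eq_of_mul_eq_one_left ht
  have hm' : t * m * t⁻¹ ∈ O := htO m hm
  have hn : m * (t * m * t⁻¹) ∈ O := O.mul_mem hm hm'
  have h1 : t * (m * (t * m * t⁻¹)) * t⁻¹ = m * (t * m * t⁻¹) := by
    calc t * (m * (t * m * t⁻¹)) * t⁻¹ = (t * m * t⁻¹) * ((t * t) * m * (t⁻¹ * t⁻¹)) := by group
      _ = (t * m * t⁻¹) * m := by rw [htinv, ht, one_mul, mul_one]
      _ = m * (t * m * t⁻¹) := hOab _ hm' _ hm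
  have h2 := hfix _ hn h1
  have h3 : v * (m * (t * m * t⁻¹)) * v⁻¹ = (m * (t * m * t⁻¹))⁻¹ := by
    have e : v * (t * m * t⁻¹) * v⁻¹ = t * (v * m * v⁻¹) * t⁻¹ := by
      have hvt' : v⁻¹ * t⁻¹ = t⁻¹ * v⁻¹ := by
        rw [← mul_inv_rev, ← mul_inv_rev, hvt]
      calc v * (t * m * t⁻¹) * v⁻¹ = (v * t) * m * (t⁻¹ * v⁻¹) := by group
        _ = (t * v) * m * (v⁻¹ * t⁻¹) := by rw [hvt, hvt']
        _ = t * (v * m * v⁻¹) * t⁻¹ := by group
    calc v * (m * (t * m * t⁻¹)) * v⁻¹ = (v * m * v⁻¹) * (v * (t * m * t⁻¹) * v⁻¹) := by group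
      _ = m⁻¹ * (t * m⁻¹ * t⁻¹) := by rw [e, hvm]
      _ = m⁻¹ * (t * m * t⁻¹)⁻¹ := by group
      _ = ((t * m * t⁻¹) * m)⁻¹ := by group
      _ = (m * (t * m * t⁻¹))⁻¹ := by rw [hOab _ hm' _ hm]
  have h4 : (m * (t * m * t⁻¹)) * (m * (t * m * t⁻¹)) = 1 := by
    have : m * (t * m * t⁻¹) = (m * (t * m * t⁻¹))⁻¹ := by rw [← h3, h2]
    calc (m * (t * m * t⁻¹)) * (m * (t * m * t⁻¹))
        = (m * (t * m * t⁻¹)) * (m * (t * m * t⁻¹))⁻¹ := by rw [← this]
      _ = 1 := mul_inv_cancel _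
  have h5 := hodd _ hn h4
  exact eq_inv_of_mul_eq_one_right h5

/-- a four-group `⟨v, w⟩` acting on an abelian odd group `O` such that the fixed points of `w` and `v * w` are fixed by
`v`: then `v` centralizes `O`. -/
theorem tpi3_centralizes {X : Type*} [Group X] (O : Subgroup X) {v w : X}
    (hv : v * v = 1) (hw : w * w = 1) (hvw : v * w = w * v)
    (hOab : ∀ a ∈ O, ∀ b ∈ O, a * b = b * a)
    (hvO : ∀ a ∈ O, v * a * v⁻¹ ∈ O) (hwO : ∀ a ∈ O, w * a * w⁻¹ ∈ O)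
    (hodd : ∀ a ∈ O, a * a = 1 → a = 1)
    (hfixw : ∀ n ∈ O, w * n * w⁻¹ = n → v * n * v⁻¹ = n)
    (hfixvw : ∀ n ∈ O, (v * w) * n * (v * w)⁻¹ = n → v * n * v⁻¹ = n)
    {o : X} (ho : o ∈ O) : v * o * v⁻¹ = o := by
  have hvinv : v⁻¹ = v := inv_eq_of_mul_eq_one_left hv
  have hm : o * (v * o * v⁻¹)⁻¹ ∈ O := O.mul_mem ho (O.inv_mem (hvO o ho))
  have hvm : v * (o * (v * o * v⁻¹)⁻¹) * v⁻¹ = (o * (v * o * v⁻¹)⁻¹)⁻¹ := by
    calc v * (o * (v * o * v⁻¹)⁻¹) * v⁻¹ = (v * o * v⁻¹) * ((v * v) * o * (v⁻¹ * v⁻¹))⁻¹ := by group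
      _ = (v * o * v⁻¹) * o⁻¹ := by rw [hvinv, hv, one_mul, mul_one]
      _ = (o * (v * o * v⁻¹)⁻¹)⁻¹ := by group
  have h1 := tpi3_inverts O hw hvw hOab hwO hodd hfixw hm hvm
  have hvwvw : (v * w) * (v * w) = 1 := by
    calc (v * w) * (v * w) = v * (w * v) * w := by group
      _ = v * (v * w) * w := by rw [hvw]
      _ = (v * v) * (w * w) := by group
      _ = 1 := by rw [hv, hw, one_mul]
  have hvvw : v * (v * w) = (v * w) * v := by
    calc v * (v * w) = v * (w * v) := by rw [hvw]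
      _ = (v * w) * v := by group
  have hvwO : ∀ a ∈ O, (v * w) * a * (v * w)⁻¹ ∈ O := by
    intro a ha
    have := hvO _ (hwO a ha)
    have e : (v * w) * a * (v * w)⁻¹ = v * (w * a * w⁻¹) * v⁻¹ := by group
    rw [e]
    exact this
  have h2 := tpi3_inverts O hvwvw hvvw hOab hvwO hodd hfixvw hm hvm
  -- but `(v w) m (v w)⁻¹ = v (w m w⁻¹) v⁻¹ = v m⁻¹ v⁻¹ = m`
  have h3 : (v * w) * (o * (v * o * v⁻¹)⁻¹) * (v * w)⁻¹ = o * (v * o * v⁻¹)⁻¹ := by
    calc (v * w) * (o * (v * o * v⁻¹)⁻¹) * (v * w)⁻¹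
        = v * (w * (o * (v * o * v⁻¹)⁻¹) * w⁻¹) * v⁻¹ := by group
      _ = v * (o * (v * o * v⁻¹)⁻¹)⁻¹ * v⁻¹ := by rw [h1]
      _ = (v * (o * (v * o * v⁻¹)⁻¹) * v⁻¹)⁻¹ := tpi3_conj_inv v _
      _ = o * (v * o * v⁻¹)⁻¹ := by rw [hvm, inv_inv]
  have h4 : (o * (v * o * v⁻¹)⁻¹) * (o * (v * o * v⁻¹)⁻¹) = 1 := by
    have : o * (v * o * v⁻¹)⁻¹ = (o * (v * o * v⁻¹)⁻¹)⁻¹ := by rw [← h2, h3]
    calc (o * (v * o * v⁻¹)⁻¹) * (o * (v * o * v⁻¹)⁻¹)
        = (o * (v * o * v⁻¹)⁻¹) * (o * (v * o * v⁻¹)⁻¹)⁻¹ := by rw [← this]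
      _ = 1 := mul_inv_cancel _
  have h5 := hodd _ hm h4
  have h6 : o = v * o * v⁻¹ := mul_inv_eq_one.1 h5
  exact h6.symm

/-- elements of the elementary abelian group `Q` commute -/
theorem tpi3_Q_comm {p : ℕ} {G : Type*} [Group G] [Finite G] (s : Setup p G) {v w : G}
    (hv : v ∈ (s.Q : Subgroup G)) (hw : w ∈ (s.Q : Subgroup G)) : v * w = w * v := by
  have h1 := s.hexp _ ((s.Q : Subgroup G).mul_mem hv hw)
  have hvinv : v⁻¹ = v := inv_eq_of_mul_eq_one_left (s.hexp v hv)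
  have hwinv : w⁻¹ = w := inv_eq_of_mul_eq_one_left (s.hexp w hw)
  have h2 : (v * w)⁻¹ = v * w := inv_eq_of_mul_eq_one_left h1
  rw [mul_inv_rev, hvinv, hwinv] at h2
  exact h2.symm

/-- `Q` has an element different from `1` and `b` -/
theorem tpi3_exists_third {p : ℕ} {G : Type*} [Group G] [Finite G] (s : Setup p G) (b : G) :
    ∃ w ∈ (s.Q : Subgroup G), w ≠ 1 ∧ w ≠ b := by
  classical
  have hp := s.ctx.hp
  haveI : Fact (Nat.Prime 2) := ⟨Nat.prime_two⟩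
  have hcardQ : Nat.card (s.Q : Subgroup G) = p + 1 := by
    rw [s.Q.card_eq_multiplicity, s.ctx.two_part]
  by_contra hcon
  push Not at hcon
  have hsub : ((s.Q : Subgroup G) : Set G) ⊆ ({1, b} : Set G) := by
    intro w hw
    by_cases h1 : w = 1
    · rw [h1]; exact Set.mem_insert _ _
    · have := hcon w hw h1
      rw [this]
      exact Set.mem_insert_of_mem _ (Set.mem_singleton b)
  have h1 := Set.ncard_le_ncard hsub (Set.toFinite _)
  have h2 : ({1, b} : Set G).ncard ≤ 2 := by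
    refine (Set.ncard_insert_le 1 {b}).trans ?_
    rw [Set.ncard_singleton]
  have h3 : Nat.card (s.Q : Subgroup G) = ((s.Q : Subgroup G) : Set G).ncard :=
    Nat.card_coe_set_eq _
  have := hp.two_le
  omega

theorem tpi3_core {p : ℕ} {G : Type*} [Group G] [Finite G] (s : Setup p G) (hI : CaseI s)
    (hTI : ∀ g v : G, v ∈ (s.Q : Subgroup G) → v ≠ 1 → g * v * g⁻¹ ∈ (s.Q : Subgroup G) →
        g ∈ Subgroup.normalizer ((s.Q : Subgroup G) : Set G))
    {b d y : G} (hbQ : b ∈ (s.Q : Subgroup G)) (hb : orderOf b = 2) (hd1 : d ≠ 1)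
    (hdp : ∃ k : ℕ, orderOf d = p ^ k)
    (hdb : d * b = b * d) (hyd : y * d = d * y) (hinv : b * y * b⁻¹ = y⁻¹)
    (hodd : ¬ 2 ∣ orderOf y) : y = 1 := by
  classical
  have hp := s.ctx.hp
  haveI : Fact p.Prime := ⟨hp⟩
  have hp2 := s.ctx.hp2
  haveI := s.ctx.simple
  have hb1 : b ≠ 1 := by
    rintro rfl
    rw [orderOf_one] at hb
    exact absurd hb (by norm_num)
  obtain ⟨L, hL⟩ : ∃ L : Subgroup G, L = Subgroup.centralizer ({d} : Set G) := ⟨_, rfl⟩
  have hmemL : ∀ g : G, g ∈ L ↔ d * g = g * d := by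
    intro g
    rw [hL, Subgroup.mem_centralizer_iff]
    constructor
    · intro h; exact h d (Set.mem_singleton d)
    · intro h x hx
      rw [Set.mem_singleton_iff] at hx
      rw [hx]; exact h
  have hbL : b ∈ L := (hmemL b).2 hdb
  have hyL : y ∈ L := (hmemL y).2 hyd.symm
  have h2G : 2 ∣ Nat.card G := hb ▸ orderOf_dvd_natCard b
  have hLtop : L ≠ ⊤ := by
    intro htop
    have hcomm : ∀ g : G, d * g = g * d := fun g => (hmemL g).1 (htop ▸ Subgroup.mem_top g)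
    have hn : (Subgroup.zpowers d).Normal := by
      constructor
      intro n hn g
      obtain ⟨k, rfl⟩ := Subgroup.mem_zpowers_iff.1 hn
      have hc : Commute g d := (hcomm g).symm
      have e : g * d ^ k * g⁻¹ = d ^ k := by
        rw [(hc.zpow_right k).eq, mul_inv_cancel_right]
      rw [e]
      exact Subgroup.zpow_mem_zpowers d k
    rcases hn.eq_bot_or_eq_top with h | h
    · exact hd1 (Subgroup.zpowers_eq_bot.1 h)
    · obtain ⟨k, hk⟩ := hdp
      have hcard : Nat.card G = p ^ k := by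
        rw [← hk, ← Nat.card_zpowers, h, Subgroup.card_top]
      rw [hcard] at h2G
      have := (Nat.prime_dvd_prime_iff_eq Nat.prime_two hp).1 (Nat.prime_two.dvd_of_dvd_pow h2G)
      exact hp2 this.symm
  have h2L : 2 ∣ Nat.card L := hb ▸ Subgroup.orderOf_dvd_natCard L hbL
  have hstarL := s.ctx.star L hLtop h2L
  obtain ⟨i, j, hcard⟩ := tpi3_card_form (p := p) (Nat.card_pos (α := L)).ne' hstarL
  have hsolv : Group.IsSolvable ↥L :=
    Cfsg.Agent.Lib.Helper3.isSolvable_of_card_eq_prime_pow_mul 2 p i j Nat.prime_two hp hcard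
  have hps : Cfsg.IsPSolvable p ↥L := Cfsg.Agent.Lib.Helper53.isPSolvable_of_isSolvable p hsolv
  -- `Q ≤ L`
  have hdY : d ∈ Yof p b := by
    refine mem_Yof ?_ hdp
    rw [Subgroup.mem_centralizer_iff]
    intro x hx
    rw [Set.mem_singleton_iff] at hx
    rw [hx]; exact hdb.symm
  have hQL : (s.Q : Subgroup G) ≤ L := by
    intro q hq
    exact (hmemL q).2 (hI b hbQ hb1 q hq d hdY).symm
  -- main claim
  have hLN : L ≤ Subgroup.normalizer ((s.Q : Subgroup G) : Set G) := by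
    by_cases hO : Cfsg.pPrimeCore p ↥L = ⊥
    · exfalso
      have hHH := Cfsg.Agent.Lib.Helper76.centralizer_pCore_le_of_isPSolvable hps hO
      have hpg : IsPGroup p (Cfsg.pCore p ↥L) := Cfsg.Agent.Lib.Helper55.pCore_isPGroup p
      have hpn : (Cfsg.pCore p ↥L).Normal := Cfsg.Agent.Lib.Helper55.pCore_normal' p
      obtain ⟨O, hOdef⟩ : ∃ O : Subgroup G, O = (Cfsg.pCore p ↥L).map L.subtype := ⟨_, rfl⟩
      have hOp : IsPGroup p O := by rw [hOdef]; exact hpg.map L.subtype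
      obtain ⟨R, hR⟩ := hOp.exists_le_sylow
      have hOab : ∀ a ∈ O, ∀ c ∈ O, a * c = c * a := by
        intro a ha c hc
        have := (s.ctx.abel R).is_comm.comm ⟨a, hR ha⟩ ⟨c, hR hc⟩
        exact congrArg Subtype.val this
      have hconjO : ∀ l ∈ L, ∀ a ∈ O, l * a * l⁻¹ ∈ O := by
        intro l hl a ha
        rw [hOdef] at ha ⊢
        obtain ⟨a', ha', rfl⟩ := ha
        refine ⟨(⟨l, hl⟩ : ↥L) * a' * (⟨l, hl⟩ : ↥L)⁻¹, hpn.conj_mem a' ha' _, ?_⟩
        simp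
      have hoddO : ∀ a ∈ O, a * a = 1 → a = 1 := by
        intro a ha haa
        obtain ⟨k, hk⟩ := (IsPGroup.iff_orderOf.1 hOp) ⟨a, ha⟩
        rw [Subgroup.orderOf_mk] at hk
        have hd2 : orderOf a ∣ 2 := orderOf_dvd_of_pow_eq_one (by rw [pow_two]; exact haa)
        rcases Nat.eq_zero_or_pos k with hk0 | hk0
        · rw [hk0, pow_zero] at hk
          exact orderOf_eq_one_iff.1 hk
        · exfalso
          have hpd : p ∣ 2 := (dvd_pow_self p hk0.ne').trans (hk ▸ hd2)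
          have := (Nat.prime_dvd_prime_iff_eq hp Nat.prime_two).1 hpd
          exact hp2 this
      have hfix : ∀ t ∈ (s.Q : Subgroup G), t ≠ 1 → ∀ n ∈ O, t * n * t⁻¹ = n → b * n * b⁻¹ = n := by
        intro t htQ ht1 n hn htn
        have htn' : t * n = n * t := mul_inv_eq_iff_eq_mul.1 htn
        obtain ⟨k, hk⟩ := (IsPGroup.iff_orderOf.1 hOp) ⟨n, hn⟩
        rw [Subgroup.orderOf_mk] at hk
        have hnY : n ∈ Yof p t := by
          refine mem_Yof ?_ ⟨k, hk⟩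
          rw [Subgroup.mem_centralizer_iff]
          intro x hx
          rw [Set.mem_singleton_iff] at hx
          rw [hx]; exact htn'
        have := hI t htQ ht1 b hbQ n hnY
        rw [this, mul_inv_cancel_right]
      obtain ⟨w, hwQ, hw1, hwb⟩ := tpi3_exists_third s b
      have hbw1 : b * w ≠ 1 := by
        intro h
        have hbinv : b⁻¹ = b := inv_eq_of_mul_eq_one_left (s.hexp b hbQ)
        have := eq_inv_of_mul_eq_one_right h
        rw [hbinv] at this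
        exact hwb this
      have hcent : ∀ o ∈ O, b * o * b⁻¹ = o := by
        intro o ho
        exact tpi3_centralizes O (s.hexp b hbQ) (s.hexp w hwQ) (tpi3_Q_comm s hbQ hwQ) hOab
          (hconjO b hbL) (hconjO w (hQL hwQ)) hoddO
          (hfix w hwQ hw1) (hfix (b * w) ((s.Q : Subgroup G).mul_mem hbQ hwQ) hbw1) ho
      have hbc : (⟨b, hbL⟩ : ↥L) ∈ Subgroup.centralizer (Cfsg.pCore p ↥L : Set ↥L) := by
        rw [Subgroup.mem_centralizer_iff]
        intro o ho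
        apply Subtype.ext
        have hoO : (o : G) ∈ O := by rw [hOdef]; exact ⟨o, ho, rfl⟩
        have h := hcent _ hoO
        have h' : b * (o : G) = (o : G) * b := mul_inv_eq_iff_eq_mul.1 h
        exact h'.symm
      have hbO := hHH hbc
      obtain ⟨k, hk⟩ := (IsPGroup.iff_orderOf.1 hpg) ⟨⟨b, hbL⟩, hbO⟩
      rw [Subgroup.orderOf_mk, Subgroup.orderOf_mk, hb] at hk
      rcases Nat.eq_zero_or_pos k with hk0 | hk0
      · rw [hk0, pow_zero] at hk
        exact absurd hk (by norm_num)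
      · have hpd : p ∣ 2 := hk ▸ dvd_pow_self p hk0.ne'
        have := (Nat.prime_dvd_prime_iff_eq hp Nat.prime_two).1 hpd
        exact hp2 this
    · obtain ⟨N, hNdef⟩ : ∃ N : Subgroup ↥L, N = Cfsg.pPrimeCore p ↥L := ⟨_, rfl⟩
      have hNn : N.Normal := by rw [hNdef]; exact Cfsg.Agent.Lib.Helper55.pPrimeCore_normal' p
      have hNcop : (Nat.card N).Coprime p := by
        rw [hNdef]; exact Cfsg.Agent.Lib.Helper55.pPrimeCore_card_coprime p
      have hNdvd : Nat.card N ∣ 2 ^ i := by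
        have h1 : Nat.card N ∣ 2 ^ i * p ^ j := hcard ▸ Subgroup.card_subgroup_dvd_card N
        exact (Nat.Coprime.pow_right j hNcop).dvd_of_dvd_mul_right h1
      obtain ⟨k, -, hk⟩ := (Nat.dvd_prime_pow Nat.prime_two).1 hNdvd
      have hN2 : IsPGroup 2 N := IsPGroup.of_card hk
      obtain ⟨Q', hQ'⟩ : ∃ Q' : Sylow 2 ↥L, (Q' : Subgroup ↥L) = (s.Q : Subgroup G).subgroupOf L :=
        ⟨s.Q.subtype hQL, rfl⟩
      have hsup : IsPGroup 2 (N ⊔ (Q' : Subgroup ↥L) : Subgroup ↥L) :=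
        IsPGroup.to_sup_of_normal_left hN2 Q'.2
      have hNQ : N ≤ (Q' : Subgroup ↥L) := by
        have := Q'.is_maximal' hsup le_sup_right
        rw [← this]; exact le_sup_left
      have hNne : N ≠ ⊥ := by rw [hNdef]; exact hO
      obtain ⟨⟨v, hvN⟩, hv1⟩ := (Subgroup.ne_bot_iff_exists_ne_one.1 hNne)
      have hv1' : (v : G) ≠ 1 := by
        intro h
        apply hv1
        apply Subtype.ext
        apply Subtype.ext
        exact h
      have hvQ : (v : G) ∈ (s.Q : Subgroup G) := by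
        have := hNQ hvN
        rw [hQ', Subgroup.mem_subgroupOf] at this
        exact this
      intro l hl
      have h1 : (⟨l, hl⟩ : ↥L)⁻¹ * v * (⟨l, hl⟩ : ↥L)⁻¹⁻¹ ∈ N := hNn.conj_mem v hvN _
      have h2 := hNQ h1
      rw [hQ', Subgroup.mem_subgroupOf] at h2
      have h3 : l⁻¹ * (v : G) * l⁻¹⁻¹ ∈ (s.Q : Subgroup G) := by
        simpa using h2
      have h4 := hTI l⁻¹ (v : G) hvQ hv1' h3
      have h5 := (Subgroup.normalizer ((s.Q : Subgroup G) : Set G)).inv_mem h4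
      rwa [inv_inv] at h5
  -- conclusion
  have hyN := hLN hyL
  have hyb : y * b * y⁻¹ ∈ (s.Q : Subgroup G) := (Subgroup.mem_normalizer_iff.1 hyN b).1 hbQ
  have hmem : y⁻¹ * y⁻¹ ∈ (s.Q : Subgroup G) := by
    have h1 : b * (y * b * y⁻¹)⁻¹ ∈ (s.Q : Subgroup G) :=
      (s.Q : Subgroup G).mul_mem hbQ ((s.Q : Subgroup G).inv_mem hyb)
    have e : b * (y * b * y⁻¹)⁻¹ = (b * y * b⁻¹) * y⁻¹ := by group
    rw [e, hinv] at h1
    exact h1
  have h4 : (y⁻¹ * y⁻¹) * (y⁻¹ * y⁻¹) = 1 := s.hexp _ hmem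
  have hy4 : y ^ 4 = 1 := by
    have h5 : (y ^ 4)⁻¹ = 1 := by
      rw [← h4]; group
    exact inv_eq_one.1 h5
  have hdvd : orderOf y ∣ 4 := orderOf_dvd_of_pow_eq_one hy4
  have hcop : Nat.Coprime (orderOf y) 4 := by
    have h2 : Nat.Coprime (orderOf y) 2 :=
      Nat.Coprime.symm ((Nat.Prime.coprime_iff_not_dvd Nat.prime_two).2 hodd)
    have : Nat.Coprime (orderOf y) (2 ^ 2) := Nat.Coprime.pow_right 2 h2
    exact this
  have h1 : orderOf y = 1 := Nat.Coprime.eq_one_of_dvd hcop hdvd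
  exact orderOf_eq_one_iff.1 h1

theorem no_inverted_in_cent {p : ℕ} {G : Type*} [Group G] [Finite G] (s : Setup p G) (hI : CaseI s)
    (hTI : ∀ g v : G, v ∈ (s.Q : Subgroup G) → v ≠ 1 → g * v * g⁻¹ ∈ (s.Q : Subgroup G) →
        g ∈ Subgroup.normalizer ((s.Q : Subgroup G) : Set G))
    {b d y : G} (hb : orderOf b = 2) (hd1 : d ≠ 1) (hdp : ∃ k : ℕ, orderOf d = p ^ k)
    (hdb : d * b = b * d) (hyd : y * d = d * y) (hinv : b * y * b⁻¹ = y⁻¹)
    (hodd : ¬ 2 ∣ orderOf y) : y = 1 := by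
  classical
  haveI : Fact (Nat.Prime 2) := ⟨Nat.prime_two⟩
  have hzp : IsPGroup 2 (Subgroup.zpowers b) := by
    apply IsPGroup.of_card (n := 1)
    rw [Nat.card_zpowers, hb, pow_one]
  obtain ⟨P0, hP0⟩ := hzp.exists_le_sylow
  obtain ⟨g, hg⟩ := MulAction.exists_smul_eq G P0 s.Q
  have hbP0 : b ∈ (P0 : Subgroup G) := hP0 (Subgroup.mem_zpowers b)
  have hgb : g * b * g⁻¹ ∈ (s.Q : Subgroup G) := by
    rw [← hg, Sylow.coe_subgroup_smul]
    have := Subgroup.smul_mem_pointwise_smul b (MulAut.conj g) (P0 : Subgroup G) hbP0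
    simpa [MulAut.smul_def] using this
  have hord : ∀ x : G, orderOf (g * x * g⁻¹) = orderOf x := by
    intro x
    rw [← MulAut.conj_apply]
    exact MulEquiv.orderOf_eq _ x
  have key := tpi3_core s hI hTI (b := g * b * g⁻¹) (d := g * d * g⁻¹) (y := g * y * g⁻¹) hgb
    (by rw [hord, hb]) (by rw [Ne, conj_eq_one_iff]; exact hd1)
    (by obtain ⟨k, hk⟩ := hdp; exact ⟨k, by rw [hord, hk]⟩)
    (by
      calc (g * d * g⁻¹) * (g * b * g⁻¹) = g * (d * b) * g⁻¹ := by group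
        _ = g * (b * d) * g⁻¹ := by rw [hdb]
        _ = (g * b * g⁻¹) * (g * d * g⁻¹) := by group)
    (by
      calc (g * y * g⁻¹) * (g * d * g⁻¹) = g * (y * d) * g⁻¹ := by group
        _ = g * (d * y) * g⁻¹ := by rw [hyd]
        _ = (g * d * g⁻¹) * (g * y * g⁻¹) := by group)
    (by
      calc (g * b * g⁻¹) * (g * y * g⁻¹) * (g * b * g⁻¹)⁻¹ = g * (b * y * b⁻¹) * g⁻¹ := by group
        _ = g * y⁻¹ * g⁻¹ := by rw [hinv]
        _ = (g * y * g⁻¹)⁻¹ := tpi3_conj_inv g y)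
    (by rw [hord]; exact hodd)
  exact conj_eq_one_iff.1 key

end Cfsg.Agent.Lib.Helper66.Tp
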