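import Cfsg.Agent.Lib.Helper66.TpDefs

/-!
# Tp hive (S4017), leaf TP-I4 `sylow_of_noncomm` (helper62)
-/

set_option autoImplicit false
set_option linter.style.haveILetI false

namespace Cfsg.Agent.Lib.Helper66.Tp

theorem tpi4_conj_pow {G : Type*} [Group G] (b y : G) (k : ℤ) :
    b * y ^ k * b⁻¹ = (b * y * b⁻¹) ^ k := by
  have h := map_zpow (MulAut.conj b) y k
  simp only [MulAut.conj_apply] at h
  exact h

theorem sylow_of_noncomm {p : ℕ} {G : Type*} [Group G] [Finite G] (s : Setup p G)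
    (h2 : ∀ a b : G, orderOf a = 2 → orderOf b = 2 → a * b ≠ b * a →
      (∃ j : ℕ, orderOf (a * b) = p ^ j) ∧ ¬ 2 ∣ Nat.card (Subgroup.centralizer ({a * b} : Set G)))
    (h3 : ∀ b d y : G, orderOf b = 2 → d ≠ 1 → (∃ k : ℕ, orderOf d = p ^ k) → d * b = b * d →
      y * d = d * y → b * y * b⁻¹ = y⁻¹ → ¬ 2 ∣ orderOf y → y = 1)
    {a b : G} (ha : orderOf a = 2) (hb : orderOf b = 2) (hab : a * b ≠ b * a) :
    ∃ A : Sylow p G, (A : Subgroup G) = Subgroup.centralizer ({a * b} : Set G) ∧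
      ∀ z ∈ (A : Subgroup G), b * z * b⁻¹ = z⁻¹ := by
  classical
  have hp := s.ctx.hp
  haveI : Fact p.Prime := ⟨hp⟩
  have hp2 := s.ctx.hp2
  haveI := s.ctx.simple
  have haa : a * a = 1 := by rw [← pow_two, ← ha, pow_orderOf_eq_one]
  have hbb : b * b = 1 := by rw [← pow_two, ← hb, pow_orderOf_eq_one]
  have hainv : a⁻¹ = a := inv_eq_of_mul_eq_one_left haa
  have hbinv : b⁻¹ = b := inv_eq_of_mul_eq_one_left hbb
  obtain ⟨⟨j, hj⟩, hCodd⟩ := h2 a b ha hb hab
  obtain ⟨y, hy⟩ : ∃ y, y = a * b := ⟨_, rfl⟩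
  rw [← hy] at hj hCodd ⊢
  have hy1 : y ≠ 1 := by
    intro h
    apply hab
    have h' : a * b = 1 := by rw [← hy]; exact h
    have : a = b := by
      have := eq_inv_of_mul_eq_one_left h'
      rw [hbinv] at this
      exact this
    rw [this]
  have hinv : b * y * b⁻¹ = y⁻¹ := by
    rw [hy, hbinv, mul_inv_rev, hainv, hbinv]
    calc b * (a * b) * b = b * a * (b * b) := by group
      _ = b * a := by rw [hbb, mul_one]
  have hyodd : ¬ 2 ∣ orderOf y := by
    rw [hj]
    intro h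
    have := (Nat.prime_dvd_prime_iff_eq Nat.prime_two hp).1 (Nat.prime_two.dvd_of_dvd_pow h)
    exact hp2 this.symm
  -- the normalizer of `⟨y⟩`
  have hbK : b ∈ Subgroup.normalizer ((Subgroup.zpowers y : Subgroup G) : Set G) := by
    have hfwd : ∀ h : G, h ∈ Subgroup.zpowers y → b * h * b⁻¹ ∈ Subgroup.zpowers y := by
      intro h hh
      obtain ⟨k, rfl⟩ := Subgroup.mem_zpowers_iff.1 hh
      rw [tpi4_conj_pow, hinv, inv_zpow]
      exact (Subgroup.zpowers y).inv_mem (Subgroup.zpow_mem_zpowers y k)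
    rw [Subgroup.mem_normalizer_iff]
    intro h
    constructor
    · exact hfwd h
    · intro hh
      have := hfwd _ hh
      rw [hbinv] at this
      have e : b * (b * h * b) * b = h := by
        calc b * (b * h * b) * b = (b * b) * h * (b * b) := by group
          _ = h := by rw [hbb, one_mul, mul_one]
      rw [hbinv] at hh
      rwa [e] at this
  have hKtop : Subgroup.normalizer ((Subgroup.zpowers y : Subgroup G) : Set G) ≠ ⊤ := by
    intro htop
    have hn : (Subgroup.zpowers y).Normal := Subgroup.normalizer_eq_top_iff.1 htop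
    rcases hn.eq_bot_or_eq_top with h | h
    · exact hy1 (Subgroup.zpowers_eq_bot.1 h)
    · apply hab
      have haz : a ∈ Subgroup.zpowers y := by rw [h]; trivial
      have hbz : b ∈ Subgroup.zpowers y := by rw [h]; trivial
      obtain ⟨m, rfl⟩ := Subgroup.mem_zpowers_iff.1 haz
      obtain ⟨n, rfl⟩ := Subgroup.mem_zpowers_iff.1 hbz
      rw [← zpow_add, ← zpow_add, add_comm]
  have h2K : 2 ∣ Nat.card (Subgroup.normalizer ((Subgroup.zpowers y : Subgroup G) : Set G)) := by
    rw [← hb]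
    exact Subgroup.orderOf_dvd_natCard _ hbK
  have hstar := s.ctx.star _ hKtop h2K
  -- the centralizer of `y` is a `p`-group
  have hCK : Subgroup.centralizer ({y} : Set G) ≤
      Subgroup.normalizer ((Subgroup.zpowers y : Subgroup G) : Set G) := by
    intro g hg
    have hgy : g * y = y * g := by
      have := Subgroup.mem_centralizer_iff.1 hg y (Set.mem_singleton y)
      exact this.symm
    have hconj : g * y * g⁻¹ = y := by rw [hgy, mul_inv_cancel_right]
    have hconj' : g⁻¹ * y * g⁻¹⁻¹ = y := by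
      rw [inv_inv]
      calc g⁻¹ * y * g = g⁻¹ * (y * g) := by group
        _ = g⁻¹ * (g * y) := by rw [hgy]
        _ = y := by group
    rw [Subgroup.mem_normalizer_iff]
    intro h
    constructor
    · intro hh
      obtain ⟨k, rfl⟩ := Subgroup.mem_zpowers_iff.1 hh
      rw [tpi4_conj_pow, hconj]
      exact Subgroup.zpow_mem_zpowers y k
    · intro hh
      obtain ⟨k, hk⟩ := Subgroup.mem_zpowers_iff.1 hh
      have : h = g⁻¹ * (y ^ k) * g⁻¹⁻¹ := by rw [hk]; group
      rw [this, tpi4_conj_pow, hconj']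
      exact Subgroup.zpow_mem_zpowers y k
  have hCp : IsPGroup p (Subgroup.centralizer ({y} : Set G)) := by
    have hne : Nat.card (Subgroup.centralizer ({y} : Set G)) ≠ 0 := Nat.card_pos.ne'
    have := Nat.eq_prime_pow_of_unique_prime_dvd (p := p) hne (by
      intro d hd hdC
      rcases hstar d hd (hdC.trans (Subgroup.card_dvd_of_le hCK)) with h | h
      · exact absurd (h ▸ hdC) hCodd
      · exact h)
    exact IsPGroup.of_card this
  -- a Sylow `p`-subgroup containing `y`
  have hzp : IsPGroup p (Subgroup.zpowers y) := by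
    apply IsPGroup.of_card (n := j)
    rw [Nat.card_zpowers, hj]
  obtain ⟨A, hA⟩ := hzp.exists_le_sylow
  have hyA : y ∈ (A : Subgroup G) := hA (Subgroup.mem_zpowers y)
  have hAcomm : ∀ z ∈ (A : Subgroup G), ∀ w ∈ (A : Subgroup G), z * w = w * z := by
    intro z hz w hw
    have := (s.ctx.abel A).is_comm.comm ⟨z, hz⟩ ⟨w, hw⟩
    exact congrArg Subtype.val this
  have hAC : (A : Subgroup G) ≤ Subgroup.centralizer ({y} : Set G) := by
    intro z hz
    rw [Subgroup.mem_centralizer_iff]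
    intro h hh
    rw [Set.mem_singleton_iff] at hh
    rw [hh]
    exact hAcomm y hyA z hz
  have hCA : Subgroup.centralizer ({y} : Set G) = (A : Subgroup G) := A.is_maximal' hCp hAC
  refine ⟨A, hCA.symm, ?_⟩
  intro z hz
  -- `z' := b z b⁻¹` lies in `C(y) = A`
  have hzy : z * y = y * z := hAcomm z hz y hyA
  have hz'C : b * z * b⁻¹ ∈ (A : Subgroup G) := by
    rw [← hCA, Subgroup.mem_centralizer_iff]
    intro h hh
    rw [Set.mem_singleton_iff] at hh
    rw [hh]
    -- y * z' = z' * y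
    have e1 : (b * z * b⁻¹) * (b * y * b⁻¹) = (b * y * b⁻¹) * (b * z * b⁻¹) := by
      calc (b * z * b⁻¹) * (b * y * b⁻¹) = b * (z * y) * b⁻¹ := by group
        _ = b * (y * z) * b⁻¹ := by rw [hzy]
        _ = (b * y * b⁻¹) * (b * z * b⁻¹) := by group
    rw [hinv] at e1
    have e2 : Commute (b * z * b⁻¹) y⁻¹ := e1
    exact (Commute.inv_right_iff.1 e2).symm.eq
  have hcA : z * (b * z * b⁻¹) ∈ (A : Subgroup G) := (A : Subgroup G).mul_mem hz hz'C
  have hcb : (z * (b * z * b⁻¹)) * b = b * (z * (b * z * b⁻¹)) := by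
    have e : b * (z * (b * z * b⁻¹)) * b⁻¹ = z * (b * z * b⁻¹) := by
      calc b * (z * (b * z * b⁻¹)) * b⁻¹ = (b * z * b⁻¹) * ((b * b) * z * (b⁻¹ * b⁻¹)) := by group
        _ = (b * z * b⁻¹) * z := by rw [hbinv, hbb, one_mul, mul_one]
        _ = z * (b * z * b⁻¹) := hAcomm _ hz'C _ hz
    calc (z * (b * z * b⁻¹)) * b = (b * (z * (b * z * b⁻¹)) * b⁻¹) * b := by rw [e]
      _ = b * (z * (b * z * b⁻¹)) := by group
  by_cases hc1 : z * (b * z * b⁻¹) = 1
  · exact eq_inv_of_mul_eq_one_right hc1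
  · exfalso
    apply hy1
    refine h3 b (z * (b * z * b⁻¹)) y hb hc1 ?_ hcb (hAcomm y hyA _ hcA) hinv hyodd
    obtain ⟨k, hk⟩ := (IsPGroup.iff_orderOf.1 A.2) ⟨_, hcA⟩
    refine ⟨k, ?_⟩
    rw [← hk, Subgroup.orderOf_mk]

end Cfsg.Agent.Lib.Helper66.Tp
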